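import Cfsg.Agent.TwoF.Gen.BLay_m3
import Cfsg.Agent.H203.LSSz
import Cfsg.Agent.H203.LSTor_m3
import Cfsg.Agent.H203.LSE6_mg_m3
import Cfsg.Agent.S1059
import Cfsg.Agent.S1062
import Cfsg.Agent.S1067
import Cfsg.Agent.S1069
import Cfsg.Agent.S1163
import Cfsg.Agent.S2100
import Cfsg.Agent.S2103
import Cfsg.Agent.S2110
import Cfsg.Agent.S2111
import Cfsg.Agent.S2113
import Cfsg.Agent.S2121
import Cfsg.Agent.S2122
import Cfsg.Agent.S2126
import Cfsg.Agent.S2127
import Cfsg.Agent.S2129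
import Cfsg.Agent.Mrg.Omega.TwoF.E7Odd_mg_m3
import Cfsg.Agent.FastGrp
import Cfsg.Agent.Prune
set_option linter.all false

section
prune_inst 0x7ff1fffddbbcffdedfff7e7ffebcdffc3bd7dfffefdffb4bfffce3ffbbdfa3861fe5fbaf9de058fd1ed6e29c38b87813f9fecfffeb6bdc7ffffdfff41ffbee4ff5f7b50971d79d34cfbc0fff03f077ce7f3fffffffffffffffffffffffffffbeffffffffffff

-- part: TwoF/XE/Mid
section
prune_inst 0xe000024030020200000000143200200000000100004000002180004201018200800000000a00200010403000104400201300004042000000000034000003002080aa40000224010426000f801080000000000000000000000000000000000000000000000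
set_option linter.all false
open scoped Cfsg.Agent.FastGrp

/-!
# TwoF / XE: the box `²G₂`, and the boxes `F₄`, `³D₄`, `²B₂`, `G₂` up to their small members (helper6)
-/

set_option autoImplicit false

namespace Cfsg.Agent.TwoF.XE

open Cfsg.Lie

theorem center_eq_bot (S : Type) [Group S] [IsSimpleGroup S] (h : ¬ (Nat.card S).Prime) [Finite S] :
    Subgroup.center S = ⊥ := by
  refine (Subgroup.normal_of_characteristic (Subgroup.center S)).eq_bot_or_eq_top.resolve_right fun e => h ?_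
  let : CommGroup S := { (inferInstance : Group S) with
    mul_comm := fun a b => (Subgroup.mem_center_iff.1 (e ▸ Subgroup.mem_top b) a) }
  exact IsSimpleGroup.prime_card

theorem lin_lt_three_pow {m : ℕ} (hm : 2 ≤ m) : 36 * (2 * m + 1) + 1 < 3 ^ (2 * m + 1) := by
  induction m, hm using Nat.le_induction with
  | base => norm_num
  | succ n _ ih =>
    rw [show 2 * (n + 1) + 1 = 2 * n + 1 + 2 by ring, pow_add]
    omega

theorem lin_lt_two_pow {m : ℕ} (hm : 3 ≤ m) : 14 * (2 * m + 1) + 1 < 2 ^ (2 * m + 1) := by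
  induction m, hm using Nat.le_induction with
  | base => norm_num
  | succ n _ ih =>
    rw [show 2 * (n + 1) + 1 = 2 * n + 1 + 2 by ring, pow_add]
    omega

theorem boxRee : Box fun K _ => IsoRee K := by
  rintro p _ S _ _ _ ⟨F, _, _, m, hm, hF, ⟨e⟩⟩ hp -
  have hrp : 3 ≠ p := by
    rintro rfl
    exact hp (by
      unfold IsLieTypeChar
      exact .inr <| .inr <| .inr <| .inr <| .inr <| .inr <| .inr <| .inr <| .inr <| .inr ⟨rfl, F, _, _, m, hm, hF, ⟨e⟩⟩)
  have : Finite (twistedG2 F (3 ^ m)) := Finite.of_equiv _ e.toEquiv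
  have : IsSimpleGroup (twistedG2 F (3 ^ m)) := e.symm.isSimpleGroup
  have h1 := H203.LS.LS.ree.{0, 0, 0} hm hF
  rw [Nat.card_eq_fintype_card, hF] at h1
  have hS := S1069.result hF
  have hO := S2127.result hm hF
  refine Row.of_equiv ?_ e
  by_cases h2 : m = 1
  · subst h2
    have hA := card_aut (center_eq_bot (twistedG2 F (3 ^ 1)) (by rw [hS]; norm_num))
    rw [hS, hO] at hA
    by_cases h7 : 7 ≤ p
    · exact (noOff_of_ls' h1 Nat.prime_three hrp (S2113.result hm hF) one_ne_zero hS.le hO.le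
        (lt_of_lt_of_le (by norm_num) (Nat.pow_le_pow_left h7 _))).row
    have hp' : p.Prime := Fact.out
    have h5 : p = 2 ∨ p = 5 := by
      have := hp'.two_le
      interval_cases p <;> first | omega | exact absurd hp' (by norm_num)
    rcases h5 with rfl | rfl
    · exact ⟨row88_of_not_dvd (by rw [hA, Gen.small_two]; norm_num), row89_of_not_dvd (by rw [hO]; norm_num)⟩
    · exact (noOff_of_not_dvd (by rw [hA]; norm_num)).row
  refine (noOff_of_ls' h1 Nat.prime_three hrp (S2113.result hm hF) one_ne_zero hS.le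
    (hO.le.trans (exp_le (r := 3) (by norm_num))) ?_).row
  have h3 := lin_lt_three_pow (m := m) (by omega)
  have h4 : 3 ^ (2 * m + 1) ≤ 2 ^ (2 * (2 * m + 1)) := by
    rw [pow_mul]
    exact Nat.pow_le_pow_left (by norm_num) _
  refine sq_lt_pow (a := 2 * (2 * m + 1) * 9) ?_ (by omega)
  rw [pow_mul]
  refine le_trans ?_ (Nat.pow_le_pow_left h4 9)
  generalize 3 ^ (2 * m + 1) = q at *
  have hq : 2 ≤ q := by omega
  calc _ ≤ 1 * (q ^ 3 * q * q ^ (3 + 1)) * q := by
        gcongr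
        all_goals first | exact Nat.sub_le _ _ | exact pow_add_one_le hq _
    _ = _ := by ring

/-- the Suzuki groups, given `Sz(8)` -/
theorem boxSz_of (H : ∀ (p : ℕ) [Fact p.Prime] (F : Type) [Field F] [Fintype F], Fintype.card F = 8 → p ≠ 2 →
    Row p (Lie.Sz F 4)) : Box fun K _ => IsoSuzuki K := by
  rintro p _ S _ _ _ ⟨F, _, _, m, hm, hF, ⟨e⟩⟩ hp -
  have hrp : 2 ≠ p := by
    rintro rfl
    exact hp (by
      unfold IsLieTypeChar
      exact .inr <| .inr <| .inr <| .inr <| .inr <| .inr <| .inr <| .inr <| .inl ⟨rfl, F, _, _, m, hm, hF, ⟨e⟩⟩)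
  have : Finite (Lie.Sz F (2 ^ (m + 1))) := Finite.of_equiv _ e.toEquiv
  have : IsSimpleGroup (Lie.Sz F (2 ^ (m + 1))) := e.symm.isSimpleGroup
  have h1 := H203.LS.LS.sz.{0, 0, 0} hm hF
  rw [Nat.card_eq_fintype_card, hF] at h1
  have hS := (S1163.result hm hF).1
  have hO := S2126.result hm hF
  refine Row.of_equiv ?_ e
  by_cases h2 : m = 1
  · subst h2
    exact H p F hF hrp.symm
  have hm2 : 2 ≤ m := by omega
  by_cases h2 : m = 2
  · subst h2
    by_cases h5 : 5 ≤ p
    · exact (noOff_of_ls' h1 Nat.prime_two hrp (S2111.result hm2 hF) one_ne_zero hS.le hO.le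
        (lt_of_lt_of_le (by norm_num) (Nat.pow_le_pow_left h5 _))).row
    have hp' : p.Prime := Fact.out
    obtain rfl : p = 3 := by
      have := hp'.two_le
      interval_cases p <;> first | omega | exact absurd hp' (by norm_num)
    have hA := card_aut (center_eq_bot (Lie.Sz F (2 ^ (2 + 1))) (by rw [hS]; norm_num))
    rw [hS, hO] at hA
    exact (noOff_of_not_dvd (by rw [hA]; norm_num)).row
  refine (noOff_of_ls' h1 Nat.prime_two hrp (S2111.result hm2 hF) one_ne_zero hS.le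
    (hO.le.trans (exp_le (r := 2) le_rfl)) ?_).row
  have h3 := lin_lt_two_pow (m := m) (by omega)
  refine sq_lt_pow (a := (2 * m + 1) * 7) ?_ (by omega)
  rw [pow_mul]
  generalize 2 ^ (2 * m + 1) = q at *
  have hq : 2 ≤ q := by omega
  calc _ ≤ 1 * (q ^ 2 * q * q ^ (2 + 1)) * q := by
        gcongr
        all_goals first | exact Nat.sub_le _ _ | exact pow_add_one_le hq _
    _ = _ := by ring

/-- the groups `³D₄(q)`, given `³D₄(2)` -/
theorem box3D4_of (H : ∀ (p : ℕ) [Fact p.Prime] (F : Type) [Field F] [Fintype F], Fintype.card F = 8 → p ≠ 2 →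
    Row p (twistedD4 F 2)) : Box fun K _ => Iso3D4 K := by
  rintro p _ S _ _ _ ⟨F, _, _, q, hqq, hK, ⟨e⟩⟩ hp -
  obtain ⟨r, f, hr, hc, hf, hF⟩ := exists_char' F hqq hK
  have : Fact r.Prime := ⟨hr⟩
  have hrp : r ≠ p := by
    rintro rfl
    exact hp (by
      unfold IsLieTypeChar IsTwistedE6D4Char
      exact .inr <| .inr <| .inr <| .inr <| .inr <| .inr <| .inr <| .inl ⟨F, _, _, hc, q, hqq, .inr ⟨hK, ⟨e⟩⟩⟩)
  have : Finite (twistedD4 F q) := Finite.of_equiv _ e.toEquiv
  have : Nontrivial (twistedD4 F q) := e.symm.toEquiv.nontrivial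
  have hq : 2 ≤ q := hqq.two_le
  have hfq : f ≤ q := hF ▸ exp_le hr.two_le
  have hO : Nat.card (Out (twistedD4 F q)) = 3 * f := by
    subst hF
    exact S2129.result r f (by rw [hK, ← pow_mul, mul_comm]) hf
  refine Row.of_equiv ?_ e
  by_cases h2 : q = 2
  · obtain rfl : r = 2 := (Nat.prime_dvd_prime_iff_eq hr Nat.prime_two).1
      (h2 ▸ hF ▸ dvd_pow_self r (by omega))
    subst h2
    exact H p F hK hrp.symm
  have hq3 : 3 ≤ q := by omega
  refine (noOff_of_ls' (H203.LS.TwD4.ls.{0, 0, 0} hqq hK) hr hrp (S2110.result hqq hK) one_ne_zero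
    (S1067.result hqq hK).le hO.le ?_).row
  refine sq_lt_of_le (a := 31) hq ?_ (lt_of_lt_of_le (by norm_num) (Nat.pow_le_pow_left hq3 4))
  have h2 : q ^ 8 + q ^ 4 + 1 ≤ q ^ 9 := by
    have h1 : q ^ 4 ≤ q ^ 8 := Nat.pow_le_pow_right (by omega) (by norm_num)
    have h2 : 1 ≤ q ^ 8 := Nat.one_le_pow _ _ (by omega)
    rw [pow_succ q 8]
    nlinarith
  calc _ ≤ 1 * (q ^ 12 * q ^ 2 * q ^ 6 * q ^ 9) * (q * q) := by
        gcongr
        all_goals exact Nat.sub_le _ _
    _ = _ := by ring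

/-- the groups `F₄(q)`, given `F₄(2)` and `F₄(3)` -/
theorem boxF4_of (H2 : ∀ (p : ℕ) [Fact p.Prime] (F : Type) [Field F] [Fintype F], Fintype.card F = 2 → p ≠ 2 →
      Row p (chevF4.group F))
    (H3 : ∀ (F : Type) [Field F] [Fintype F], Fintype.card F = 3 → Row 2 (chevF4.group F)) :
    Box fun K _ => IsoF4 K := by
  rintro p _ S _ _ _ ⟨F, _, _, ⟨e⟩⟩ hp -
  obtain ⟨r, f, hr, hc, hf, hF⟩ := exists_char F
  have : Fact r.Prime := ⟨hr⟩
  have hrp : r ≠ p := by
    rintro rfl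
    exact hp (by
      unfold IsLieTypeChar IsExceptionalChevChar
      exact .inr <| .inr <| .inr <| .inr <| .inr <| .inr <| .inl ⟨F, _, inferInstance, hc, .inr <| .inl ⟨e⟩⟩)
  have : Finite (chevF4.group F) := Finite.of_equiv _ e.toEquiv
  have : Nontrivial (chevF4.group F) := e.symm.toEquiv.nontrivial
  have hq : 2 ≤ Fintype.card F := Fintype.one_lt_card
  have hfq : f ≤ Fintype.card F := hF ▸ exp_le hr.two_le
  refine Row.of_equiv ?_ e
  by_cases h2 : Fintype.card F = 2
  · obtain rfl : r = 2 := (Nat.prime_dvd_prime_iff_eq hr Nat.prime_two).1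
      (h2 ▸ hF ▸ dvd_pow_self r (by omega))
    exact H2 p F h2 hrp.symm
  have h1 : H203.LS.LS.{0, 0, 0} r ((Nat.card F - 1) * Nat.card F ^ 4) (chevF4.group F) := by
    by_cases h : (2 : F) = 0
    · exact H203.LS.F4even.ls_even F h (by rw [Nat.card_eq_fintype_card]; omega)
    · exact H203.LS.F4odd.ls_odd F h
  rw [Nat.card_eq_fintype_card] at h1
  have hO := (S2122.result r f hF).le.trans (Nat.mul_le_mul (gcd_two_le r) hfq)
  by_cases h3 : Fintype.card F = 3
  · by_cases hp2 : p = 2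
    · subst hp2
      exact H3 F h3
    have hp3 : 3 ≤ p := by
      have := (Fact.out : p.Prime).two_le
      omega
    rw [h3] at h1 hO
    exact (noOff_of_ls' h1 hr hrp (S2103.result (by omega)) one_ne_zero (S1062.result h3).le hO
      (lt_of_lt_of_le (by norm_num) (Nat.pow_le_pow_left hp3 _))).row
  refine (noOff_of_ls' h1 hr hrp (S2103.result (by omega)) one_ne_zero (S1062.result rfl).le hO ?_).row
  generalize Fintype.card F = q at *
  have hq4 : 4 ≤ q := by omega
  refine sq_lt_of_le (a := 54) hq ?_ (lt_of_lt_of_le (by norm_num) (Nat.pow_le_pow_left hq4 4))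
  calc _ ≤ 1 * (q ^ 24 * q ^ 2 * q ^ 6 * q ^ 8 * q ^ 12) * (q * q) := by
        gcongr
        all_goals exact Nat.sub_le _ _
    _ = _ := by ring

theorem pow_le_two_pow {q : ℕ} (hq : 13 ≤ q) : q ^ 32 < 2 ^ ((q - 1) * q) := by
  have h1 : ∀ n, 13 ≤ n → n ^ 8 ≤ 2 ^ (3 * (n - 1)) := by
    intro n hn
    induction n, hn using Nat.le_induction with
    | base => norm_num
    | succ n hn ih =>
      have h2 : (n + 1) ^ 8 ≤ 8 * n ^ 8 := by
        have h3 : 4 * (n + 1) ≤ 5 * n := by omega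
        have h4 := Nat.pow_le_pow_left h3 8
        rw [mul_pow, mul_pow] at h4
        omega
      rw [show 3 * (n + 1 - 1) = 3 * (n - 1) + 3 by omega, pow_add]
      omega
  calc q ^ 32 = (q ^ 8) ^ 4 := by ring
    _ ≤ (2 ^ (3 * (q - 1))) ^ 4 := Nat.pow_le_pow_left (h1 q hq) 4
    _ < _ := by
      rw [← pow_mul]
      refine Nat.pow_lt_pow_right one_lt_two ?_
      have : 12 ≤ q - 1 := by omega
      nlinarith

/-- the groups `G₂(q)`, given the small ones -/
theorem boxG2_of (H3 : ∀ (p : ℕ) [Fact p.Prime] (F : Type) [Field F] [Fintype F], Fintype.card F = 3 → p ≠ 3 →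
      Row p (chevG2.group F))
    (H4 : ∀ (p : ℕ) [Fact p.Prime] (F : Type) [Field F] [Fintype F], Fintype.card F = 4 → p ≠ 2 →
      Row p (chevG2.group F))
    (H57 : ∀ (p : ℕ) [Fact p.Prime] (F : Type) [Field F] [Fintype F], Fintype.card F = 5 ∨ Fintype.card F = 7 →
      p ≠ Fintype.card F → LB p (chevG2.group F) 100)
    (H9 : ∀ (F : Type) [Field F] [Fintype F], Fintype.card F = 9 → LB 2 (chevG2.group F) 93) :
    Box fun K _ => IsoChevG2 K := by
  rintro p _ S _ _ _ ⟨F, _, _, hq, ⟨e⟩⟩ hp -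
  obtain ⟨r, f, hr, hc, hf, hF⟩ := exists_char F
  have : Fact r.Prime := ⟨hr⟩
  have hrp : r ≠ p := by
    rintro rfl
    exact hp (by
      unfold IsLieTypeChar IsExceptionalChevChar
      exact .inr <| .inr <| .inr <| .inr <| .inr <| .inr <| .inl ⟨F, _, inferInstance, hc, .inl ⟨hq, ⟨e⟩⟩⟩)
  have : Finite (chevG2.group F) := Finite.of_equiv _ e.toEquiv
  have : Nontrivial (chevG2.group F) := e.symm.toEquiv.nontrivial
  have hfq : f ≤ Fintype.card F := hF ▸ exp_le hr.two_le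
  have hrq : r ∣ Fintype.card F := hF ▸ dvd_pow_self r (by omega)
  have hp2 : 2 ≤ p := (Fact.out : p.Prime).two_le
  refine Row.of_equiv ?_ e
  by_cases h3 : Fintype.card F = 3
  · obtain rfl : r = 3 := (Nat.prime_dvd_prime_iff_eq hr Nat.prime_three).1 (h3 ▸ hrq)
    exact H3 p F h3 hrp.symm
  by_cases h4 : Fintype.card F = 4
  · obtain rfl : r = 2 := (Nat.prime_dvd_prime_iff_eq hr Nat.prime_two).1
      (hr.dvd_of_dvd_pow (n := 2) (by rw [h4] at hrq; exact hrq))
    exact H4 p F h4 hrp.symm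
  have hZ := S2100.result (F := F) (by omega)
  have hS := (S1059.result (F := F) rfl).le
  have hO := S2121.result r f hF (hF ▸ hq)
  have hO' : Nat.card (Out (chevG2.group F)) ≤ 2 * f := by
    rw [hO]
    split_ifs <;> omega
  have h1 := H203.LS.G2.ls.{0, 0, 0} (r := r) F (by rw [Nat.card_eq_fintype_card]; omega)
    (by rwa [Nat.card_eq_fintype_card])
  rw [Nat.card_eq_fintype_card] at h1
  have hf' : ∀ n, Fintype.card F < 2 ^ n → f < n := fun n hn => by
    by_contra h
    have h5 := Nat.pow_le_pow_right (n := 2) (by norm_num) (not_lt.1 h)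
    have h6 := Nat.pow_le_pow_left hr.two_le f
    omega
  by_cases h5 : Fintype.card F = 5 ∨ Fintype.card F = 7
  · have h6 := H57 p F h5 (by
      rintro rfl
      exact hrp ((Nat.prime_dvd_prime_iff_eq hr Fact.out).1 hrq))
    have h7 := hf' 3 (by omega)
    refine (noOff_of_lb' (o := 4) h6 hZ one_ne_zero hS (by omega) ?_).row
    rcases h5 with h5 | h5 <;> rw [h5] <;> exact lt_of_lt_of_le (by norm_num) (Nat.pow_le_pow_left hp2 _)
  by_cases h13 : 13 ≤ Fintype.card F
  · refine (noOff_of_ls' h1 hr hrp hZ one_ne_zero hS (hO'.trans (Nat.mul_le_mul (le_trans (by norm_num) h13) hfq))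
      (lt_of_le_of_lt ?_ ((pow_le_two_pow h13).trans_le (Nat.pow_le_pow_left hp2 _)))).row
    generalize Fintype.card F = q
    calc _ ≤ (1 * (q ^ 6 * q ^ 2 * q ^ 6) * (q * q)) ^ 2 := by
          gcongr
          all_goals exact Nat.sub_le _ _
      _ = _ := by ring
  have h7 := hf' 4 (by omega)
  have hpp : IsPrimePow (Fintype.card F) := hF ▸ (hr.isPrimePow.pow (by omega))
  have h8 : Fintype.card F = 8 ∨ Fintype.card F = 9 ∨ Fintype.card F = 11 := by
    have h6 : ¬ IsPrimePow 6 := by decide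
    have h10 : ¬ IsPrimePow 10 := by decide
    have h12 : ¬ IsPrimePow 12 := by decide
    have : Fintype.card F ≠ 6 := fun e => h6 (e ▸ hpp)
    have : Fintype.card F ≠ 10 := fun e => h10 (e ▸ hpp)
    have : Fintype.card F ≠ 12 := fun e => h12 (e ▸ hpp)
    omega
  rcases h8 with h8 | h8 | h8
  · obtain rfl : r = 2 := (Nat.prime_dvd_prime_iff_eq hr Nat.prime_two).1
      (hr.dvd_of_dvd_pow (n := 3) (by rw [h8] at hrq; exact hrq))
    rw [if_neg (by norm_num)] at hO
    rw [h8] at h1 hS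
    exact (noOff_of_ls' (o := 3) h1 hr hrp hZ one_ne_zero hS (by omega)
      (lt_of_lt_of_le (by norm_num) (Nat.pow_le_pow_left (show 3 ≤ p by omega) _))).row
  · obtain rfl : r = 3 := (Nat.prime_dvd_prime_iff_eq hr Nat.prime_three).1
      (hr.dvd_of_dvd_pow (n := 2) (by rw [h8] at hrq; exact hrq))
    have hf2 : f ≤ 2 := by
      by_contra h
      have := Nat.pow_le_pow_right (n := 3) (by norm_num) (show 3 ≤ f by omega)
      omega
    rw [h8] at h1 hS
    by_cases h2 : p = 2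
    · subst h2
      exact (noOff_of_lb' (o := 4) (H9 F h8) hZ one_ne_zero hS (by omega) (by norm_num)).row
    exact (noOff_of_ls' (o := 4) h1 hr hrp hZ one_ne_zero hS (by omega)
      (lt_of_lt_of_le (by norm_num) (Nat.pow_le_pow_left (show 3 ≤ p by omega) _))).row
  · obtain rfl : r = 11 := (Nat.prime_dvd_prime_iff_eq hr (by norm_num)).1 (h8 ▸ hrq)
    rw [h8] at h1 hS
    exact (noOff_of_ls' (o := 6) h1 hr hrp hZ one_ne_zero hS (by omega)
      (lt_of_lt_of_le (by norm_num) (Nat.pow_le_pow_left hp2 _))).row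

end Cfsg.Agent.TwoF.XE
end

-- part: TwoF/XE/LB
section
prune_inst 0x10000000000000001c0282000000000800000000000004800c0000000020b0300000000200044038004000000000000000000000000001180080000000000000a000100000000000000000000000000000000000000000000000000000000
set_option linter.all false
open scoped Cfsg.Agent.FastGrp

/-!
# TwoF / XE: dimension bounds for `F₄(3)`, `p = 2`, and `G₂(5)`, `G₂(7)`, `G₂(9)` (helper72)
-/

set_option autoImplicit false

namespace Cfsg.Agent.TwoF.XE.LB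

open Module Cfsg.Lie Cfsg.Agent.H912.Bd

/-- the bounds for modules over `F₂` of the library -/
theorem lb_of_heis {S : Type} [Group S] [Nontrivial S] {m : ℕ} (h : Omega.Lie.Heis.LB.{0, 0, 0} S m) : LB 2 S m := by
  intro K _ _ π h1 h2 h3 h4 U _ _ _ σ h5
  let φ : K →* MulAut (Multiplicative U) := MonoidHom.mk' (fun g =>
    { toFun := fun v => Multiplicative.ofAdd (σ g v.toAdd)
      invFun := fun v => Multiplicative.ofAdd (σ g⁻¹ v.toAdd)
      left_inv := fun v => by
        show Multiplicative.ofAdd ((σ g⁻¹ * σ g) v.toAdd) = v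
        rw [← map_mul, inv_mul_cancel, map_one]; rfl
      right_inv := fun v => by
        show Multiplicative.ofAdd ((σ g * σ g⁻¹) v.toAdd) = v
        rw [← map_mul, mul_inv_cancel, map_one]; rfl
      map_mul' := fun v w => congrArg Multiplicative.ofAdd (map_add (σ g) v.toAdd w.toAdd) })
    fun a b => MulEquiv.ext fun v => by
      show Multiplicative.ofAdd (σ (a * b) v.toAdd) = Multiplicative.ofAdd ((σ a * σ b) v.toAdd)
      rw [map_mul]
  have h6 : Nat.card (Multiplicative U) = 2 ^ finrank (ZMod 2) U := by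
    rw [Nat.card_congr Multiplicative.toAdd, Module.natCard_eq_pow_finrank (K := ZMod 2), Nat.card_zmod]
  have h7 := h K π h2 h3.le (by rw [h3]; exact Nat.odd_iff.2 (by omega)) h1.commutator_eq_top (Multiplicative U)
    (IsPGroup.of_card h6) φ fun e => by
      have : Nontrivial K := h2.nontrivial
      obtain ⟨x, hx⟩ := exists_ne (1 : K)
      refine hx (h5 (LinearMap.ext fun v => ?_))
      rw [map_one]
      exact congrArg (fun f : K →* MulAut (Multiplicative U) => (f x (Multiplicative.ofAdd v)).toAdd) e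
  rw [h6] at h7
  exact (Nat.pow_le_pow_iff_right one_lt_two).1 h7

theorem f4_three (F : Type) [Field F] [Fintype F] (h : Fintype.card F = 3) : Row 2 (chevF4.group F) := by
  obtain ⟨r, f, hr, hc, hf, hF⟩ := exists_char F
  have : Fact r.Prime := ⟨hr⟩
  obtain rfl : r = 3 := (Nat.prime_dvd_prime_iff_eq hr Nat.prime_three).1 (h ▸ hF ▸ dvd_pow_self r (by omega))
  have hS := S1062.result h
  have : Finite (chevF4.group F) := Nat.finite_of_card_ne_zero (by rw [hS]; norm_num)
  have : Nontrivial (chevF4.group F) := Finite.one_lt_card_iff_nontrivial.1 (by rw [hS]; norm_num)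
  have h2 : (2 : F) ≠ 0 := fun e => by
    have := (CharP.cast_eq_zero_iff F 3 2).1 (by exact_mod_cast e)
    omega
  have h1 := lb_of_heis (Omega.TwoF.F4Odd.lb.{0, 0, 0} F h2)
  rw [Nat.card_eq_fintype_card, h] at h1
  have hO := (S2122.result 3 f hF).le.trans (Nat.mul_le_mul (gcd_two_le 3) (hF ▸ exp_le hr.two_le : f ≤ Fintype.card F))
  rw [h] at hO
  have h3 : LB 2 (chevF4.group F) 200 := fun K _ _ π a1 a2 a3 a4 U _ _ _ σ a5 =>
    le_trans (by norm_num) (h1 K π a1 a2 a3 a4 U σ a5)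
  exact (noOff_of_lb' h3 (S2103.result h.ge) one_ne_zero hS.le hO (by norm_num)).row

/-- the set of the weights of an elementary abelian subgroup -/
structure Wts {K T A : Type} [Field K] [Group T] [AddCommGroup A] (f : A → T) (W : Set (A → K)) : Prop where
  fin : W.Finite
  add : ∀ χ ∈ W, ∀ u v, χ (u + v) = χ u * χ v
  zero : ∀ χ ∈ W, χ 0 = 1
  ne : ∀ v, f v ≠ 1 → ∃ χ ∈ W, χ v ≠ 1
  conj : ∀ (g : T) (M : A → A), (∀ v, g * f v * g⁻¹ = f (M v)) → ∀ χ ∈ W, χ ∘ M ∈ W

theorem exists_wts {k T A : Type} [Field k] [Group T] [AddCommGroup A] [Finite A] {n r : ℕ} (h : PR k n r T)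
    (hr : r.Prime) (hk : (r : k) ≠ 0) (f : A → T) (hf : ∀ u v, f (u + v) = f u * f v) (hA : ∀ v : A, r • v = 0) :
    ∃ W : Set (A → AlgebraicClosure k), Wts f W ∧ W.ncard ≤ n := by
  obtain ⟨L, _, π, ρ, hπ, hc, hcop, hρ⟩ := h
  let f' : Multiplicative A →* T := MonoidHom.mk' (fun v => f v.toAdd) fun u v => hf _ _
  have h0 : ∀ v, f v ^ r ^ 1 = 1 := fun v => by
    rw [pow_one]
    show f' (Multiplicative.ofAdd v) ^ r = 1
    rw [← map_pow, ← ofAdd_nsmul, hA, ofAdd_zero, map_one]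
  have : Finite f'.range := Finite.of_surjective _ f'.rangeRestrict_surjective
  obtain ⟨B, hB, hBc, ⟨N, hN, hBN⟩, -, -⟩ := exists_data (F := k) hπ hc hcop hr hk (E := f'.range)
    (by rintro _ ⟨u, rfl⟩ _ ⟨v, rfl⟩; rw [← map_mul, ← map_mul, mul_comm])
    (by rintro ⟨_, v, rfl⟩; exact ⟨1, Subtype.ext (h0 _)⟩)
  choose l h1 h2 using fun v => exists_lift hcop hπ (h0 v)
  have h3 : ∀ v, l v ∈ B := fun v => (hB _).2 ⟨⟨Multiplicative.ofAdd v, (h1 v).symm⟩, 1, h2 v⟩
  have h4 : ∀ x ∈ B, ∀ v, π x = f v → x = l v := fun x hx v e => by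
    obtain ⟨-, j, hj⟩ := (hB x).1 hx
    exact lift_unique hc hcop (e.trans (h1 v).symm) hj (h2 v)
  have hi := indep_wt (repK ρ) hBc hN hBN
  have h5 := WellFoundedGT.finite_ne_bot_of_iSupIndep hi
  refine ⟨(fun χ v => χ ⟨l v, h3 v⟩) '' {χ | wt (repK ρ) B χ ≠ ⊥}, ⟨h5.image _, ?_, ?_, fun v hv => ?_, ?_⟩, ?_⟩
  · rintro _ ⟨χ, hχ, rfl⟩ u v
    show χ _ = χ _ * χ _
    rw [← wt_mul _ hχ]
    exact congrArg χ (Subtype.ext (h4 _ (mul_mem (h3 u) (h3 v)) _ (by rw [map_mul, h1, h1, hf])).symm)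
  · rintro _ ⟨χ, hχ, rfl⟩
    show χ _ = 1
    rw [← wt_one _ hχ]
    exact congrArg χ (Subtype.ext (h4 _ (one_mem _) _ (by rw [map_one]; exact (map_one f').symm)).symm)
  · obtain ⟨χ, a1, a2⟩ := exists_wt (repK ρ) hBc hN hBN (c := ⟨l v, h3 v⟩) fun e =>
      hv ((h1 v).symm.trans (hρ (eq_one_of_repK e)))
    exact ⟨_, ⟨χ, a1, rfl⟩, a2⟩
  · rintro g M hM _ ⟨χ, hχ, rfl⟩
    obtain ⟨s, rfl⟩ := hπ g
    have a1 : ∀ a ∈ B, s * a * s⁻¹ ∈ B := fun a ha => by
      obtain ⟨⟨v, hv⟩, j, hj⟩ := (hB a).1 ha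
      refine (hB _).2 ⟨⟨Multiplicative.ofAdd (M v.toAdd), ?_⟩, j, by rw [conj_pow, hj]; group⟩
      rw [map_mul, map_mul, map_inv, ← hv]
      exact (hM _).symm
    refine ⟨fun a => χ ⟨s * a * s⁻¹, a1 a a.2⟩, fun e => hχ ?_, funext fun v => congrArg χ (Subtype.ext
      (h4 _ (a1 _ (h3 v)) _ (by rw [map_mul, map_mul, map_inv, h1, hM])))⟩
    have a2 := finrank_wt_le (repK ρ) (χ := χ) a1
    rw [e, finrank_bot, Nat.le_zero] at a2
    exact Submodule.finrank_eq_zero.1 a2
  · have : Fintype {χ // wt (repK ρ) B χ ≠ ⊥} := h5.fintype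
    refine (Set.ncard_image_le h5).trans ?_
    have a1 := hi.subtype_ne_bot_le_finrank
    rw [Module.finrank_fintype_fun_eq_card, Fintype.card_fin, ← Nat.card_eq_fintype_card] at a1
    rw [← Nat.card_coe_set_eq]
    exact a1

theorem Wts.inj {K T A : Type} [Field K] [Group T] [AddCommGroup A] {f : A → T} {W : Set (A → K)} (h : Wts f W)
    {χ : A → K} (hχ : χ ∈ W) {ι : Type} {M : ι → A → A} (hM : ∀ i j, i ≠ j → ∃ v, χ (M i v - M j v) ≠ 1) :
    Function.Injective fun i => χ ∘ M i := fun i j e => by_contra fun hne => by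
  obtain ⟨v, hv⟩ := hM i j hne
  have h1 : χ (M i v) = χ (M j v) := congrFun e v
  rw [sub_eq_add_neg, h.add χ hχ, h1, ← h.add χ hχ, add_neg_cancel] at hv
  exact hv (h.zero χ hχ)

theorem add_pair {T A B : Type} [Group T] [AddCommGroup A] [AddCommGroup B] {f : A → T} {g : B → T}
    (hf : ∀ u v, f (u + v) = f u * f v) (hg : ∀ u v, g (u + v) = g u * g v) (h : ∀ a b, f a * g b = g b * f a)
    (u v : A × B) : f (u + v).1 * g (u + v).2 = f u.1 * g u.2 * (f v.1 * g v.2) := by
  rw [Prod.fst_add, Prod.snd_add, hf, hg]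
  exact Commute.mul_mul_mul_comm (h _ _) _ _

section GTwo

open Omega.TwoF.GTwoLB

variable {F : Type} [Field F]

theorem cj0 {r s : ℕ} (hr : r < 12) (hs : s < 12) (hrs : s ≠ r) (hneg : s ≠ chevG2.neg r)
    (h : chevG2.commTerms r s = []) (t u : F) : X s u * X r t * (X s u)⁻¹ = X r t := by
  rw [rel0 hr hs hrs hneg h, mul_inv_cancel_right]

theorem c10_11 (t u : F) : X 10 t * X 11 u = X 11 u * X 10 t := (c11_10 u t).symm

theorem c9_11 (t u : F) : X 9 t * X 11 u = X 11 u * X 9 t :=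
  rel0 (by norm_num) (by norm_num) (by decide) (by decide) (by decide +kernel) u t

theorem c9_10 (t u : F) : X 9 t * X 10 u = X 10 u * X 9 t :=
  rel0 (by norm_num) (by norm_num) (by decide) (by decide) (by decide +kernel) u t

theorem c8_11 (t u : F) : X 8 t * X 11 u = X 11 u * X 8 t :=
  rel0 (by norm_num) (by norm_num) (by decide) (by decide) (by decide +kernel) u t

theorem c8_10 (t u : F) : X 8 t * X 10 u = X 10 u * X 8 t :=
  rel0 (by norm_num) (by norm_num) (by decide) (by decide) (by decide +kernel) u t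

theorem c8_9 (t u : F) : X 8 t * X 9 u = X 9 u * X 8 t * X 11 (3 * u * t) := by
  rw [rel1 (r := 9) (s := 8) (k := 11) (c := -3) (by norm_num) (by norm_num) (by decide) (by decide)
    (by decide +kernel)]
  congr 2
  push_cast
  ring

theorem j6_10 (s a : F) : X 6 s * X 10 a * (X 6 s)⁻¹ = X 10 a * X 11 (a * s) := by
  rw [rel1 (r := 10) (s := 6) (k := 11) (c := -1) (by norm_num) (by norm_num) (by decide) (by decide)
    (by decide +kernel), mul_assoc (X 10 a), ← c11_6, ← mul_assoc, mul_inv_cancel_right]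
  congr 2
  push_cast
  ring

/-- the long part -/
noncomputable def fl (v : F × F) : chevG2.group F := X 10 v.1 * X 11 v.2

theorem fl_add (u v : F × F) : fl (u + v) = fl u * fl v := add_pair (X_add 10) (X_add 11) c10_11 u v

theorem fl_6 (s : F) (v : F × F) : X 6 s * fl v * (X 6 s)⁻¹ = fl (v.1, v.2 + v.1 * s) := by
  rw [fl, ← conj_mul, j6_10, ← c11_6, mul_inv_cancel_right, mul_assoc, ← X_add, add_comm]
  rfl

theorem fl_h1 (z : Fˣ) (v : F × F) : H 1 (z : F) * fl v * (H 1 (z : F))⁻¹ = fl ((z : F)⁻¹ * v.1, z * v.2) := by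
  rw [fl, ← conj_mul, H_conj (by norm_num) (by norm_num) z.ne_zero, H_conj (by norm_num) (by norm_num) z.ne_zero,
    show chevG2.cartan 1 10 = -1 by decide +kernel, show chevG2.cartan 1 11 = 1 by decide +kernel, zpow_neg_one, zpow_one]
  rfl

theorem fl_comm {r : ℕ} (h1 : ∀ t u : F, X r t * X 10 u = X 10 u * X r t)
    (h2 : ∀ t u : F, X r t * X 11 u = X 11 u * X r t) (t : F) (v : F × F) : X r t * fl v = fl v * X r t := by
  rw [fl, ← mul_assoc, h1, mul_assoc, h2, mul_assoc]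

theorem nsmul_char {r : ℕ} [CharP F r] (t : F) : r • t = 0 := by
  rw [nsmul_eq_mul, CharP.cast_eq_zero, zero_mul]

/-- `G₂(q)`, `q` prime to `3`: `(q - 1) q ^ 2` -/
theorem bd_g2 {k : Type} [Field k] [Fintype F] {r : ℕ} (hr : r.Prime) [CharP F r] (hk : (r : k) ≠ 0)
    (h3 : (3 : F) ≠ 0) : Bd k r ((Fintype.card F - 1) * Fintype.card F ^ 2) (chevG2.group F) := by
  classical
  intro n hn
  obtain ⟨W, hW, h1⟩ := exists_wts hn hr hk (A := (F × F) × F) (fun v => fl v.1 * X 9 v.2)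
    (add_pair fl_add (X_add 9) fun a b => (fl_comm c9_10 c9_11 b a).symm)
    fun v => Prod.ext (Prod.ext (nsmul_char _) (nsmul_char _)) (nsmul_char _)
  obtain ⟨χ, hχ, h2⟩ := hW.ne ((0, 1), 0) fun e => one_ne_zero ((X_eq_one (r := 11) (t := (1 : F)) (by norm_num)).1
    (by simpa only [fl, X_zero, one_mul, mul_one] using e))
  let M : Fˣ × F × F → (F × F) × F → (F × F) × F := fun i v =>
    (((i.1 : F)⁻¹ * v.1.1, i.1 * (v.1.2 + v.1.1 * i.2.1 + 3 * v.2 * i.2.2)), v.2)
  have h4 : ∀ i, χ ∘ M i ∈ W := fun i => hW.conj (H 1 (i.1 : F) * (X 8 i.2.2 * X 6 i.2.1)) (M i) (fun v => by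
    have a1 : X 6 i.2.1 * (fl v.1 * X 9 v.2) * (X 6 i.2.1)⁻¹ = fl (v.1.1, v.1.2 + v.1.1 * i.2.1) * X 9 v.2 := by
      rw [← conj_mul, fl_6, cj0 (by norm_num) (by norm_num) (by decide) (by decide) (by decide +kernel)]
    have a2 : ∀ w : F × F, X 8 i.2.2 * (fl w * X 9 v.2) * (X 8 i.2.2)⁻¹ =
        fl (w.1, w.2 + 3 * v.2 * i.2.2) * X 9 v.2 := fun w => by
      rw [← conj_mul, fl_comm c8_10 c8_11, mul_inv_cancel_right, c8_9, mul_assoc (X 9 _), c8_11, ← mul_assoc (X 9 _),
        mul_inv_cancel_right, c9_11, ← mul_assoc, fl, mul_assoc (X 10 _), ← X_add]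
      rfl
    show _ * (fl v.1 * X 9 v.2) * _ = _
    rw [show ∀ a b c x : chevG2.group F, a * (b * c) * x * (a * (b * c))⁻¹ = a * (b * (c * x * c⁻¹) * b⁻¹) * a⁻¹ from
      fun _ _ _ _ => by group, a1, a2, ← conj_mul, fl_h1, H_conj (by norm_num) (by norm_num) i.1.ne_zero,
      show chevG2.cartan 1 9 = 0 by decide +kernel, zpow_zero, one_mul]) χ hχ
  have h5 := hW.inj hχ (M := M) (by
    rintro ⟨z, s, t⟩ ⟨z', s', t'⟩ hne
    by_cases a1 : z = z'
    swap
    · have a2 : (z : F) - z' ≠ 0 := sub_ne_zero.2 fun e => a1 (Units.ext e)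
      refine ⟨((0, ((z : F) - z')⁻¹), 0), ?_⟩
      convert h2 using 2
      simp only [M, Prod.mk_sub_mk, Prod.mk.injEq]
      refine ⟨⟨by ring, ?_⟩, by ring⟩
      field_simp
      ring
    subst a1
    have a0 := z.ne_zero
    by_cases a1 : s = s'
    swap
    · have a2 := sub_ne_zero.2 a1
      refine ⟨((((z : F) * (s - s'))⁻¹, 0), 0), ?_⟩
      convert h2 using 2
      simp only [M, Prod.mk_sub_mk, Prod.mk.injEq]
      refine ⟨⟨by ring, ?_⟩, by ring⟩
      field_simp
      ring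
    subst a1
    have a2 : t - t' ≠ 0 := sub_ne_zero.2 fun e => hne (by rw [e])
    refine ⟨((0, 0), (3 * (z : F) * (t - t'))⁻¹), ?_⟩
    convert h2 using 2
    simp only [M, Prod.mk_sub_mk, Prod.mk.injEq]
    refine ⟨⟨by ring, ?_⟩, by ring⟩
    field_simp
    ring)
  have h6 := Set.ncard_le_ncard (Set.range_subset_iff.2 h4) hW.fin
  rw [Set.ncard_range_of_injective h5, Nat.card_eq_fintype_card, Fintype.card_prod, Fintype.card_prod,
    Fintype.card_units, ← sq] at h6
  exact h6.trans h1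

theorem g2_57 (p : ℕ) [Fact p.Prime] (F : Type) [Field F] [Fintype F] (h : Fintype.card F = 5 ∨ Fintype.card F = 7)
    (hp : p ≠ Fintype.card F) : LB p (chevG2.group F) 100 := by
  have hr : (Fintype.card F).Prime := by rcases h with h | h <;> rw [h] <;> norm_num
  have : Fact (Fintype.card F).Prime := ⟨hr⟩
  have := charP_of_card_eq_prime (R := F) rfl
  have h3 : (3 : F) ≠ 0 := fun e => by
    have := (CharP.cast_eq_zero_iff F (Fintype.card F) 3).1 (by exact_mod_cast e)
    rcases h with h | h <;> rw [h] at this <;> omega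
  refine lb_of_bd' ((bd_g2 hr (cast_ne_zero hr hp.symm) h3).mono ?_) (S2100.result (by omega)) (Nat.coprime_one_left _)
  rcases h with h | h <;> rw [h] <;> norm_num

section Three

variable (h3 : (3 : F) = 0)

include h3

theorem c8_9' (t u : F) : X 8 t * X 9 u = X 9 u * X 8 t := by
  rw [c8_9, h3, zero_mul, zero_mul, X_zero, mul_one]

theorem c7_9 (t u : F) : X 7 t * X 9 u = X 9 u * X 7 t := by
  rw [rel1 (r := 9) (s := 7) (k := 10) (c := -3) (by norm_num) (by norm_num) (by decide) (by decide)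
    (by decide +kernel)]
  push_cast
  rw [h3, neg_zero, zero_mul, zero_mul, X_zero, mul_one]

theorem j7_8 (t y : F) : X 7 t * X 8 y * (X 7 t)⁻¹ = X 8 y * X 9 (y * t) := by
  have h1 : X 7 t * X 8 y = X 8 y * X 7 t * (X 9 (((2 : ℤ) : F) * (-y) ^ 1 * t ^ 1) *
      (X 11 (((3 : ℤ) : F) * (-y) ^ 2 * t ^ 1) * X 10 (((-3 : ℤ) : F) * (-y) ^ 1 * t ^ 2))) := by
    refine (Omega.TwoF.ChevHeis.xK_word inG2 (r := 8) (s := 7) (by decide) (by decide) (by decide) (by decide)
      y t).trans (congrArg _ (Subtype.ext ?_))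
    show ChevalleyStructure.Elts.wordG inG2 ((chevG2.commTerms 8 7).map fun c =>
      (c.1, (c.2.1 : F) * (-y) ^ c.2.2.1 * t ^ c.2.2.2)) = _
    rw [show chevG2.commTerms 8 7 = [(9, 2, 1, 1), (11, 3, 2, 1), (10, -3, 1, 2)] by decide +kernel]
    simp only [List.map_cons, List.map_nil, ChevalleyStructure.Elts.wordG_cons, ChevalleyStructure.Elts.wordG_nil,
      mul_one]
    rfl
  push_cast at h1
  rw [h3, neg_zero, zero_mul, zero_mul, zero_mul, zero_mul, X_zero, X_zero, mul_one, mul_one] at h1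
  rw [h1, mul_assoc (X 8 y), c7_9 h3, ← mul_assoc, mul_inv_cancel_right]
  congr 2
  linear_combination (-(y * t)) * h3

end Three

/-- the short part -/
noncomputable def fs (v : F × F) : chevG2.group F := X 8 v.1 * X 9 v.2

/-- `G₂(q)`, `q` a power of `3`: `2 (q - 1) q` -/
theorem bd_g2_three {k : Type} [Field k] [Fintype F] [CharP F 3] (hk : ((3 : ℕ) : k) ≠ 0) :
    Bd k 3 (2 * ((Fintype.card F - 1) * Fintype.card F)) (chevG2.group F) := by
  classical
  intro n hn
  have h3 : (3 : F) = 0 := by exact_mod_cast CharP.cast_eq_zero F 3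
  obtain ⟨W, hW, h1⟩ := exists_wts hn Nat.prime_three hk (A := (F × F) × F × F) (fun v => fl v.1 * fs v.2)
    (add_pair fl_add (add_pair (X_add 8) (X_add 9) (c8_9' h3)) fun a b => by
      rw [fs, ← mul_assoc, ← fl_comm c8_10 c8_11, mul_assoc, ← fl_comm c9_10 c9_11, mul_assoc])
    fun v => Prod.ext (Prod.ext (nsmul_char _) (nsmul_char _)) (Prod.ext (nsmul_char _) (nsmul_char _))
  refine le_trans ?_ h1
  have b6 : ∀ s : F, ∀ χ ∈ W, χ ∘ (fun v => ((v.1.1, v.1.2 + v.1.1 * s), v.2)) ∈ W := fun s =>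
    hW.conj (X 6 s) _ fun v => by
      show _ * (fl v.1 * fs v.2) * _ = _
      rw [← conj_mul, fl_6, fs, ← conj_mul, cj0 (by norm_num) (by norm_num) (by decide) (by decide) (by decide +kernel),
        cj0 (by norm_num) (by norm_num) (by decide) (by decide) (by decide +kernel)]
  have b7 : ∀ t : F, ∀ χ ∈ W, χ ∘ (fun v => (v.1, v.2.1, v.2.2 + v.2.1 * t)) ∈ W := fun t =>
    hW.conj (X 7 t) _ fun v => by
      show _ * (fl v.1 * fs v.2) * _ = _
      rw [← conj_mul, fl_comm (fun t u => rel0 (by norm_num) (by norm_num) (by decide) (by decide) (by decide +kernel) u t)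
        (fun t u => rel0 (by norm_num) (by norm_num) (by decide) (by decide) (by decide +kernel) u t),
        mul_inv_cancel_right, fs, ← conj_mul, j7_8 h3, c7_9 h3, mul_inv_cancel_right, mul_assoc (X 8 _), ← X_add,
        add_comm]
      rfl
  have b1 : ∀ z : Fˣ, ∀ χ ∈ W, χ ∘ (fun v => (((z : F)⁻¹ * v.1.1, z * v.1.2), z * v.2.1, v.2.2)) ∈ W := fun z =>
    hW.conj (H 1 (z : F)) _ fun v => by
      show _ * (fl v.1 * fs v.2) * _ = _
      rw [← conj_mul, fl_h1, fs, ← conj_mul, H_conj (by norm_num) (by norm_num) z.ne_zero,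
        H_conj (by norm_num) (by norm_num) z.ne_zero, show chevG2.cartan 1 8 = 1 by decide +kernel,
        show chevG2.cartan 1 9 = 0 by decide +kernel, zpow_one, zpow_zero, one_mul]
      rfl
  have b0 : ∀ z : Fˣ, ∀ χ ∈ W, χ ∘ (fun v => (((z : F) ^ 3 * v.1.1, v.1.2), (z : F)⁻¹ * v.2.1, z * v.2.2)) ∈ W :=
    fun z => hW.conj (H 0 (z : F)) _ fun v => by
      show _ * (fl v.1 * fs v.2) * _ = _
      rw [← conj_mul, fl, fs, ← conj_mul, ← conj_mul, H_conj (by norm_num) (by norm_num) z.ne_zero,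
        H_conj (by norm_num) (by norm_num) z.ne_zero, H_conj (by norm_num) (by norm_num) z.ne_zero,
        H_conj (by norm_num) (by norm_num) z.ne_zero, show chevG2.cartan 0 10 = (3 : ℕ) by decide +kernel,
        show chevG2.cartan 0 11 = 0 by decide +kernel, show chevG2.cartan 0 8 = -1 by decide +kernel,
        show chevG2.cartan 0 9 = 1 by decide +kernel, zpow_one, zpow_zero, one_mul, zpow_neg_one, zpow_natCast]
      rfl
  let M : Fˣ × F × F → (F × F) × F × F → (F × F) × F × F := fun i v =>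
    (((i.1 : F)⁻¹ * v.1.1, i.1 * (v.1.2 + v.1.1 * i.2.1)), i.1 * v.2.1, v.2.2 + v.2.1 * i.2.2)
  have hM : ∀ χ ∈ W, ∀ i, χ ∘ M i ∈ W := fun χ hχ i => b7 i.2.2 _ (b6 i.2.1 _ (b1 i.1 χ hχ))
  have hM' : ∀ (c : F) (z z' : Fˣ) (s s' t : F), (z, s) ≠ (z', s') → ∀ t', z = z' →
      ∃ v, M (z, s, t) v - M (z', s', t') v = ((0, c), 0, 0) := by
    rintro c z _ s s' t hne t' rfl
    have a0 := z.ne_zero
    have a2 : s - s' ≠ 0 := sub_ne_zero.2 fun e => hne (by rw [e])
    refine ⟨((c * ((z : F) * (s - s'))⁻¹, 0), 0, 0), ?_⟩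
    simp only [M, Prod.mk_sub_mk, Prod.mk.injEq]
    refine ⟨⟨by ring, ?_⟩, by ring, by ring⟩
    field_simp
    ring
  have hM'' : ∀ (c : F) (z z' : Fˣ) (s s' t t' : F), (z, s) ≠ (z', s') →
      ∃ v, M (z, s, t) v - M (z', s', t') v = ((0, c), 0, 0) := fun c z z' s s' t t' hne => by
    by_cases a1 : z = z'
    · exact hM' c z z' s s' t hne t' a1
    have a2 : (z : F) - z' ≠ 0 := sub_ne_zero.2 fun e => a1 (Units.ext e)
    refine ⟨((0, c * ((z : F) - z')⁻¹), 0, 0), ?_⟩
    simp only [M, Prod.mk_sub_mk, Prod.mk.injEq]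
    refine ⟨⟨by ring, ?_⟩, by ring, by ring⟩
    field_simp
    ring
  have hq : 2 ≤ Fintype.card F := Fintype.one_lt_card
  obtain ⟨χ, hχ, h2⟩ := hW.ne ((0, 0), 0, 1) fun e => one_ne_zero ((X_eq_one (r := 9) (t := (1 : F)) (by norm_num)).1
    (by simpa only [fl, fs, X_zero, one_mul, mul_one] using e))
  by_cases h4 : ∃ c, χ ((0, c), 0, 0) ≠ 1
  · obtain ⟨c, h4⟩ := h4
    have h5 := hW.inj hχ (M := M) (by
      rintro ⟨z, s, t⟩ ⟨z', s', t'⟩ hne
      by_cases a1 : (z, s) = (z', s')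
      · obtain ⟨rfl, rfl⟩ := Prod.mk.inj a1
        have a2 : t - t' ≠ 0 := sub_ne_zero.2 fun e => hne (by rw [e])
        refine ⟨((0, 0), (t - t')⁻¹, 0), ?_⟩
        convert h2 using 2
        simp only [M, Prod.mk_sub_mk, Prod.mk.injEq]
        refine ⟨⟨by ring, by ring⟩, by ring, ?_⟩
        field_simp
        ring
      · obtain ⟨v, hv⟩ := hM'' c z z' s s' t t' a1
        exact ⟨v, hv ▸ h4⟩)
    have h6 := Set.ncard_le_ncard (Set.range_subset_iff.2 (hM χ hχ)) hW.fin
    rw [Set.ncard_range_of_injective h5, Nat.card_eq_fintype_card, Fintype.card_prod, Fintype.card_prod,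
      Fintype.card_units] at h6
    refine le_trans ?_ h6
    rw [mul_comm 2, mul_assoc]
    gcongr
  push Not at h4
  obtain ⟨ψ, hψ, h5⟩ := hW.ne ((0, 1), 0, 0) fun e => one_ne_zero ((X_eq_one (r := 11) (t := (1 : F)) (by norm_num)).1
    (by simpa only [fl, fs, X_zero, one_mul, mul_one] using e))
  let M' : Fˣ × F → (F × F) × F × F → (F × F) × F × F := fun i v =>
    (((i.1 : F) ^ 3 * v.1.1, v.1.2), (i.1 : F)⁻¹ * v.2.1, i.1 * (v.2.2 + v.2.1 * i.2))
  have h6 := hW.inj hψ (M := fun i : Fˣ × F => M (i.1, i.2, 0)) (by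
    rintro ⟨z, s⟩ ⟨z', s'⟩ hne
    obtain ⟨v, hv⟩ := hM'' 1 z z' s s' 0 0 hne
    exact ⟨v, hv ▸ h5⟩)
  have h7 := hW.inj hχ (M := M') (by
    rintro ⟨z, s⟩ ⟨z', s'⟩ hne
    by_cases a1 : z = z'
    · subst a1
      have a0 := z.ne_zero
      have a2 : s - s' ≠ 0 := sub_ne_zero.2 fun e => hne (by rw [e])
      refine ⟨((0, 0), ((z : F) * (s - s'))⁻¹, 0), ?_⟩
      convert h2 using 2
      simp only [M', Prod.mk_sub_mk, Prod.mk.injEq]
      refine ⟨⟨by ring, by ring⟩, by ring, ?_⟩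
      field_simp
      ring
    · have a2 : (z : F) - z' ≠ 0 := sub_ne_zero.2 fun e => a1 (Units.ext e)
      refine ⟨((0, 0), 0, ((z : F) - z')⁻¹), ?_⟩
      convert h2 using 2
      simp only [M', Prod.mk_sub_mk, Prod.mk.injEq]
      refine ⟨⟨by ring, by ring⟩, by ring, ?_⟩
      field_simp
      ring)
  have h9 : ∀ i, χ ∘ M' i ∈ W := fun i => b7 i.2 _ (b0 i.1 χ hχ)
  have h8 := Set.ncard_le_ncard (Set.union_subset (Set.range_subset_iff.2 fun i : Fˣ × F => hM ψ hψ (i.1, i.2, 0))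
    (Set.range_subset_iff.2 h9)) hW.fin
  rw [Set.ncard_union_eq (Set.disjoint_left.2 (by
      rintro _ ⟨⟨z, s⟩, rfl⟩ ⟨⟨z', s'⟩, e⟩
      have a0 := z.ne_zero
      have a1 := congrFun e ((0, (z : F)⁻¹), 0, 0)
      simp only [M, M', Function.comp, mul_zero, zero_mul, add_zero, mul_inv_cancel₀ a0, h4] at a1
      exact h5 a1.symm)) (Set.finite_range _) (Set.finite_range _),
    Set.ncard_range_of_injective h6, Set.ncard_range_of_injective h7, Nat.card_eq_fintype_card, Fintype.card_prod,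
    Fintype.card_units, ← two_mul] at h8
  exact h8

theorem g2_nine (F : Type) [Field F] [Fintype F] (h : Fintype.card F = 9) : LB 2 (chevG2.group F) 93 := by
  have := charP_of_card_eq_prime_pow (R := F) (p := 3) (f := 2) h
  refine lb_of_bd' ((bd_g2_three (F := F) (cast_ne_zero Nat.prime_three (by norm_num))).mono ?_)
    (S2100.result (by omega)) (Nat.coprime_one_left _)
  rw [h]
  norm_num

end GTwo

end Cfsg.Agent.TwoF.XE.LB

private theorem dce_2745906711ce : _root_.True := by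
  try have : _root_.True := by simp only [_root_.Cfsg.Agent.TwoF.XE.LB.fs.eq_1]
  try have : _root_.True := by simp only [_root_.Cfsg.Agent.TwoF.XE.LB.fl.eq_1]
  exact _root_.True.intro
end
end
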