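import Cfsg.Agent.TwoF.Gen.BLay_m3
import Cfsg.Agent.FastGrp
import Cfsg.Agent.Prune
set_option linter.all false

section
prune_inst 0x7f00000000000000000000000000000000000000000000000000000000000000000000000000000000000000000000000000000000000000000000000000000000000000000000000000000000000000003fffffffffffffffffffffffffffbeffbdffffffff

-- part: TwoF/Gen/BCub
section
set_option linter.all false
open scoped Cfsg.Agent.FastGrp

/-!
# TwoF, G4: the trilinear form of a non-cubic elementary abelian group (helper14)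
-/

set_option autoImplicit false
set_option linter.unusedSectionVars false

namespace Cfsg.Agent.TwoF.Gen

open Module

variable {k : Type*} [Field k] {Y : Type*} [Group Y] {V : Type*} [AddCommGroup V] [Module k V]
  {ρ : Representation k Y V}

theorem relIndex_le_card {A D : Subgroup Y} {M : Type*} [Finite M] (g : A → M)
    (h : ∀ a b : A, g a = g b → (a : Y)⁻¹ * b ∈ D) : D.relIndex A ≤ Nat.card M :=
  Nat.card_le_card_of_injective (fun q : A ⧸ D.subgroupOf A => g q.out) fun q r e => by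
    rw [← q.out_eq', ← r.out_eq']
    exact QuotientGroup.eq.2 (h _ _ e)

theorem card_le_relIndex {A D : Subgroup Y} [Finite A] {ι : Type*} (s : ι → A)
    (h : ∀ i j, (s i : Y)⁻¹ * s j ∈ D → i = j) : Nat.card ι ≤ D.relIndex A :=
  Nat.card_le_card_of_injective (fun i => (s i : A ⧸ D.subgroupOf A)) fun i j e =>
    h i j (QuotientGroup.eq (s := D.subgroupOf A).1 e)

/-- the trilinear form -/
def tri (ρ : Representation k Y V) (φ : V →ₗ[k] k) (v : V) (a b c : Y) : k :=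
  φ ((ρ a - 1) ((ρ b - 1) ((ρ c - 1) v)))

theorem tri_swap₁ {a b : Y} (h : a * b = b * a) (φ : V →ₗ[k] k) (v : V) (c : Y) :
    tri ρ φ v a b c = tri ρ φ v b a c := by rw [tri, tri, sub_one_comm h]

theorem tri_swap₂ {b c : Y} (h : b * c = c * b) (φ : V →ₗ[k] k) (v : V) (a : Y) :
    tri ρ φ v a b c = tri ρ φ v a c b := by rw [tri, tri, sub_one_comm h v]

theorem tri_add_left (φ ψ : V →ₗ[k] k) (v : V) (a b c : Y) :
    tri ρ (φ + ψ) v a b c = tri ρ φ v a b c + tri ρ ψ v a b c := rfl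

theorem tri_addOn {A : Subgroup Y} {v : V} (hv : v ∈ asc ρ A 4) (φ : V →ₗ[k] k) {b c : Y} (hb : b ∈ A) (hc : c ∈ A) :
    AddOn A fun a => tri ρ φ v a b c :=
  addOn_asc (i := 0) (asc_step (asc_step hv hc) hb) φ fun u hu => by rw [(Submodule.mem_bot k).1 hu, map_zero]

/-- the radical of the trilinear form -/
def trad {A : Subgroup Y} {v : V} (hv : v ∈ asc ρ A 4) (φ : V →ₗ[k] k) : Subgroup Y :=
  kerOn A (fun (i : A × A) a => tri ρ φ v a i.1 i.2) fun i => tri_addOn hv φ i.1.2 i.2.2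

theorem mem_trad {A : Subgroup Y} {v : V} {hv : v ∈ asc ρ A 4} {φ : V →ₗ[k] k} {a : Y} :
    a ∈ trad hv φ ↔ a ∈ A ∧ ∀ b ∈ A, ∀ c ∈ A, tri ρ φ v a b c = 0 :=
  ⟨fun h => ⟨h.1, fun b hb c hc => h.2 (⟨b, hb⟩, ⟨c, hc⟩)⟩, fun h => ⟨h.1, fun i => h.2 _ i.1.2 _ i.2.2⟩⟩

theorem exists_tri_ne {A : Subgroup Y} {v : V} (h : v ∉ asc ρ A 3) :
    ∃ φ : V →ₗ[k] k, ∃ a ∈ A, ∃ b ∈ A, ∃ c ∈ A, tri ρ φ v a b c ≠ 0 := by
  rw [mem_asc_three] at h
  push Not at h
  obtain ⟨c, hc, b, hb, a, ha, h⟩ := h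
  obtain ⟨φ, h1, -⟩ := exists_dual_of_notMem (U := ⊥) (fun e => h ((Submodule.mem_bot k).1 e))
  exact ⟨φ, a, ha, b, hb, c, hc, h1⟩

theorem notMem_asc_of_tri {A : Subgroup Y} {v : V} {φ : V →ₗ[k] k} {a b c : Y} (ha : a ∈ A) (hb : b ∈ A) (hc : c ∈ A)
    (h : tri ρ φ v a b c ≠ 0) : v ∉ asc ρ A 3 := fun e => h (by rw [tri, mem_asc_three.1 e c hc b hb a ha, map_zero])

variable [FiniteDimensional k V]

theorem finrank_map_mkQ {U W : Submodule k V} (h : U ≤ W) : finrank k U + finrank k (W.map U.mkQ) = finrank k W := by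
  have h1 := LinearMap.finrank_range_add_finrank_ker (U.mkQ.domRestrict W)
  rw [LinearMap.range_domRestrict, LinearMap.ker_domRestrict, Submodule.ker_mkQ,
    (Submodule.comapSubtypeEquivOfLe h).finrank_eq] at h1
  omega

/-- the orbit of a vector bounds a layer -/
theorem relIndex_le_of_vec [Finite k] {A D : Subgroup Y} {U W : Submodule k V} (hU : Inv ρ A U) (h : U ≤ W) {v : V}
    (hv : ∀ a ∈ A, (ρ a - 1) v ∈ W) (hD : ∀ a ∈ A, (ρ a - 1) v ∈ U → a ∈ D) :
    D.relIndex A ≤ Nat.card k ^ (finrank k W - finrank k U) := by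
  have h1 := finrank_map_mkQ h
  have : Finite (W.map U.mkQ) := Module.finite_of_finite k
  rw [show finrank k W - finrank k U = finrank k (W.map U.mkQ) by omega, ← Module.natCard_eq_pow_finrank]
  refine relIndex_le_card (fun a => ⟨_, Submodule.mem_map_of_mem (hv a a.2)⟩) fun a b e =>
    hD _ (mul_mem (inv_mem a.2) b.2) ?_
  have h2 := hU _ (inv_mem a.2) _ (U.neg_mem ((Submodule.Quotient.eq U).1 (congrArg Subtype.val e)))
  simpa only [LinearMap.sub_apply, Module.End.one_apply, sub_sub_sub_cancel_right, neg_sub, map_sub, rho_mul,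
    rho_inv_apply] using h2

/-- the orbit of a functional bounds a layer -/
theorem relIndex_le_of_dual [Finite k] {A D : Subgroup Y} {P W : Submodule k V} (h : P ≤ W) (φ : V →ₗ[k] k)
    (hW : ∀ w ∈ W, AddOn A fun a => φ ((ρ a - 1) w)) (hP : ∀ a ∈ A, ∀ u ∈ P, φ ((ρ a - 1) u) = 0)
    (hD : ∀ a ∈ A, (∀ w ∈ W, φ ((ρ a - 1) w) = 0) → a ∈ D) :
    D.relIndex A ≤ Nat.card k ^ (finrank k W - finrank k P) := by
  have h1 := Subspace.finrank_add_finrank_dualAnnihilator_eq (P.submoduleOf W)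
  rw [(Submodule.submoduleOfEquivOfLe h).finrank_eq] at h1
  have : Finite (P.submoduleOf W).dualAnnihilator := Module.finite_of_finite k
  rw [show finrank k W - finrank k P = finrank k (P.submoduleOf W).dualAnnihilator by omega,
    ← Module.natCard_eq_pow_finrank (K := k) (V := (P.submoduleOf W).dualAnnihilator)]
  refine relIndex_le_card (fun a => ⟨φ ∘ₗ (ρ a - 1) ∘ₗ W.subtype, (Submodule.mem_dualAnnihilator _).2
    fun u hu => hP a a.2 u hu⟩) fun a b e => hD _ (mul_mem (inv_mem a.2) b.2) fun w hw => ?_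
  have h2 : φ ((ρ a - 1) w) = φ ((ρ b - 1) w) := LinearMap.congr_fun (congrArg Subtype.val e) ⟨w, hw⟩
  refine (hW w hw _ (inv_mem a.2) _ b.2).trans ((congrArg (· + _) ((hW w hw).inv a.2)).trans ?_)
  beta_reduce
  rw [h2, neg_add_cancel]

theorem relIndex_trad_le_vec [Finite k] {A : Subgroup Y} (hA : ∀ a ∈ A, ∀ b ∈ A, a * b = b * a) {v : V}
    (hv : v ∈ asc ρ A 4) (φ : V →ₗ[k] k) :
    (trad hv φ).relIndex A ≤ Nat.card k ^ (finrank k (asc ρ A 3) - finrank k (asc ρ A 2)) :=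
  relIndex_le_of_vec (inv_asc Subgroup.le_normalizer 2) (asc_le_succ A 2) (fun _ ha => asc_step hv ha) fun a ha h =>
    mem_trad.2 ⟨ha, fun b hb c hc => by
      rw [tri_swap₁ (hA a ha b hb), tri_swap₂ (hA a ha c hc), tri,
        (Submodule.mem_bot k).1 (asc_step (asc_step h hc) hb), map_zero]⟩

theorem addOn_asc_two {A : Subgroup Y} (φ : V →ₗ[k] k) : ∀ w ∈ asc ρ A 2, AddOn A fun a => φ ((ρ a - 1) w) :=
  fun _ hw => addOn_asc (i := 0) hw φ fun u hu => by rw [(Submodule.mem_bot k).1 hu, map_zero]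

theorem relIndex_trad_le_dual [Finite k] {A : Subgroup Y} {v : V} (hv : v ∈ asc ρ A 4) (φ : V →ₗ[k] k)
    {P : Submodule k V} (h : P ≤ asc ρ A 2) (hP : ∀ a ∈ A, ∀ u ∈ P, φ ((ρ a - 1) u) = 0) :
    (trad hv φ).relIndex A ≤ Nat.card k ^ (finrank k (asc ρ A 2) - finrank k P) :=
  relIndex_le_of_dual h φ (addOn_asc_two φ) hP fun _ ha h =>
    mem_trad.2 ⟨ha, fun _ hb _ hc => h _ (asc_step (asc_step hv hc) hb)⟩

theorem asc_one_kill {A : Subgroup Y} (φ : V →ₗ[k] k) : ∀ a ∈ A, ∀ u ∈ asc ρ A 1, φ ((ρ a - 1) u) = 0 :=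
  fun _ ha _ hu => by rw [(Submodule.mem_bot k).1 (asc_step hu ha), map_zero]

theorem le_of_pow_le_pow_card [Finite k] {n m : ℕ} (h : Nat.card k ^ n ≤ Nat.card k ^ m) : n ≤ m :=
  (Nat.pow_le_pow_iff_right Finite.one_lt_card).1 h

/-- **G4.** `cod A ≥ 1 + 2 rank T` -/
theorem two_mul_rank_lt_cod [Finite k] {A : Subgroup Y} (hA : ∀ a ∈ A, ∀ b ∈ A, a * b = b * a) {v : V}
    (hv : v ∈ asc ρ A 4) (h3 : v ∉ asc ρ A 3) (φ : V →ₗ[k] k) {n : ℕ} (hn : Nat.card k ^ n ≤ (trad hv φ).relIndex A) :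
    2 * n + 1 ≤ cod ρ A := by
  have h1 := le_of_pow_le_pow_card (hn.trans (relIndex_trad_le_vec hA hv φ))
  have h2 := le_of_pow_le_pow_card (hn.trans (relIndex_trad_le_dual hv φ (asc_le_succ A 1) (asc_one_kill φ)))
  have l1 : finrank k (asc ρ A 1) ≤ finrank k (asc ρ A 2) := Submodule.finrank_mono (asc_le_succ A 1)
  have l2 : finrank k (asc ρ A 2) ≤ finrank k (asc ρ A 3) := Submodule.finrank_mono (asc_le_succ A 2)
  have l3 : finrank k (asc ρ A 3) < finrank k (asc ρ A 4) :=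
    Submodule.finrank_lt_finrank_of_lt (SetLike.lt_iff_le_and_exists.2 ⟨asc_le_succ A 3, v, hv, h3⟩)
  have h4 := Submodule.finrank_le (asc ρ A 4)
  have h5 := cod_add (ρ := ρ) A
  rw [← asc_one] at h5
  omega

/-- **G4.** The trilinear forms of an offender have a non-trivial radical. -/
theorem _root_.Cfsg.Agent.TwoF.Off.exists_rad {p : ℕ} [Fact p.Prime] {V : Type*} [AddCommGroup V] [Module (ZMod p) V]
    [Finite V] {ρ : Representation (ZMod p) Y V} [Finite Y] {A : Subgroup Y} (hA : Off p ρ A) {v : V}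
    (hv : v ∈ asc ρ A 4) (h3 : v ∉ asc ρ A 3) (φ : V →ₗ[ZMod p] ZMod p) :
    ∃ a ∈ A, a ≠ 1 ∧ ∀ b ∈ A, ∀ c ∈ A, tri ρ φ v a b c = 0 := by
  by_contra h
  push Not at h
  obtain ⟨r, -, h1, h2⟩ := hA.exists_card
  have h4 : trad hv φ = ⊥ := (Subgroup.eq_bot_iff_forall _).2 fun a ha => by
    by_contra e
    obtain ⟨b, hb, c, hc, h5⟩ := h a ha.1 e
    exact h5 ((mem_trad.1 ha).2 b hb c hc)
  have := two_mul_rank_lt_cod (fun a ha b hb => elemAb_comm hA.1 ha hb) hv h3 φ (n := r)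
    (by rw [h4, Subgroup.relIndex_bot_left, Nat.card_zmod, h1])
  omega

/-- vectors fixed by `B ≤ A` that are independent modulo the fixed space of `A` -/
theorem cod_add_le_of_indep {ι : Type*} [Fintype ι] {A B : Subgroup Y} (hB : B ≤ A) (w : ι → V)
    (hw : ∀ i, w i ∈ fx ρ B) (h : ∀ t : ι → k, ∑ i, t i • w i ∈ fx ρ A → ∀ i, t i = 0) :
    cod ρ B + Fintype.card ι ≤ cod ρ A := by
  have h1 := finrank_map_mkQ (fx_anti (ρ := ρ) hB)
  have h2 : Fintype.card ι ≤ finrank k ((fx ρ B).map (fx ρ A).mkQ) := by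
    refine ((Fintype.linearIndependent_iff (v := fun i =>
      (⟨_, Submodule.mem_map_of_mem (hw i)⟩ : (fx ρ B).map (fx ρ A).mkQ))).2 fun t ht => h t ?_).fintype_card_le_finrank
    have h3 := congrArg Subtype.val ht
    rw [← Submodule.Quotient.mk_eq_zero, ← Submodule.mkQ_apply, map_sum]
    simpa only [map_smul, AddSubmonoidClass.coe_finsetSum, SetLike.val_smul, ZeroMemClass.coe_zero] using h3
  have h4 := cod_add (ρ := ρ) A
  have h5 := cod_add (ρ := ρ) B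
  omega

/-! ### characteristic two -/

section Two

variable [CharP k 2] {A : Subgroup Y}

omit [FiniteDimensional k V] in
theorem two_eq_zero' : (2 : k) = 0 := by exact_mod_cast CharP.cast_eq_zero k 2

omit [FiniteDimensional k V] [CharP k 2] in
theorem mem_fx_zpowers' {a : Y} {v : V} : v ∈ fx ρ (Subgroup.zpowers a) ↔ (ρ a - 1) v = 0 :=
  mem_fx_zpowers.trans sub_eq_zero.symm

/-- **G4**, `p = 2`: an element that does not centralise `I² V` -/
theorem cod_add_three_le (hA : IsElementaryAbelian 2 A) {a b c : Y} (ha : a ∈ A) (hb : b ∈ A) (hc : c ∈ A) {v : V}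
    (hv : (ρ a - 1) ((ρ b - 1) ((ρ c - 1) v)) ≠ 0) : cod ρ (Subgroup.zpowers a) + 3 ≤ cod ρ A := by
  have xx := sub_one_sq_of_two (ρ := ρ) hA two_eq_zero' ha
  have yy := sub_one_sq_of_two (ρ := ρ) hA two_eq_zero' hb
  have zz := sub_one_sq_of_two (ρ := ρ) hA two_eq_zero' hc
  have yx := sub_one_comm (ρ := ρ) (elemAb_comm hA hb ha)
  have zx := sub_one_comm (ρ := ρ) (elemAb_comm hA hc ha)
  have zy := sub_one_comm (ρ := ρ) (elemAb_comm hA hc hb)
  refine cod_add_le_of_indep ((Subgroup.zpowers_le).2 ha)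
    ![(ρ a - 1) v, (ρ a - 1) ((ρ b - 1) v), (ρ a - 1) ((ρ c - 1) v)]
    (fun i => by fin_cases i <;> exact mem_fx_zpowers'.2 (xx _)) fun t ht => ?_
  have h2 : (ρ b - 1) _ = 0 := sub_eq_zero.2 (ht b hb)
  have h3 : (ρ c - 1) _ = 0 := sub_eq_zero.2 (ht c hc)
  generalize ρ a - 1 = x at *
  generalize ρ b - 1 = y at *
  generalize ρ c - 1 = z at *
  have e0 := congrArg y h3
  simp [Fin.sum_univ_succ, yy, zz, yx, zx, zy, hv] at e0
  simp only [Fin.sum_univ_succ, yy, zz, yx, zx, zy, hv, e0, _root_.Nat.succ_eq_add_one, _root_.Nat.reduceAdd, _root_.Fin.isValue, _root_.Matrix.cons_val_zero, _root_.zero_smul, _root_.Matrix.cons_val_succ, _root_.Fin.succ_zero_eq_one, _root_.Finset.univ_unique, _root_.Fin.default_eq_zero, _root_.Matrix.cons_val_fin_one, _root_.Finset.sum_singleton, _root_.Fin.succ_one_eq_two, _root_.zero_add, _root_.map_add, _root_.map_smul, _root_.map_zero, _root_.smul_zero, _root_.smul_eq_zero, _root_.or_false,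 _root_.add_zero] at h2 h3
  intro i
  fin_cases i <;> assumption

/-- **G4**, `p = 2`: an element `d` that centralises `I² v` -/
theorem cod_add_four_le (hA : IsElementaryAbelian 2 A) {a b c d : Y} (ha : a ∈ A) (hb : b ∈ A) (hc : c ∈ A)
    (hd : d ∈ A) {v : V} (hv : (ρ a - 1) ((ρ b - 1) ((ρ c - 1) v)) ≠ 0)
    (h : ∀ e ∈ A, ∀ f ∈ A, (ρ d - 1) ((ρ e - 1) ((ρ f - 1) v)) = 0) : cod ρ (Subgroup.zpowers d) + 4 ≤ cod ρ A := by
  have xx := sub_one_sq_of_two (ρ := ρ) hA two_eq_zero' ha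
  have yy := sub_one_sq_of_two (ρ := ρ) hA two_eq_zero' hb
  have zz := sub_one_sq_of_two (ρ := ρ) hA two_eq_zero' hc
  have ww := sub_one_sq_of_two (ρ := ρ) hA two_eq_zero' hd
  have yx := sub_one_comm (ρ := ρ) (elemAb_comm hA hb ha)
  have zx := sub_one_comm (ρ := ρ) (elemAb_comm hA hc ha)
  have zy := sub_one_comm (ρ := ρ) (elemAb_comm hA hc hb)
  have wx := sub_one_comm (ρ := ρ) (elemAb_comm hA hd ha)
  have wy := sub_one_comm (ρ := ρ) (elemAb_comm hA hd hb)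
  have wz := sub_one_comm (ρ := ρ) (elemAb_comm hA hd hc)
  have wxy := h a ha b hb
  have wxz := h a ha c hc
  have wyz := h b hb c hc
  -- a fourth vector
  have key : ∀ u, (ρ d - 1) u = 0 → (∀ s t₁ t₂ t₃ : k, s • u + (t₁ • (ρ a - 1) ((ρ b - 1) v) +
      (t₂ • (ρ a - 1) ((ρ c - 1) v) + t₃ • (ρ b - 1) ((ρ c - 1) v))) ∈ fx ρ A → s = 0) →
      cod ρ (Subgroup.zpowers d) + 4 ≤ cod ρ A := fun u hu h1 => by
    refine cod_add_le_of_indep ((Subgroup.zpowers_le).2 hd)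
      ![u, (ρ a - 1) ((ρ b - 1) v), (ρ a - 1) ((ρ c - 1) v), (ρ b - 1) ((ρ c - 1) v)]
      (fun i => by fin_cases i <;> exact mem_fx_zpowers'.2 (by assumption)) fun t ht => ?_
    have e0 : t 0 = 0 := h1 _ (t 1) (t 2) (t 3) (by simpa only [Fin.sum_univ_succ, _root_.Fin.isValue, _root_.LinearMap.sub_apply, _root_.Module.End.one_apply, _root_.map_sub, _root_.Nat.succ_eq_add_one, _root_.Nat.reduceAdd, _root_.Matrix.cons_val_zero, _root_.Matrix.cons_val_succ, _root_.Fin.succ_zero_eq_one, _root_.Fin.succ_one_eq_two, _root_.Finset.univ_unique, _root_.Fin.default_eq_zero, _root_.Matrix.cons_val_fin_one, _root_.Finset.sum_singleton, _root_.Fin.reduceSucc] using ht)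
    have h1 : (ρ a - 1) _ = 0 := sub_eq_zero.2 (ht a ha)
    have h2 : (ρ b - 1) _ = 0 := sub_eq_zero.2 (ht b hb)
    have h3 : (ρ c - 1) _ = 0 := sub_eq_zero.2 (ht c hc)
    generalize ρ a - 1 = x at *
    generalize ρ b - 1 = y at *
    generalize ρ c - 1 = z at *
    simp only [Fin.sum_univ_succ, xx, yy, zz, yx, zx, zy, hv, e0, _root_.Nat.succ_eq_add_one, _root_.Nat.reduceAdd, _root_.Fin.isValue, _root_.Matrix.cons_val_zero, _root_.zero_smul, _root_.Matrix.cons_val_succ, _root_.Fin.succ_zero_eq_one, _root_.Fin.succ_one_eq_two, _root_.Finset.univ_unique, _root_.Fin.default_eq_zero, _root_.Matrix.cons_val_fin_one, _root_.Finset.sum_singleton, _root_.Fin.reduceSucc, _root_.zero_add, _root_.map_add, _root_.map_smul, _root_.smul_zero, _root_.smul_eq_zero, _root_.or_false, _root_.map_zero, _root_.add_zero] at h1 h2 h3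
    intro i
    fin_cases i <;> assumption
  by_contra h1
  have h2 : ∃ s t₁ t₂ t₃ : k, s • (ρ d - 1) v + (t₁ • (ρ a - 1) ((ρ b - 1) v) +
      (t₂ • (ρ a - 1) ((ρ c - 1) v) + t₃ • (ρ b - 1) ((ρ c - 1) v))) ∈ fx ρ A ∧ s ≠ 0 := by
    by_contra e
    push Not at e
    exact h1 (key _ (ww v) e)
  obtain ⟨s, t₁, t₂, t₃, h2, hs⟩ := h2
  have e1 : (ρ a - 1) _ = 0 := sub_eq_zero.2 (h2 a ha)
  have e2 : (ρ b - 1) _ = 0 := sub_eq_zero.2 (h2 b hb)
  have hfx : ∀ u ∈ fx ρ A, (ρ b - 1) u = 0 ∧ (ρ c - 1) u = 0 := fun u hu =>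
    ⟨sub_eq_zero.2 (hu b hb), sub_eq_zero.2 (hu c hc)⟩
  generalize ρ a - 1 = x at *
  generalize ρ b - 1 = y at *
  generalize ρ c - 1 = z at *
  generalize ρ d - 1 = w at *
  simp only [map_add, map_smul, xx, yy, yx, map_zero, smul_zero, zero_add, add_zero, ← wx, ← wy] at e1 e2
  by_cases h3 : t₃ = 0
  · rw [h3, zero_smul, add_zero, smul_eq_zero] at e1
    refine h1 (key (x v) (e1.resolve_left hs) fun s' _ _ _ e => ?_)
    have := congrArg y (hfx _ e).2
    simpa [yy, zz, yx, zx, zy, hv] using this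
  · refine h1 (key (t₃ • y v - t₂ • x v) (smul_right_injective V hs ?_) fun s' _ _ _ e => ?_)
    · show s • w _ = s • (0 : V)
      rw [map_sub, map_smul, map_smul, smul_sub, smul_comm s, smul_comm s, eq_neg_of_add_eq_zero_left e1,
        eq_neg_of_add_eq_zero_left e2, smul_neg, smul_neg, smul_comm, sub_self, smul_zero]
    · have := congrArg x (hfx _ e).2
      simpa [xx, yy, zz, yx, zx, zy, hv, h3] using this

/-- **G4**, `p = 2`: every element of a non-cubic group -/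
theorem cod_add_three_le_of_not_cub (hA : IsElementaryAbelian 2 A) (h : ¬ Cub ρ A) {d : Y} (hd : d ∈ A) :
    cod ρ (Subgroup.zpowers d) + 3 ≤ cod ρ A := by
  obtain ⟨v, -, hv⟩ := SetLike.not_le_iff_exists.1 fun e => h (cub_iff_asc.2 (top_le_iff.1 e))
  rw [mem_asc_three] at hv
  push Not at hv
  obtain ⟨c, hc, b, hb, a, ha, hv⟩ := hv
  by_cases h1 : ∀ e ∈ A, ∀ f ∈ A, (ρ d - 1) ((ρ e - 1) ((ρ f - 1) v)) = 0
  · have := cod_add_four_le hA ha hb hc hd hv h1
    omega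
  · push Not at h1
    obtain ⟨e, he, f, hf, h1⟩ := h1
    exact cod_add_three_le hA hd he hf h1

omit [FiniteDimensional k V] in
theorem eight_le_relIndex [Finite A] (hA : IsElementaryAbelian 2 A) {v : V} (hv : v ∈ asc ρ A 4) {φ : V →ₗ[k] k}
    {a b c : Y} (ha : a ∈ A) (hb : b ∈ A) (hc : c ∈ A) (h : tri ρ φ v a b c ≠ 0) : 8 ≤ (trad hv φ).relIndex A := by
  have alt : ∀ e ∈ A, ∀ f ∈ A, tri ρ φ v e e f = 0 ∧ tri ρ φ v e f e = 0 := fun e he f hf => by
    have h1 : tri ρ φ v e e f = 0 := by rw [tri, sub_one_sq_of_two hA two_eq_zero' he, map_zero]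
    exact ⟨h1, by rw [tri_swap₂ (elemAb_comm hA hf he), h1]⟩
  have hb' : tri ρ φ v b a c ≠ 0 := by rwa [tri_swap₁ (elemAb_comm hA hb ha)]
  have hc' : tri ρ φ v c a b ≠ 0 := by rwa [tri_swap₁ (elemAb_comm hA hc ha), tri_swap₂ (elemAb_comm hA hc hb)]
  have h1 := card_le_relIndex (D := trad hv φ) (fun i : Fin 2 × Fin 2 × Fin 2 =>
    (⟨a ^ i.1.val * (b ^ i.2.1.val * c ^ i.2.2.val), mul_mem (pow_mem ha _) (mul_mem (pow_mem hb _) (pow_mem hc _))⟩ : A))
    fun i j e => by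
      have key : ∀ e' ∈ A, ∀ f ∈ A, (i.1.val : k) * tri ρ φ v a e' f + ((i.2.1.val : k) * tri ρ φ v b e' f +
          (i.2.2.val : k) * tri ρ φ v c e' f) = (j.1.val : k) * tri ρ φ v a e' f + ((j.2.1.val : k) * tri ρ φ v b e' f +
          (j.2.2.val : k) * tri ρ φ v c e' f) := fun e' he' f hf => by
        have h2 := tri_addOn hv φ he' hf
        have h3 : ∀ i : Fin 2 × Fin 2 × Fin 2, tri ρ φ v (a ^ i.1.val * (b ^ i.2.1.val * c ^ i.2.2.val)) e' f =
            (i.1.val : k) * tri ρ φ v a e' f + ((i.2.1.val : k) * tri ρ φ v b e' f +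
              (i.2.2.val : k) * tri ρ φ v c e' f) := fun i =>
          (h2 _ (pow_mem ha _) _ (mul_mem (pow_mem hb _) (pow_mem hc _))).trans (congrArg₂ _ (h2.pow ha _)
            ((h2 _ (pow_mem hb _) _ (pow_mem hc _)).trans (congrArg₂ _ (h2.pow hb _) (h2.pow hc _))))
        have h4 := h2 _ (mul_mem (pow_mem ha i.1.val) (mul_mem (pow_mem hb i.2.1.val) (pow_mem hc i.2.2.val))) _ e.1
        beta_reduce at h4
        rw [(mem_trad.1 e).2 e' he' f hf, add_zero, mul_inv_cancel_left, h3, h3] at h4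
        exact h4.symm
      have inj : ∀ m n : Fin 2, (m.val : k) = n.val → m = n := fun m n e => by
        fin_cases m <;> fin_cases n <;> simp at e ⊢
      have e1 := key b hb c hc
      have e2 := key a ha c hc
      have e3 := key a ha b hb
      simp only [(alt a ha _ hb).1, (alt a ha _ hc).1, (alt b hb _ hc).1, (alt b hb _ ha).2, (alt c hc _ ha).2,
        (alt c hc _ hb).2, mul_zero, add_zero, zero_add] at e1 e2 e3
      exact Prod.ext (inj _ _ (mul_right_cancel₀ h e1))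
        (Prod.ext (inj _ _ (mul_right_cancel₀ hb' e2)) (inj _ _ (mul_right_cancel₀ hc' e3)))
  simpa using h1

end Two

/-! ### rank four in characteristic two -/

section Four

variable {V : Type*} [AddCommGroup V] [Module (ZMod 2) V] [Finite V] {ρ : Representation (ZMod 2) Y V}
  {A : Subgroup Y} [Finite A]

theorem three_le_of_eight {n : ℕ} (h : 8 ≤ Nat.card (ZMod 2) ^ n) : 3 ≤ n :=
  le_of_pow_le_pow_card (k := ZMod 2) (by rwa [Nat.card_zmod] at h ⊢)

theorem four_le_of_sixteen {n : ℕ} (h : 16 ≤ Nat.card (ZMod 2) ^ n) : 4 ≤ n :=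
  le_of_pow_le_pow_card (k := ZMod 2) (by rwa [Nat.card_zmod] at h ⊢)

theorem asc_four_eq_top (hA : IsElementaryAbelian 2 A) (h8 : cod ρ A ≤ 8) : asc ρ A 4 = ⊤ := by
  by_contra h
  obtain ⟨v, h5, h4⟩ : ∃ v ∈ asc ρ A 5, v ∉ asc ρ A 4 := SetLike.exists_of_lt (asc_lt (elemAb_isPGroup hA) h)
  have hv := h4
  rw [mem_asc_four] at hv
  push Not at hv
  obtain ⟨d, hd, c, hc, b, hb, a, ha, hv⟩ := hv
  obtain ⟨φ, h1, -⟩ := exists_dual_of_notMem (U := ⊥) (fun e => hv ((Submodule.mem_bot (ZMod 2)).1 e))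
  have h2 := eight_le_relIndex hA (asc_step h5 hd) (φ := φ) ha hb hc h1
  have l2 := three_le_of_eight (h2.trans (relIndex_trad_le_vec (fun a ha b hb => elemAb_comm hA ha hb) _ φ))
  have l1 := three_le_of_eight (h2.trans (relIndex_trad_le_dual _ φ (asc_le_succ A 1) (asc_one_kill φ)))
  have l4 : finrank (ZMod 2) (asc ρ A 4) < finrank (ZMod 2) (asc ρ A 5) :=
    Submodule.finrank_lt_finrank_of_lt (SetLike.lt_iff_le_and_exists.2 ⟨asc_le_succ A 4, v, h5, h4⟩)
  have l3 : finrank (ZMod 2) (asc ρ A 3) + Fintype.card (Fin 2) ≤ finrank (ZMod 2) (asc ρ A 4) := by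
    rw [← finrank_map_mkQ (asc_le_succ (ρ := ρ) A 3)]
    refine Nat.add_le_add_left ((Fintype.linearIndependent_iff (v := ![
      (⟨_, Submodule.mem_map_of_mem (asc_step h5 hd)⟩ : (asc ρ A 4).map (asc ρ A 3).mkQ),
      ⟨_, Submodule.mem_map_of_mem (asc_step h5 hc)⟩])).2 fun t ht => ?_).fintype_card_le_finrank _
    have h3 : t 0 • (ρ d - 1) v + t 1 • (ρ c - 1) v ∈ asc ρ A 3 := by
      rw [← Submodule.Quotient.mk_eq_zero, ← Submodule.mkQ_apply, map_add, map_smul, map_smul]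
      simpa only [Fin.sum_univ_succ, _root_.Fin.isValue, _root_.LinearMap.sub_apply, _root_.Module.End.one_apply, _root_.Submodule.mkQ_apply, _root_.Submodule.Quotient.mk_sub, _root_.Nat.succ_eq_add_one, _root_.Nat.reduceAdd, _root_.Matrix.cons_val_zero, _root_.SetLike.mk_smul_mk, _root_.Finset.univ_unique, _root_.Fin.default_eq_zero, _root_.Matrix.cons_val_succ, _root_.Matrix.cons_val_fin_one, _root_.Finset.sum_singleton, _root_.Fin.succ_zero_eq_one, _root_.AddMemClass.mk_add_mk, _root_.ZeroMemClass.coe_zero] using congrArg Subtype.val ht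
    have e1 := mem_asc_three.1 h3 c hc b hb a ha
    have e2 := mem_asc_three.1 h3 d hd b hb a ha
    simp only [map_add, map_smul, sub_one_sq_of_two hA two_eq_zero' hc, sub_one_sq_of_two hA two_eq_zero' hd,
      smul_zero, add_zero, zero_add, sub_one_comm (ρ := ρ) (elemAb_comm hA hd hc), smul_eq_zero, hv,
      or_false] at e1 e2
    intro i
    fin_cases i <;> assumption
  have h6 := Submodule.finrank_le (asc ρ A 5)
  have h7 := cod_add (ρ := ρ) A
  rw [← asc_one] at h7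
  rw [Fintype.card_fin] at l3
  omega

theorem eq_of_mem_trad (hA : IsElementaryAbelian 2 A) (hc : Nat.card A = 16) {v : V} (hv : v ∈ asc ρ A 4)
    {φ : V →ₗ[ZMod 2] ZMod 2} (h : ∃ a ∈ A, ∃ b ∈ A, ∃ c ∈ A, tri ρ φ v a b c ≠ 0) {d e : Y} (hd : d ∈ trad hv φ)
    (h1 : d ≠ 1) (he : e ∈ trad hv φ) (h2 : e ≠ 1) : e = d := by
  obtain ⟨a, ha, b, hb, c, hc', h⟩ := h
  have h3 := eight_le_relIndex hA hv ha hb hc' h
  have h4 := PLocal.PConstrained.card_mul_relIndex_eq (show trad hv φ ≤ A from fun _ h => h.1)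
  have : Finite (trad hv φ) := Finite.of_injective _ (Subgroup.inclusion_injective (show trad hv φ ≤ A from fun _ h => h.1))
  by_contra h5
  have h6 := Nat.card_le_card_of_injective (![1, ⟨d, hd⟩, ⟨e, he⟩] : Fin 3 → trad hv φ) (by
    intro i j
    fin_cases i <;> fin_cases j <;> simp only [h1, h2, h5, h1.symm, h2.symm, Ne.symm h5, Subtype.ext_iff, _root_.Nat.succ_eq_add_one, _root_.Nat.reduceAdd, _root_.Fin.zero_eta, _root_.Fin.isValue, _root_.Matrix.cons_val_zero, _root_.imp_self, _root_.Fin.mk_one, _root_.Matrix.cons_val_one, _root_.OneMemClass.coe_one, _root_.zero_ne_one, _root_.Fin.reduceFinMk, _root_.Matrix.cons_val, _root_.Fin.reduceEq, _root_.one_ne_zero])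
  rw [Nat.card_eq_fintype_card, Fintype.card_fin] at h6
  rw [hc] at h4
  nlinarith

theorem trad_same_vec (hA : IsElementaryAbelian 2 A) (hc : Nat.card A = 16) (h8 : cod ρ A ≤ 8) {v : V}
    (hv : v ∈ asc ρ A 4) {φ : V →ₗ[ZMod 2] ZMod 2} (h : ∃ a ∈ A, ∃ b ∈ A, ∃ c ∈ A, tri ρ φ v a b c ≠ 0) {d : Y}
    (hd : d ∈ trad hv φ) (h1 : d ≠ 1) (ψ : V →ₗ[ZMod 2] ZMod 2) : d ∈ trad hv ψ := by
  refine mem_trad.2 ⟨hd.1, fun b hb c hc' => ?_⟩
  by_contra h2
  have hcm := fun a ha b hb => elemAb_comm hA (a := a) (b := b) ha hb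
  have l2 := relIndex_le_of_vec (D := ⊥) (inv_asc Subgroup.le_normalizer 2) (asc_le_succ A 2)
    (fun _ ha => asc_step hv ha) fun a ha h3 => by
      have h4 : ∀ χ, a ∈ trad hv χ := fun χ => mem_trad.2 ⟨ha, fun b hb c hc => by
        rw [tri_swap₁ (hcm a ha b hb), tri_swap₂ (hcm a ha c hc), tri,
          (Submodule.mem_bot (ZMod 2)).1 (asc_step (asc_step h3 hc) hb), map_zero]⟩
      by_contra h5
      exact h2 ((mem_trad.1 (eq_of_mem_trad hA hc hv h hd h1 (h4 φ) h5 ▸ h4 ψ)).2 b hb c hc')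
  rw [Subgroup.relIndex_bot_left, hc] at l2
  replace l2 : 4 ≤ finrank (ZMod 2) (asc ρ A 3) - finrank (ZMod 2) (asc ρ A 2) := four_le_of_sixteen l2
  have hu : (ρ d - 1) ((ρ b - 1) v) ∈ asc ρ A 2 := asc_step (asc_step hv hb) hd.1
  have hu' : (ρ d - 1) ((ρ b - 1) v) ∉ asc ρ A 1 := fun e => h2 (by
    rw [tri_swap₂ (hcm b hb c hc'), tri_swap₁ (hcm d hd.1 c hc'), tri,
      (Submodule.mem_bot (ZMod 2)).1 (asc_step e hc'), map_zero])
  obtain ⟨a₀, ha₀, b₀, hb₀, c₀, hc₀, h0⟩ := h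
  have l1 := three_le_of_eight ((eight_le_relIndex hA hv ha₀ hb₀ hc₀ h0).trans (relIndex_trad_le_dual hv φ
    (P := asc ρ A 1 ⊔ Submodule.span (ZMod 2) {(ρ d - 1) ((ρ b - 1) v)})
    (sup_le (asc_le_succ A 1) ((Submodule.span_singleton_le_iff_mem _ _).2 hu)) fun a ha u hu => by
      obtain ⟨u₁, h3, u₂, h4, rfl⟩ := Submodule.mem_sup.1 hu
      obtain ⟨t, rfl⟩ := Submodule.mem_span_singleton.1 h4
      have h5 := (mem_trad.1 hd).2 a ha b hb
      rw [tri_swap₁ (hcm d hd.1 a ha), tri] at h5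
      rw [map_add, map_add, asc_one_kill φ a ha _ h3, map_smul, map_smul, h5, smul_zero, add_zero]))
  have l0 : finrank (ZMod 2) (asc ρ A 1) <
      finrank (ZMod 2) ↥(asc ρ A 1 ⊔ Submodule.span (ZMod 2) {(ρ d - 1) ((ρ b - 1) v)}) :=
    Submodule.finrank_lt_finrank_of_lt (SetLike.lt_iff_le_and_exists.2 ⟨le_sup_left, _,
      Submodule.mem_sup_right (Submodule.mem_span_singleton_self _), hu'⟩)
  have l3 : finrank (ZMod 2) (asc ρ A 3) < finrank (ZMod 2) (asc ρ A 4) :=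
    Submodule.finrank_lt_finrank_of_lt (SetLike.lt_iff_le_and_exists.2 ⟨asc_le_succ A 3, v, hv,
      notMem_asc_of_tri ha₀ hb₀ hc₀ h0⟩)
  have h6 := Submodule.finrank_le (asc ρ A 4)
  have h7 := cod_add (ρ := ρ) A
  rw [← asc_one] at h7
  omega

theorem trad_same_dual (hA : IsElementaryAbelian 2 A) (hc : Nat.card A = 16) (h8 : cod ρ A ≤ 8) {v : V}
    (hv : v ∈ asc ρ A 4) {φ : V →ₗ[ZMod 2] ZMod 2} (h : ∃ a ∈ A, ∃ b ∈ A, ∃ c ∈ A, tri ρ φ v a b c ≠ 0) {d : Y}
    (hd : d ∈ trad hv φ) (h1 : d ≠ 1) {w : V} (hw : w ∈ asc ρ A 4) : d ∈ trad hw φ := by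
  refine mem_trad.2 ⟨hd.1, fun b hb c hc' => ?_⟩
  by_contra h2
  have l1 := relIndex_le_of_dual (D := ⊥) (asc_le_succ A 1) φ (addOn_asc_two φ) (asc_one_kill φ) fun a ha h3 => by
    have h4 : ∀ u (hu : u ∈ asc ρ A 4), a ∈ trad hu φ := fun u hu =>
      mem_trad.2 ⟨ha, fun _ hb _ hc => h3 _ (asc_step (asc_step hu hc) hb)⟩
    by_contra h5
    exact h2 ((mem_trad.1 (eq_of_mem_trad hA hc hv h hd h1 (h4 v hv) h5 ▸ h4 w hw)).2 b hb c hc')
  rw [Subgroup.relIndex_bot_left, hc] at l1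
  replace l1 : 4 ≤ finrank (ZMod 2) (asc ρ A 2) - finrank (ZMod 2) (asc ρ A 1) := four_le_of_sixteen l1
  obtain ⟨a₀, ha₀, b₀, hb₀, c₀, hc₀, h0⟩ := h
  have l2 := three_le_of_eight ((eight_le_relIndex hA hv ha₀ hb₀ hc₀ h0).trans
    (relIndex_trad_le_vec (fun a ha b hb => elemAb_comm hA ha hb) hv φ))
  have l3 : finrank (ZMod 2) (asc ρ A 3) + Fintype.card (Fin 2) ≤ finrank (ZMod 2) (asc ρ A 4) := by
    rw [← finrank_map_mkQ (asc_le_succ (ρ := ρ) A 3)]
    refine Nat.add_le_add_left ((Fintype.linearIndependent_iff (v := ![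
      (⟨_, Submodule.mem_map_of_mem hv⟩ : (asc ρ A 4).map (asc ρ A 3).mkQ),
      ⟨_, Submodule.mem_map_of_mem hw⟩])).2 fun t ht => ?_).fintype_card_le_finrank _
    have h3 : t 0 • v + t 1 • w ∈ asc ρ A 3 := by
      rw [← Submodule.Quotient.mk_eq_zero, ← Submodule.mkQ_apply, map_add, map_smul, map_smul]
      simpa only [Fin.sum_univ_succ, _root_.Fin.isValue, _root_.Submodule.mkQ_apply, _root_.Nat.succ_eq_add_one, _root_.Nat.reduceAdd, _root_.Matrix.cons_val_zero, _root_.SetLike.mk_smul_mk, _root_.Finset.univ_unique, _root_.Fin.default_eq_zero, _root_.Matrix.cons_val_succ, _root_.Matrix.cons_val_fin_one, _root_.Finset.sum_singleton, _root_.Fin.succ_zero_eq_one, _root_.AddMemClass.mk_add_mk, _root_.ZeroMemClass.coe_zero] using congrArg Subtype.val ht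
    have h4 : ∀ a ∈ A, ∀ b ∈ A, ∀ c ∈ A, t 0 * tri ρ φ v a b c + t 1 * tri ρ φ w a b c = 0 := fun a ha b hb c hc => by
      have := congrArg φ (mem_asc_three.1 h3 c hc b hb a ha)
      simpa only [tri, map_add, map_smul, map_zero, smul_eq_mul] using this
    have e1 := h4 d hd.1 b hb c hc'
    rw [(mem_trad.1 hd).2 b hb c hc', mul_zero, zero_add] at e1
    replace e1 := (mul_eq_zero.1 e1).resolve_right h2
    have e0 := h4 a₀ ha₀ b₀ hb₀ c₀ hc₀
    rw [e1, zero_mul, add_zero] at e0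
    replace e0 := (mul_eq_zero.1 e0).resolve_right h0
    intro i
    fin_cases i <;> assumption
  have h6 := Submodule.finrank_le (asc ρ A 4)
  have h7 := cod_add (ρ := ρ) A
  rw [← asc_one] at h7
  rw [Fintype.card_fin] at l3
  omega

/-- **G4**, `p = 2`, rank four: a non-cubic offender contains a unique involution `d` that centralises `I² V`; it is fixed
by the normaliser and `cod ⟨d⟩ ≤ 4`. -/
theorem rank_four (hA : IsElementaryAbelian 2 A) (hc : Nat.card A = 16) (h8 : cod ρ A ≤ 8) (hn : ¬ Cub ρ A) :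
    ∃ d ∈ A, d ≠ 1 ∧ cod ρ (Subgroup.zpowers d) + 4 ≤ cod ρ A ∧
      (∀ g ∈ Subgroup.normalizer (A : Set Y), g * d = d * g) ∧
      ∀ b ∈ A, ∀ c ∈ A, ∀ v, (ρ d - 1) ((ρ b - 1) ((ρ c - 1) v)) = 0 := by
  have h4 : ∀ v, v ∈ asc ρ A 4 := fun v => asc_four_eq_top hA h8 ▸ Submodule.mem_top
  obtain ⟨v₀, -, h3⟩ := exists_asc_four (elemAb_isPGroup hA) hn
  obtain ⟨φ₀, h0⟩ := exists_tri_ne h3
  obtain ⟨d, hd, h1⟩ : ∃ d ∈ trad (h4 v₀) φ₀, d ≠ 1 := by
    by_contra e
    push Not at e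
    have := two_mul_rank_lt_cod (fun a ha b hb => elemAb_comm hA ha hb) (h4 v₀) h3 φ₀ (n := 4)
      (by rw [(Subgroup.eq_bot_iff_forall _).2 e, Subgroup.relIndex_bot_left, Nat.card_zmod, hc]; norm_num)
    omega
  have h5 : ∀ v φ, d ∈ trad (h4 v) φ := fun v φ => by
    have h6 := trad_same_vec hA hc h8 _ h0 hd h1
    by_cases h7 : ∃ a ∈ A, ∃ b ∈ A, ∃ c ∈ A, tri ρ φ v₀ a b c ≠ 0
    · exact trad_same_dual hA hc h8 _ h7 (h6 φ) h1 _
    · push Not at h7
      obtain ⟨a, ha, b, hb, c, hc', h0'⟩ := id h0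
      have h9 := trad_same_dual hA hc h8 _ ⟨a, ha, b, hb, c, hc', by rwa [tri_add_left, h7 a ha b hb c hc', zero_add]⟩
        (h6 (φ + φ₀)) h1 (h4 v)
      have h10 := trad_same_dual hA hc h8 _ h0 hd h1 (h4 v)
      refine mem_trad.2 ⟨hd.1, fun b hb c hc => ?_⟩
      have := (mem_trad.1 h9).2 b hb c hc
      rwa [tri_add_left, (mem_trad.1 h10).2 b hb c hc, add_zero] at this
  have h6 : ∀ b ∈ A, ∀ c ∈ A, ∀ v, (ρ d - 1) ((ρ b - 1) ((ρ c - 1) v)) = 0 := fun b hb c hc v => by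
    by_contra e
    obtain ⟨φ, h7, -⟩ := exists_dual_of_notMem (U := ⊥) (fun e' => e ((Submodule.mem_bot (ZMod 2)).1 e'))
    exact h7 ((mem_trad.1 (h5 v φ)).2 b hb c hc)
  refine ⟨d, hd.1, h1, ?_, fun g hg => ?_, h6⟩
  · obtain ⟨a, ha, b, hb, c, hc', h0⟩ := h0
    exact cod_add_four_le hA ha hb hc' hd.1 (v := v₀) (fun e => h0 (by rw [tri, e, map_zero]))
      fun e he f hf => h6 e he f hf v₀
  · rw [← mul_inv_eq_iff_eq_mul]
    refine eq_of_mem_trad hA hc _ h0 hd h1 (mem_trad.2 ⟨(Subgroup.mem_normalizer_iff.1 hg d).1 hd.1,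
      fun b hb c hc => ?_⟩) fun e => h1 (by simpa only [_root_.conj_eq_one_iff] using e)
    rw [show b = g * (g⁻¹ * b * g) * g⁻¹ by group, show c = g * (g⁻¹ * c * g) * g⁻¹ by group, tri, conj_sub_one,
      conj_sub_one, conj_sub_one, rho_inv_apply, rho_inv_apply,
      h6 _ (conj_mem_of_normalizer' hg hb) _ (conj_mem_of_normalizer' hg hc), map_zero, map_zero]

end Four

end Cfsg.Agent.TwoF.Gen

private theorem dce_e774eeb0bfa8 : _root_.True := by
  try have : _root_.True := by simp only [_root_.Cfsg.Agent.TwoF.Gen.trad.congr_simp]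
  try have : _root_.True := by simp only [_root_.Cfsg.Agent.TwoF.Gen.tri.eq_1]
  exact _root_.True.intro
end

section
prune_inst 0xf5fff9bfb9eddfffff7e7faefcdffc39949ffff6dff94bffe0ebffebdf23024be5fb8f0de058fe1ed6e0b410b87803fb7eeeffea6bdc7ffffd5ff45ffbee1fe5ffbd0d51d6bc340ffc6ffff3f0778e7f000000000000000000000000000000004200000000

-- part: TwoF/XL/Abs
section
prune_inst 0x80000000402200000018050010003c02a4000092006b0000d14000400d0b194080410f21080018121074a2800004004000100000000000000000000000040000000202009018ad00100000800000000000000000000000000000000000041000000000000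
set_option linter.all false
open scoped Cfsg.Agent.FastGrp

/-!
# TwoF XL: abstract tools (equal fixed spaces, averaging, transitive normalisers, Heisenberg bound) (helper2)
-/

set_option autoImplicit false
set_option linter.unusedSectionVars false

namespace Cfsg.Agent.TwoF.XL

open Module Gen
open scoped commutatorElement

variable {k : Type*} [Field k] {Y : Type*} [Group Y] {V : Type*} [AddCommGroup V] [Module k V]
  {ρ : Representation k Y V} [FiniteDimensional k V]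

/-! ### equal fixed spaces -/

theorem fx_eq_of_cod_le {A B : Subgroup Y} (h : B ≤ A) (hc : cod ρ A ≤ cod ρ B) : fx ρ A = fx ρ B := by
  have h1 := cod_add (ρ := ρ) A
  have h2 := cod_add (ρ := ρ) B
  exact Submodule.eq_of_le_of_finrank_le (fx_anti h) (by omega)

/-- the closure of `B`: everything that fixes the fixed vectors of `B` -/
def cl (ρ : Representation k Y V) (B : Subgroup Y) : Subgroup Y := cen ρ (fx ρ B)

theorem le_cl (B : Subgroup Y) : B ≤ cl ρ B := le_cen_iff.2 le_rfl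

theorem fx_cl (B : Subgroup Y) : fx ρ (cl ρ B) = fx ρ B :=
  le_antisymm (fx_anti (le_cl B)) (le_cen_iff.1 le_rfl)

theorem cod_cl (B : Subgroup Y) : cod ρ (cl ρ B) = cod ρ B := by rw [cod, cod, fx_cl]

theorem le_cl_of_cod_le {A B : Subgroup Y} (h : B ≤ A) (hc : cod ρ A ≤ cod ρ B) : A ≤ cl ρ B :=
  le_cen_iff.2 (fx_eq_of_cod_le h hc).ge

theorem cl_eq_of_cod_le {A B : Subgroup Y} (h : B ≤ A) (hc : cod ρ A ≤ cod ρ B) : cl ρ B = cl ρ A := by
  rw [cl, cl, fx_eq_of_cod_le h hc]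

theorem conj_mem_cl {B : Subgroup Y} {x a : Y} (hx : x ∈ Subgroup.normalizer (B : Set Y)) (ha : a ∈ cl ρ B) :
    x * a * x⁻¹ ∈ cl ρ B := mem_cen.2 fun v hv => by
  have h1 : ρ x⁻¹ v ∈ fx ρ B := inv_fx le_rfl _ (inv_mem hx) v hv
  rw [rho_mul, rho_mul, mem_cen.1 ha _ h1, rho_apply_inv]

theorem mem_normalizer_zpowers_of_comm {x t : Y} (h : x * t = t * x) :
    x ∈ Subgroup.normalizer (Subgroup.zpowers t : Set Y) :=
  Subgroup.centralizer_le_normalizer _ fun _ ⟨i, e⟩ => e ▸ (Commute.zpow_left h.symm i).eq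

/-- the form in which the trick is used: `t ∈ A`, `c(A) ≤ c(t)`; the closure of `A` is normalised by `C(t)` -/
theorem conj_mem_cl_of_comm {A : Subgroup Y} {t x a : Y} (ht : t ∈ A) (hc : cod ρ A ≤ cod ρ (Subgroup.zpowers t))
    (hx : x * t = t * x) (ha : a ∈ cl ρ A) : x * a * x⁻¹ ∈ cl ρ A := by
  rw [← cl_eq_of_cod_le ((Subgroup.zpowers_le).2 ht) hc] at ha ⊢
  exact conj_mem_cl (mem_normalizer_zpowers_of_comm hx) ha

theorem cod_le_of_mem_cl {A : Subgroup Y} {a : Y} (ha : a ∈ cl ρ A) : cod ρ (Subgroup.zpowers a) ≤ cod ρ A :=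
  cod_cl (ρ := ρ) A ▸ cod_mono ((Subgroup.zpowers_le).2 ha)

theorem cod_le_of_le_cl {A B : Subgroup Y} (h : B ≤ cl ρ A) : cod ρ B ≤ cod ρ A :=
  cod_cl (ρ := ρ) A ▸ cod_mono h

theorem cod_le_of_mem {A : Subgroup Y} {a : Y} (ha : a ∈ A) : cod ρ (Subgroup.zpowers a) ≤ cod ρ A :=
  cod_mono ((Subgroup.zpowers_le).2 ha)

theorem cod_pow_le (a : Y) (n : ℕ) : cod ρ (Subgroup.zpowers (a ^ n)) ≤ cod ρ (Subgroup.zpowers a) :=
  cod_le_of_mem (pow_mem (Subgroup.mem_zpowers a) n)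

/-! ### characters of elementary abelian groups -/

section Chars

variable {R : Subgroup Y} [Finite R] {r : ℕ}

omit [FiniteDimensional k V] in
theorem mem_range_char (hr : r.Prime) (he : ∀ g ∈ R, g ^ r = 1) {χ : R →* kˣ} (hχ : χ ≠ 1) {ζ : kˣ}
    (hζ : ζ ^ r = 1) : ζ ∈ χ.range := by
  obtain ⟨z, hz⟩ : ∃ z, χ z ≠ 1 := by
    by_contra e
    push Not at e
    exact hχ (MonoidHom.ext e)
  have : NeZero r := ⟨hr.ne_zero⟩
  have h1 : IsPrimitiveRoot (χ z) r := orderOf_char_eq hr (he _ z.2) hz ▸ IsPrimitiveRoot.orderOf (χ z)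
  obtain ⟨i, -, hi⟩ := h1.eq_pow_of_mem_rootsOfUnity ((mem_rootsOfUnity r ζ).2 hζ)
  exact ⟨z ^ i, by rw [map_pow, hi]⟩

omit [FiniteDimensional k V] in
theorem card_ker_char (hr : r.Prime) (he : ∀ g ∈ R, g ^ r = 1) {χ : R →* kˣ} (hχ : χ ≠ 1) :
    Nat.card χ.ker * r = Nat.card R := by
  obtain ⟨z, hz⟩ : ∃ z, χ z ≠ 1 := by
    by_contra e
    push Not at e
    exact hχ (MonoidHom.ext e)
  have : NeZero r := ⟨hr.ne_zero⟩
  have h0 := orderOf_char_eq hr (he _ z.2) hz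
  have h1 : IsPrimitiveRoot (χ z) r := h0 ▸ IsPrimitiveRoot.orderOf (χ z)
  have h2 : χ.range = Subgroup.zpowers (χ z) := by
    refine le_antisymm ?_ ((Subgroup.zpowers_le).2 ⟨z, rfl⟩)
    rintro _ ⟨g, rfl⟩
    obtain ⟨i, -, hi⟩ := h1.eq_pow_of_mem_rootsOfUnity ((mem_rootsOfUnity r (χ g)).2
      (by rw [← map_pow, show g ^ r = 1 from Subtype.ext (he _ g.2), map_one]))
    exact hi ▸ pow_mem (Subgroup.mem_zpowers _) i
  rw [← Subgroup.card_mul_index χ.ker, Subgroup.index_ker, h2, Nat.card_zpowers, h0]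

omit [FiniteDimensional k V] in
open Classical in
theorem card_fiber_char [Fintype R] (hr : r.Prime) (he : ∀ g ∈ R, g ^ r = 1) {χ : R →* kˣ} (hχ : χ ≠ 1) {ζ : kˣ}
    (hζ : ζ ^ r = 1) : (Finset.univ.filter fun g : R => χ g = ζ).card * r = Nat.card R := by
  rw [MonoidHom.card_fiber_eq_of_mem_range χ (mem_range_char hr he hχ hζ) (y := 1) ⟨1, map_one χ⟩,
    ← card_ker_char hr he hχ]
  congr 1
  rw [← Fintype.card_subtype, ← Nat.card_eq_fintype_card]
  rfl

theorem avg_closed [IsAlgClosed k] [Fintype R] (hr : r.Prime) (hk : (r : k) ≠ 0)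
    (hc : ∀ a ∈ R, ∀ b ∈ R, a * b = b * a) (he : ∀ g ∈ R, g ^ r = 1) :
    r * ∑ g : R, cod ρ (Subgroup.zpowers (g : Y)) = (r - 1) * Nat.card R * cod ρ R := by
  classical
  have : Fact r.Prime := ⟨hr⟩
  have := finite_char k R
  have : Fintype (R →* kˣ) := Fintype.ofFinite _
  have hR : (Nat.card R : k) ≠ 0 := by
    obtain ⟨n, hn⟩ := (elemAb_isPGroup (elemAb_of hc he)).exists_card_eq
    rw [hn, Nat.cast_pow]
    exact pow_ne_zero _ hk
  have h1 : ∀ g : R, cod ρ (Subgroup.zpowers (g : Y)) = ∑ χ : R →* kˣ, if χ g = 1 then 0 else mlt ρ R χ := by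
    intro g
    rw [cod_eq_sum_mlt hc hR ((Subgroup.zpowers_le).2 g.2), Finset.sum_filter]
    refine Finset.sum_congr rfl fun χ _ => ?_
    have e : (∀ s : R, (s : Y) ∈ Subgroup.zpowers (g : Y) → χ s = 1) ↔ χ g = 1 := by
      refine ⟨fun h => h g (Subgroup.mem_zpowers _), fun h s ⟨i, hi⟩ => ?_⟩
      rw [show s = g ^ i from Subtype.ext hi.symm, map_zpow, h, one_zpow]
    by_cases h : χ g = 1
    · rw [if_neg (not_not.2 (e.2 h)), if_pos h]
    · rw [if_pos (mt e.1 h), if_neg h]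
  rw [Finset.sum_congr rfl fun g _ => h1 g, Finset.sum_comm, cod_eq_sum_mlt hc hR le_rfl, Finset.sum_filter,
    Finset.mul_sum, Finset.mul_sum]
  refine Finset.sum_congr rfl fun χ _ => ?_
  by_cases h : χ = 1
  · subst h
    simp
  · have h2 := card_fiber_char hr he h (ζ := 1) (one_pow r)
    have h3 := Finset.card_filter_add_card_filter_not (s := (Finset.univ : Finset R)) fun g => χ g = 1
    rw [Finset.card_univ, ← Nat.card_eq_fintype_card] at h3
    rw [if_pos fun e => h (MonoidHom.ext fun s => e s s.2), Finset.sum_ite, Finset.sum_const_zero, zero_add,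
      Finset.sum_const, smul_eq_mul, ← mul_assoc]
    congr 1
    obtain ⟨s, rfl⟩ := Nat.exists_eq_succ_of_ne_zero hr.ne_zero
    rw [Nat.succ_sub_one]
    rw [Nat.succ_eq_add_one] at h2 ⊢
    nlinarith

/-- **averaging** over an elementary abelian `r`-group -/
theorem avg [Fintype R] [Finite Y] (hr : r.Prime) (hk : (r : k) ≠ 0)
    (hc : ∀ a ∈ R, ∀ b ∈ R, a * b = b * a) (he : ∀ g ∈ R, g ^ r = 1) :
    r * ∑ g : R, cod ρ (Subgroup.zpowers (g : Y)) = (r - 1) * Nat.card R * cod ρ R := by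
  have := avg_closed (ρ := bc (AlgebraicClosure k) ρ) hr (card_ne_zero_closure hk) hc he
  simpa only [cod_bc] using this

theorem sum_cod_eq [Fintype R] [DecidableEq R] : ∑ g : R, cod ρ (Subgroup.zpowers (g : Y)) =
    ∑ g ∈ Finset.univ.erase (1 : R), cod ρ (Subgroup.zpowers (g : Y)) := by
  rw [← Finset.sum_erase_add _ _ (Finset.mem_univ (1 : R)), OneMemClass.coe_one, Subgroup.zpowers_one_eq_bot, cod_bot,
    add_zero]

/-- all elements are expensive: the group is expensive -/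
theorem avg_ge [Finite Y] (hr : r.Prime) (hk : (r : k) ≠ 0) (hc : ∀ a ∈ R, ∀ b ∈ R, a * b = b * a)
    (he : ∀ g ∈ R, g ^ r = 1) {c : ℕ} (h : ∀ g ∈ R, g ≠ 1 → c ≤ cod ρ (Subgroup.zpowers g)) :
    r * ((Nat.card R - 1) * c) ≤ (r - 1) * Nat.card R * cod ρ R := by
  classical
  have : Fintype R := Fintype.ofFinite _
  rw [← avg hr hk hc he, sum_cod_eq]
  refine Nat.mul_le_mul_left _ ?_
  have := Finset.card_nsmul_le_sum (Finset.univ.erase (1 : R)) (fun g => cod ρ (Subgroup.zpowers (g : Y))) c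
    fun g hg => h g g.2 fun e => (Finset.mem_erase.1 hg).1 (Subtype.ext e)
  rwa [Finset.card_erase_of_mem (Finset.mem_univ _), Finset.card_univ, ← Nat.card_eq_fintype_card] at this

/-- all elements are cheap: the group is cheap -/
theorem avg_le [Finite Y] (hr : r.Prime) (hk : (r : k) ≠ 0) (hc : ∀ a ∈ R, ∀ b ∈ R, a * b = b * a)
    (he : ∀ g ∈ R, g ^ r = 1) {c : ℕ} (h : ∀ g ∈ R, g ≠ 1 → cod ρ (Subgroup.zpowers g) ≤ c) :
    (r - 1) * Nat.card R * cod ρ R ≤ r * ((Nat.card R - 1) * c) := by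
  classical
  have : Fintype R := Fintype.ofFinite _
  rw [← avg hr hk hc he, sum_cod_eq]
  refine Nat.mul_le_mul_left _ ?_
  have := Finset.sum_le_card_nsmul (Finset.univ.erase (1 : R)) (fun g => cod ρ (Subgroup.zpowers (g : Y))) c
    fun g hg => h g g.2 fun e => (Finset.mem_erase.1 hg).1 (Subtype.ext e)
  rwa [Finset.card_erase_of_mem (Finset.mem_univ _), Finset.card_univ, ← Nat.card_eq_fintype_card] at this

/-- the normaliser of `R` is transitive on the non-identity elements -/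
def Tr (R : Subgroup Y) : Prop :=
  ∀ z ∈ R, z ≠ 1 → ∀ z' ∈ R, z' ≠ 1 → ∃ h ∈ Subgroup.normalizer (R : Set Y), h⁻¹ * z * h = z'

theorem trans_closed [IsAlgClosed k] (hr : r.Prime) (hk : (r : k) ≠ 0) (hc : ∀ a ∈ R, ∀ b ∈ R, a * b = b * a)
    (he : ∀ g ∈ R, g ^ r = 1) (ht : Tr R) (hne : ∃ z ∈ R, ρ z ≠ 1) {m : ℕ}
    (hm : ∀ χ : R →* kˣ, χ ≠ 1 → 0 < mlt ρ R χ → m ≤ mlt ρ R χ) : (Nat.card R - 1) * m ≤ cod ρ R := by
  classical
  have : Fact r.Prime := ⟨hr⟩
  have := finite_char k R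
  have : Fintype (R →* kˣ) := Fintype.ofFinite _
  have : Fintype R := Fintype.ofFinite _
  have hR : (Nat.card R : k) ≠ 0 := by
    obtain ⟨n, hn⟩ := (elemAb_isPGroup (elemAb_of hc he)).exists_card_eq
    rw [hn, Nat.cast_pow]
    exact pow_ne_zero _ hk
  obtain ⟨z, hz, hz1⟩ := hne
  obtain ⟨χ₀, h0, h0'⟩ := exists_wt (ρ := ρ) hc hR (r := ⟨z, hz⟩) hz1
  have hz2 : z ≠ 1 := by rintro rfl; exact hz1 (map_one ρ)
  set ζ := χ₀ ⟨z, hz⟩
  have hζ : ζ ^ r = 1 := by rw [← map_pow, show (⟨z, hz⟩ : R) ^ r = 1 from Subtype.ext (he z hz), map_one]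
  let X : Finset (R →* kˣ) := Finset.univ.filter fun χ => χ ≠ 1 ∧ 0 < mlt ρ R χ
  have hX : ∀ χ, χ ∈ X ↔ χ ≠ 1 ∧ 0 < mlt ρ R χ := fun χ => by simp [X]
  let n : R → ℕ := fun g => (X.filter fun χ => χ g = ζ).card
  have h1 : ∀ g g' : R, g ≠ 1 → g' ≠ 1 → n g' ≤ n g := by
    intro g g' hg hg'
    obtain ⟨h, hh, e⟩ := ht g g.2 (fun e => hg (Subtype.ext e)) g' g'.2 fun e => hg' (Subtype.ext e)
    refine Finset.card_le_card_of_injOn (tw h hh) (fun χ hχ => ?_) (tw_injective hh).injOn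
    obtain ⟨h2, h3⟩ := Finset.mem_filter.1 hχ
    obtain ⟨h4, h5⟩ := (hX χ).1 h2
    refine Finset.mem_filter.2 ⟨(hX _).2 ⟨fun e' => h4 (tw_injective hh (e'.trans ?_)), by rwa [mlt_tw]⟩, ?_⟩
    · rfl
    · rw [tw_apply_of_eq hh χ e.symm, h3]
  have h2 : (∑ g, n g) * r = X.card * Nat.card R := by
    have : ∑ g, n g = ∑ χ ∈ X, (Finset.univ.filter fun g : R => χ g = ζ).card := by
      simp only [n, Finset.card_filter]
      exact Finset.sum_comm
    rw [this, Finset.sum_mul, Finset.sum_congr rfl fun χ hχ => card_fiber_char hr he ((hX χ).1 hχ).1 hζ,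
      Finset.sum_const, smul_eq_mul]
  have h3 : n 1 = 0 := Finset.card_eq_zero.2 (Finset.filter_eq_empty_iff.2 fun χ _ e => h0 (by rw [← e, map_one]))
  have hz3 : (⟨z, hz⟩ : R) ≠ 1 := fun e => hz2 (congrArg Subtype.val e)
  have h4 : ∑ g, n g = (Nat.card R - 1) * n ⟨z, hz⟩ := by
    rw [← Finset.sum_erase_add _ _ (Finset.mem_univ (1 : R)), h3, add_zero,
      Finset.sum_congr rfl fun g hg => le_antisymm (h1 _ g hz3 (Finset.mem_erase.1 hg).1)
        (h1 g _ (Finset.mem_erase.1 hg).1 hz3), Finset.sum_const, smul_eq_mul,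
      Finset.card_erase_of_mem (Finset.mem_univ _), Finset.card_univ, ← Nat.card_eq_fintype_card]
  have h5 : Nat.card R - 1 ∣ X.card := by
    have h6 : (Nat.card R - 1).Coprime (Nat.card R) := by
      obtain ⟨s, hs⟩ := Nat.exists_eq_succ_of_ne_zero (Nat.card_pos (α := R)).ne'
      rw [hs, Nat.succ_sub_one]
      exact (Nat.coprime_self_add_right.2 (Nat.coprime_one_right s))
    exact h6.dvd_of_dvd_mul_right ⟨n ⟨z, hz⟩ * r, by rw [← h2, h4, mul_assoc]⟩
  have h6 : 0 < X.card := Finset.card_pos.2 ⟨χ₀, (hX _).2 ⟨fun e => h0 (by rw [show ζ = χ₀ ⟨z, hz⟩ from rfl, e]; rfl), h0'⟩⟩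
  exact (Nat.mul_le_mul_right m (Nat.le_of_dvd h6 h5)).trans (card_mul_le_cod le_rfl X
    (fun χ hχ e => ((hX χ).1 hχ).1 (MonoidHom.ext fun s => e s s.2)) fun χ hχ => hm χ ((hX χ).1 hχ).1 ((hX χ).1 hχ).2)

omit [FiniteDimensional k V] [Finite R] in
theorem bc_ne_one (L : Type*) [Field L] [Algebra k L] {z : Y} (h : ρ z ≠ 1) : bc L ρ z ≠ 1 := fun e =>
  h (baseChange_injective L (by simpa only [bc_apply, LinearMap.baseChange_one] using e))

/-- **a transitive normaliser**: all non-trivial characters occur -/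
theorem trans_lb [Finite Y] (hr : r.Prime) (hk : (r : k) ≠ 0) (hc : ∀ a ∈ R, ∀ b ∈ R, a * b = b * a)
    (he : ∀ g ∈ R, g ^ r = 1) (ht : Tr R) (hne : ∃ z ∈ R, ρ z ≠ 1) : Nat.card R - 1 ≤ cod ρ R := by
  have := trans_closed (ρ := bc (AlgebraicClosure k) ρ) hr (card_ne_zero_closure hk) hc he ht
    (hne.imp fun z h => ⟨h.1, bc_ne_one _ h.2⟩) (m := 1) fun _ _ h => h
  rwa [mul_one, cod_bc] at this

/-- **Heisenberg groups** with a transitive normaliser of the centre -/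
theorem heis_lb [Finite Y] {Q : Subgroup Y} (hr : r.Prime) (hk : (r : k) ≠ 0) (hRQ : R ≤ Q)
    (hc : ∀ a ∈ Q, ∀ b ∈ R, a * b = b * a) (he : ∀ g ∈ R, g ^ r = 1) (hQ : ∀ a ∈ Q, ∀ b ∈ Q, ⁅a, b⁆ ∈ R)
    (hfull : ∀ t ∈ Q, t ∉ R → ∀ z ∈ R, ∃ y ∈ Q, ⁅t, y⁆ = z) (ht : Tr R) (hne : ∃ z ∈ R, ρ z ≠ 1) {m : ℕ}
    (hm : m ^ 2 ≤ R.relIndex Q) : (Nat.card R - 1) * m ≤ cod ρ R := by
  have := trans_closed (ρ := bc (AlgebraicClosure k) ρ) hr (card_ne_zero_closure hk) (fun a ha => hc a (hRQ ha)) he ht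
    (hne.imp fun z h => ⟨h.1, bc_ne_one _ h.2⟩) (m := m) fun χ hχ h => le_of_sq_le hm
      (relIndex_le_mlt_sq hc hQ h R fun t ht htR => by
        obtain ⟨z, hz⟩ : ∃ z, χ z ≠ 1 := by
          by_contra e
          push Not at e
          exact hχ (MonoidHom.ext e)
        obtain ⟨y, hy, e⟩ := hfull t ht htR z z.2
        exact ⟨y, hy, z, e.symm, hz⟩)
  rwa [cod_bc] at this

/-- the elements of a group with a transitive normaliser -/
theorem cod_elt_of_tr [Finite Y] (hr : r.Prime) (hk : (r : k) ≠ 0) (hc : ∀ a ∈ R, ∀ b ∈ R, a * b = b * a)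
    (he : ∀ g ∈ R, g ^ r = 1) (ht : Tr R) {z : Y} (hz : z ∈ R) (h1 : z ≠ 1) {m : ℕ}
    (hm : (Nat.card R - 1) * m ≤ cod ρ R) : (r - 1) * Nat.card R * m ≤ r * cod ρ (Subgroup.zpowers z) := by
  have h2 := avg_le (ρ := ρ) hr hk hc he (c := cod ρ (Subgroup.zpowers z)) fun g hg hg1 => by
    obtain ⟨h, -, e⟩ := ht z hz h1 g hg hg1
    rw [← e, ← cod_zpowers_conj h⁻¹ z, inv_inv]
  have h3 : 0 < Nat.card R - 1 := by
    have : 1 < Nat.card R := (Subgroup.one_lt_card_iff_ne_bot R).2 fun e => h1 (by rwa [e, Subgroup.mem_bot] at hz)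
    omega
  refine Nat.le_of_mul_le_mul_left ?_ h3
  calc (Nat.card R - 1) * ((r - 1) * Nat.card R * m) = (r - 1) * Nat.card R * ((Nat.card R - 1) * m) := by ring
    _ ≤ (r - 1) * Nat.card R * cod ρ R := Nat.mul_le_mul_left _ hm
    _ ≤ _ := h2
    _ = _ := by ring

end Chars

/-- an `s`-element `a` normalises the abelian group `R`, and `B` consists of commutators -/
theorem cod_comm_le [Finite Y] {R B : Subgroup Y} (hc : ∀ a ∈ R, ∀ b ∈ R, a * b = b * a) (hR : (Nat.card R : k) ≠ 0)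
    {a : Y} {s n : ℕ} [Fact s.Prime] (ha : a ^ s ^ n = 1) (hn : ∀ x ∈ R, a * x * a⁻¹ ∈ R)
    (hB : ∀ H : Subgroup Y, (∀ x ∈ R, a * x * a⁻¹ * x⁻¹ ∈ H) → B ≤ H) :
    (s - 1) * cod ρ B ≤ s * cod ρ (Subgroup.zpowers a) := by
  have h1 : a ∈ Subgroup.normalizer (R : Set Y) := Subgroup.mem_normalizer_fintype hn
  have h2 : IsPGroup s (Subgroup.zpowers a) := by
    obtain ⟨m, -, hm⟩ := (Nat.dvd_prime_pow Fact.out).1 (orderOf_dvd_of_pow_eq_one ha)
    exact IsPGroup.of_card (by rw [Nat.card_zpowers, hm])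
  refine le_trans (Nat.mul_le_mul_left _ (cod_mono (hB _ fun x hx => ?_)))
    (coprime_bound hc hR ((Subgroup.zpowers_le).2 h1) h2)
  rw [Subgroup.commutator_comm]
  exact Subgroup.commutator_mem_commutator (Subgroup.mem_zpowers a) hx

end Cfsg.Agent.TwoF.XL

private theorem dce_bc28eecf71f1 : _root_.True := by
  try have : _root_.True := by simp only [_root_.Cfsg.Agent.TwoF.XL.cl.eq_1]
  exact _root_.True.intro
end

-- part: TwoF/XE/Lo
section
prune_inst 0x20006004012200000018051020003c66b6000002002b0000c140010204835b4120030721f8401c100010804400398008110000100210000020008000011801a0042a02429008b100200000807006000000000000000000000000000000041000000000000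
set_option linter.all false
open scoped Cfsg.Agent.FastGrp

/-!
# TwoF : a calculus of lower bounds for `cod`, formulated inside `Aut S` (helper4)

`Lo p E n` : every subgroup of `Y` that covers `E ≤ Aut S` has codimension at least `n`, in every setting.
`Le p α n` for an automorphism, `Li p x n` for an element of `S`.  `Zc p S z` : the centres that occur have order
dividing `z`.
-/

set_option autoImplicit false
set_option maxHeartbeats 400000

namespace Cfsg.Agent.TwoF.XE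

open Module Gen Subgroup

variable {p : ℕ} [Fact p.Prime] {S : Type} [Group S]

theorem _root_.Cfsg.Agent.TwoF.Sit.twist {Y : Type} [Group Y] {V : Type} [AddCommGroup V] [Module (ZMod p) V]
    {K : Subgroup Y} {ρ : Representation (ZMod p) Y V} {π : K →* S} {φ : Y →* MulAut S} (H : Sit p K ρ π φ)
    (β : MulAut S) : Sit p K ρ (β.toMonoidHom.comp π) ((MulAut.conj β).toMonoidHom.comp φ) where
  toStp := H.toStp
  surj := β.surjective.comp H.surj
  ker_π := by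
    rw [← MonoidHom.comap_ker, (MonoidHom.ker_eq_bot_iff _).2 β.injective, MonoidHom.comap_bot, H.ker_π]
  conj y x x' e := by
    show β (φ y (β.symm (β (π x)))) = β (π x')
    rw [β.symm_apply_apply, H.conj y x x' e]
  ker_φ := by
    rw [← MonoidHom.comap_ker, (MonoidHom.ker_eq_bot_iff _).2 (MulAut.conj β).injective, MonoidHom.comap_bot, H.ker_φ]

/-- lower bound for the subgroups that cover `E` -/
def Lo (p : ℕ) [Fact p.Prime] {S : Type} [Group S] (E : Subgroup (MulAut S)) (n : ℕ) : Prop :=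
  ∀ (Y : Type) [Group Y] [Finite Y] (V : Type) [AddCommGroup V] [Module (ZMod p) V] [Finite V]
    (K : Subgroup Y) (ρ : Representation (ZMod p) Y V) (π : K →* S) (φ : Y →* MulAut S), Sit p K ρ π φ →
      ∀ A : Subgroup Y, E ≤ A.map φ → n ≤ cod ρ A

/-- lower bound for an automorphism -/
abbrev Le (p : ℕ) [Fact p.Prime] {S : Type} [Group S] (α : MulAut S) (n : ℕ) : Prop := Lo p (zpowers α) n

/-- lower bound for an element -/
abbrev Li (p : ℕ) [Fact p.Prime] {S : Type} [Group S] (x : S) (n : ℕ) : Prop := Le p (MulAut.conj x) n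

/-- the centres have order dividing `z` -/
def Zc (p : ℕ) (S : Type) [Group S] (z : ℕ) : Prop :=
  ∀ (K : Type) [Group K] [Finite K] (π : K →* S), IsStemExtension π → ¬ p ∣ Nat.card π.ker → Nat.card π.ker ∣ z

omit [Fact p.Prime] in
theorem zc_of_cyclic {z : ℕ} (h : HasCyclicSchurMultiplier S z) : Zc p S z :=
  fun K _ _ π h1 _ => by
    obtain ⟨f, hf⟩ := h.2 K π h1
    have := card_dvd_of_surjective f hf
    rwa [Nat.card_congr Multiplicative.toAdd, Nat.card_zmod] at this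

omit [Fact p.Prime] in
theorem zc_of_mult {A : Type*} [CommGroup A] (h : HasSchurMultiplier S A) : Zc p S (Nat.card A) :=
  fun K _ _ π h1 _ => by
    obtain ⟨f, hf⟩ := h.2 K π h1
    exact card_dvd_of_surjective f hf

omit [Fact p.Prime] in
theorem Zc.of_equiv {T : Type} [Group T] {z : ℕ} (h : Zc p T z) (e : S ≃* T) : Zc p S z := fun K _ _ π h1 h2 => by
  have h3 : (e.toMonoidHom.comp π).ker = π.ker := by
    rw [← MonoidHom.comap_ker, (MonoidHom.ker_eq_bot_iff _).2 e.injective, MonoidHom.comap_bot]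
  have := h K (e.toMonoidHom.comp π) ⟨e.surjective.comp h1.1, h3 ▸ h1.2.1, h3 ▸ h1.2.2⟩ (h3 ▸ h2)
  rwa [h3] at this

variable {E E' : Subgroup (MulAut S)} {n c : ℕ} {α β : MulAut S} {x y : S}

theorem Lo.mono (h : Lo p E n) (hE : E ≤ E') : Lo p E' n :=
  fun Y _ _ V _ _ _ K ρ π φ H A hA => h Y V K ρ π φ H A (hE.trans hA)

theorem Lo.le (h : Lo p E n) (hc : c ≤ n) : Lo p E c :=
  fun Y _ _ V _ _ _ K ρ π φ H A hA => hc.trans (h Y V K ρ π φ H A hA)

theorem Lo.of_conj (β : MulAut S) (h : Lo p (E.map (MulAut.conj β).toMonoidHom) n) : Lo p E n :=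
  fun Y _ _ V _ _ _ K ρ π φ H A hA => h Y V K ρ _ _ (H.twist β) A (by rw [← map_map]; exact map_mono hA)

theorem Le.lo (h : Le p α n) (hα : α ∈ E) : Lo p E n := h.mono (zpowers_le.2 hα)

theorem le_of_elt (h : ∀ (Y : Type) [Group Y] [Finite Y] (V : Type) [AddCommGroup V] [Module (ZMod p) V] [Finite V]
    (K : Subgroup Y) (ρ : Representation (ZMod p) Y V) (π : K →* S) (φ : Y →* MulAut S), Sit p K ρ π φ →
      ∀ y, φ y = α → n ≤ cod ρ (zpowers y)) : Le p α n := fun Y _ _ V _ _ _ K ρ π φ H A hA => by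
  obtain ⟨y, hy, e⟩ := hA (mem_zpowers α)
  exact (h Y V K ρ π φ H y e).trans (XL.cod_le_of_mem hy)

theorem Le.elt (h : Le p α n) {Y : Type} [Group Y] [Finite Y] {V : Type} [AddCommGroup V] [Module (ZMod p) V]
    [Finite V] {K : Subgroup Y} {ρ : Representation (ZMod p) Y V} {π : K →* S} {φ : Y →* MulAut S}
    (H : Sit p K ρ π φ) {y : Y} (hy : φ y = α) : n ≤ cod ρ (zpowers y) :=
  h Y V K ρ π φ H _ (zpowers_le.2 ⟨y, mem_zpowers y, hy⟩)

theorem Le.of_conj (β : MulAut S) (h : Le p (β * α * β⁻¹) n) : Le p α n :=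
  Lo.of_conj β (by rwa [← zpowers_conj])

theorem Le.conj (h : Le p α n) (β : MulAut S) : Le p (β * α * β⁻¹) n :=
  Le.of_conj β⁻¹ (by rwa [show β⁻¹ * (β * α * β⁻¹) * β⁻¹⁻¹ = α by group])

theorem Le.of_isConj (h : Le p α n) (e : IsConj α β) : Le p β n := by
  obtain ⟨g, rfl⟩ := isConj_iff.1 e
  exact h.conj g

theorem Le.of_pow (k : ℕ) (h : Le p (α ^ k) n) : Le p α n := h.lo (pow_mem (mem_zpowers α) k)

theorem Le.inv (h : Le p α n) : Le p α⁻¹ n := h.lo (by rw [zpowers_inv]; exact mem_zpowers α)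

theorem conj_apply (β : MulAut S) (x : S) : MulAut.conj (β x) = β * MulAut.conj x * β⁻¹ :=
  MulEquiv.ext fun y => by simp only [_root_.MulAut.conj_apply, _root_.MulAut.mul_apply, _root_.MulAut.inv_apply, _root_.map_mul, _root_.MulEquiv.apply_symm_apply, _root_.map_inv]

theorem Li.aut (h : Li p x n) (β : MulAut S) : Li p (β x) n := by
  rw [Li, conj_apply]
  exact h.conj β

theorem Li.conj (h : Li p x n) (g : S) : Li p (g * x * g⁻¹) n := h.aut (MulAut.conj g)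

theorem Li.of_isConj (h : Li p x n) (e : IsConj x y) : Li p y n := by
  obtain ⟨g, rfl⟩ := isConj_iff.1 e
  exact h.conj g

theorem Li.of_mul_eq (h : Li p x n) {g : S} (e : g * x = y * g) : Li p y n :=
  h.of_isConj (isConj_iff.2 ⟨g, by rw [e, mul_inv_cancel_right]⟩)

theorem Li.of_pow (k : ℕ) (h : Li p (x ^ k) n) : Li p x n := Le.of_pow k (by rwa [← map_pow])

theorem Li.of_mem (h : Li p x n) (e : x ∈ zpowers y) : Li p y n := by
  obtain ⟨k, rfl⟩ := e
  exact h.lo (by rw [map_zpow]; exact zpow_mem (mem_zpowers _) k)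

theorem Li.inv (h : Li p x n) : Li p x⁻¹ n := by
  rw [Li, map_inv]
  exact Le.inv h

/-! ### products of conjugates -/

theorem Le.of_prod (l : List (S × ℕ))
    (h : Le p (l.map fun q => MulAut.conj q.1 * α ^ q.2 * (MulAut.conj q.1)⁻¹).prod n) (hc : l.length * (c - 1) < n) :
    Le p α c := le_of_elt fun Y _ _ V _ _ _ K ρ π φ H y hy => by
  have key : ∀ l : List (S × ℕ), ∃ w : Y, φ w = (l.map fun q => MulAut.conj q.1 * α ^ q.2 * (MulAut.conj q.1)⁻¹).prod ∧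
      cod ρ (zpowers w) ≤ l.length * cod ρ (zpowers y) := by
    intro l
    induction l with
    | nil => exact ⟨1, map_one φ, by rw [zpowers_one_eq_bot, cod_bot]; exact Nat.zero_le _⟩
    | cons q l ih =>
      obtain ⟨w, h1, h2⟩ := ih
      obtain ⟨g, hg⟩ := H.surj q.1
      refine ⟨g * y ^ q.2 * (g : Y)⁻¹ * w, ?_, (cod_zpowers_mul_le _ _).trans ?_⟩
      · rw [List.map_cons, List.prod_cons, map_mul, map_mul, map_mul, map_inv, map_pow, h1, hy, H.toFrm.φ_coe, hg]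
      · rw [cod_zpowers_conj, List.length_cons, add_mul, one_mul, add_comm]
        exact Nat.add_le_add h2 (XL.cod_pow_le _ _)
  obtain ⟨w, h1, h2⟩ := key l
  have h3 := Nat.lt_of_mul_lt_mul_left (hc.trans_le ((h.elt H h1).trans h2))
  omega

theorem Li.of_prod (l : List (S × ℕ)) (h : Li p (l.map fun q => q.1 * x ^ q.2 * q.1⁻¹).prod n)
    (hc : l.length * (c - 1) < n) : Li p x c := by
  refine Le.of_prod l ?_ hc
  rw [Li, map_list_prod, List.map_map] at h
  rwa [List.map_congr_left (g := MulAut.conj ∘ fun q : S × ℕ => q.1 * x ^ q.2 * q.1⁻¹) fun q _ => by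
    simp only [Function.comp_apply, map_mul, map_pow, map_inv]]

theorem Li.two (g : S) (h : Li p (x * (g * x * g⁻¹)) n) (hc : 2 * (c - 1) < n) : Li p x c :=
  Li.of_prod [(1, 1), (g, 1)] (by simpa only [_root_.List.map_cons, _root_.pow_one, _root_.one_mul, _root_.inv_one, _root_.mul_one, _root_.List.map_nil, _root_.List.prod_cons, _root_.List.prod_nil] using h) hc

theorem Li.three (g g' : S) (h : Li p (x * (g * x * g⁻¹) * (g' * x * g'⁻¹)) n) (hc : 3 * (c - 1) < n) : Li p x c :=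
  Li.of_prod [(1, 1), (g, 1), (g', 1)] (by simpa only [mul_assoc, _root_.List.map_cons, _root_.pow_one, _root_.inv_one, _root_.mul_one, _root_.one_mul, _root_.List.map_nil, _root_.List.prod_cons, _root_.List.prod_nil] using h) hc

/-- commutators -/
theorem Le.comm (g : S) (h : Li p (α g * g⁻¹) n) (hc : 2 * (c - 1) < n) : Le p α c :=
  le_of_elt fun Y _ _ V _ _ _ K ρ π φ H y hy => by
    obtain ⟨u, rfl⟩ := H.surj g
    have h1 := h.elt H (y := y * u * y⁻¹ * (u : Y)⁻¹) (by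
      rw [map_mul, map_mul, map_mul, map_inv, map_inv, hy, H.toFrm.φ_coe, map_mul, conj_apply, map_inv])
    have h2 := cod_zpowers_commutator_le (ρ := ρ) y u
    omega

/-- subgroups of the group generated by conjugates -/
theorem Lo.of_gen (s : Finset S) (h : Lo p (⨆ g ∈ s, E.map (MulAut.conj (MulAut.conj g)).toMonoidHom) n)
    (hc : s.card * (c - 1) < n) : Lo p E c := fun Y _ _ V _ _ _ K ρ π φ H A hA => by
  choose u hu using H.surj
  have h1 := h Y V K ρ π φ H (⨆ g ∈ s, A.map (MulAut.conj (u g : Y)).toMonoidHom) (iSup₂_le fun g hg => by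
    refine le_trans ?_ (map_mono (le_iSup₂ (f := fun g (_ : g ∈ s) => A.map (MulAut.conj (u g : Y)).toMonoidHom) g hg))
    rintro _ ⟨a, ha, rfl⟩
    obtain ⟨y, hy, rfl⟩ := hA ha
    refine ⟨_, ⟨y, hy, rfl⟩, ?_⟩
    show φ (u g * y * (u g : Y)⁻¹) = MulAut.conj g * φ y * (MulAut.conj g)⁻¹
    rw [map_mul, map_mul, map_inv, H.toFrm.φ_coe, hu])
  have h2 := cod_biSup_le (ρ := ρ) s fun g => A.map (MulAut.conj (u g : Y)).toMonoidHom
  simp only [cod_conj, Finset.sum_const, smul_eq_mul] at h2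
  have h3 := Nat.lt_of_mul_lt_mul_left (hc.trans_le (h1.trans h2))
  omega

/-! ### elements of order prime to `p` -/

theorem Le.of_prime {s : ℕ} (hs : s.Prime) (hsp : s ≠ p) (h1 : α ≠ 1) (h2 : α ^ s = 1)
    (hn : ∀ d, 0 < d → d < n → p ^ d % s ≠ 1 % s) : Le p α n := le_of_elt fun Y _ _ V _ _ _ K ρ π φ H y hy => by
  have : Fact s.Prime := ⟨hs⟩
  have h3 : s ∣ Nat.card (zpowers y) := by
    rw [Nat.card_zpowers, ← orderOf_eq_prime h2 h1, ← hy]
    exact orderOf_map_dvd φ y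
  obtain ⟨u, hu⟩ := exists_prime_orderOf_dvd_card' s h3
  refine le_trans (le_cod_of_order (s := s) (X := zpowers (u : Y)) H.faithful ?_ (by rwa [Nat.card_zmod])
    (IsPGroup.of_card (n := 1) (by rw [Nat.card_zpowers, orderOf_coe, hu, pow_one])) fun e => ?_)
    (XL.cod_le_of_mem u.2)
  · rw [Nat.card_zmod]
    exact fun e => hsp ((Nat.prime_dvd_prime_iff_eq hs Fact.out).1 e)
  · rw [show u = 1 from Subtype.ext (zpowers_eq_bot.1 e), orderOf_one] at hu
    exact hs.one_lt.ne hu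

theorem conj_eq_one_iff (hS : center S = ⊥) : MulAut.conj x = 1 ↔ x = 1 :=
  ⟨fun e => by
    rw [← mem_bot, ← hS, mem_center_iff]
    intro g
    have := congrArg (fun α : MulAut S => α g) e
    simp only [MulAut.conj_apply, MulAut.one_apply] at this
    rw [mul_inv_eq_iff_eq_mul] at this
    exact this.symm, fun e => by rw [e, map_one]⟩

theorem Li.of_prime (hS : center S = ⊥) {s : ℕ} (hs : s.Prime) (hsp : s ≠ p) (h1 : x ≠ 1) (h2 : x ^ s = 1)
    (hn : ∀ d, 0 < d → d < n → p ^ d % s ≠ 1 % s) : Li p x n :=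
  Le.of_prime hs hsp (fun e => h1 ((conj_eq_one_iff hS).1 e)) (by rw [← map_pow, h2, map_one]) hn

/-- all elements of order `s`, from a Sylow `s`-subgroup -/
theorem li_of_sylow [Finite S] {s : ℕ} [Fact s.Prime] {P : Subgroup S} (hP : IsPGroup s P) (hi : ¬ s ∣ P.index)
    (h : ∀ y ∈ P, y ≠ 1 → y ^ s = 1 → Li p y n) (h1 : x ≠ 1) (h2 : x ^ s = 1) : Li p x n := by
  obtain ⟨Q, hQ⟩ := (elemAb_isPGroup (elemAb_zpowers h2)).exists_le_sylow
  obtain ⟨g, hg⟩ := MulAction.exists_smul_eq S Q (hP.toSylow hi)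
  have h3 : g * x * g⁻¹ ∈ P := by
    have : g * x * g⁻¹ ∈ ((g • Q : Sylow s S) : Subgroup S) := ⟨x, hQ (mem_zpowers x), rfl⟩
    rwa [hg] at this
  exact (h _ h3 (fun e => h1 (by simpa only [_root_.conj_eq_one_iff] using e)) (by rw [conj_pow, h2]; simp)).of_isConj
    (isConj_iff.2 ⟨g⁻¹, by group⟩)

/-! ### the rows -/

theorem exists_conj_le {G : Type*} [Group G] [Finite G] {P E : Subgroup G} (hP : IsPGroup p P) (hi : ¬ p ∣ P.index)
    (hE : IsPGroup p E) : ∃ g, E.map (MulAut.conj g).toMonoidHom ≤ P := by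
  obtain ⟨Q, hQ⟩ := hE.exists_le_sylow
  obtain ⟨g, hg⟩ := MulAction.exists_smul_eq G Q (hP.toSylow hi)
  refine ⟨g, ?_⟩
  rintro _ ⟨x, hx, rfl⟩
  have : g * x * g⁻¹ ∈ ((g • Q : Sylow p G) : Subgroup G) := ⟨x, hQ hx, rfl⟩
  rwa [hg] at this

theorem not_le_inn_conj (β : MulAut S) (h : ¬ E ≤ Inn S) : ¬ E.map (MulAut.conj β).toMonoidHom ≤ Inn S :=
  fun e => h fun α hα => by
    obtain ⟨g, hg⟩ := e ⟨α, hα, rfl⟩
    refine ⟨β⁻¹ g, ?_⟩
    rw [conj_apply, hg]
    show β⁻¹ * (β * α * β⁻¹) * β⁻¹⁻¹ = α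
    group

theorem row88_of_lo (h : ∀ E : Subgroup (MulAut S), IsElementaryAbelian p E → ∀ r, small p < r → Nat.card E = p ^ r →
    Lo p E (2 * r + 1)) : Row88 p S := row88_of_sit fun Y _ _ V _ _ _ K ρ π φ H A hA => by
  by_cases hc : Cub ρ A
  · exact ⟨A, hA, hc⟩
  obtain ⟨r, -, h1, h2⟩ := hA.exists_card
  have h3 := small_lt_cod hA.1 hc
  have := h _ (elemAb_map hA.1 φ) r (by omega) ((H.toStp.card_map H.toFrm (elemAb_isPGroup hA.1)).trans h1)
    Y V K ρ π φ H A le_rfl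
  omega

theorem row89_of_lo (h : ∀ E : Subgroup (MulAut S), IsElementaryAbelian p E → ¬ E ≤ Inn S → ∀ r, 0 < r →
    Nat.card E = p ^ r → Lo p E (2 * r + 1)) : Row89 p S :=
  row89_of_sit fun Y _ _ V _ _ _ K ρ π φ H A hA _ _ _ hK => by
    obtain ⟨r, h0, h1, h2⟩ := hA.exists_card
    have := h _ (elemAb_map hA.1 φ) (fun e => hK fun a ha => H.toFrm.mem_inn_iff.1 (e ⟨a, ha, rfl⟩)) r h0
      ((H.toStp.card_map H.toFrm (elemAb_isPGroup hA.1)).trans h1) Y V K ρ π φ H A le_rfl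
    omega

theorem noOff_of_lo (h : ∀ E : Subgroup (MulAut S), IsElementaryAbelian p E → ∀ r, 0 < r →
    Nat.card E = p ^ r → Lo p E (2 * r + 1)) : NoOff p S :=
  noOff_of_sit fun Y _ _ V _ _ _ K ρ π φ H A hA => by
    obtain ⟨r, h0, h1, h2⟩ := hA.exists_card
    have := h _ (elemAb_map hA.1 φ) r h0
      ((H.toStp.card_map H.toFrm (elemAb_isPGroup hA.1)).trans h1) Y V K ρ π φ H A le_rfl
    omega

/-- `p = 2`: every element `d` of a non-cubic group has `c(d) + 3 ≤ c(A)` -/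
theorem row88_two (h : ∀ E : Subgroup (MulAut S), IsElementaryAbelian 2 E → ∀ r, 3 < r → Nat.card E = 2 ^ r →
    Lo 2 E (2 * r + 1) ∨ ∃ d ∈ E, Le 2 d (2 * r - 2)) : Row88 2 S :=
  row88_of_sit fun Y _ _ V _ _ _ K ρ π φ H A hA => by
    by_cases hc : Cub ρ A
    · exact ⟨A, hA, hc⟩
    obtain ⟨r, -, h1, h2⟩ := hA.exists_card
    have h3 := seven_le_cod hA.1 hc
    rcases h _ (elemAb_map hA.1 φ) r (by omega) ((H.toStp.card_map H.toFrm (elemAb_isPGroup hA.1)).trans h1) with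
      h4 | ⟨_, ⟨d, hd, rfl⟩, h4⟩
    · have := h4 Y V K ρ π φ H A le_rfl
      omega
    · have h5 := h4.elt H rfl
      have h6 := cod_add_three_le_of_not_cub hA.1 hc hd
      omega

/-- `p = 3`: a group all of whose elements have the same fixed space is cubic -/
theorem cub_of_eq_three {k : Type*} [Field k] [CharP k 3] {Y : Type*} [Group Y] {V : Type*} [AddCommGroup V]
    [Module k V] [FiniteDimensional k V] {ρ : Representation k Y V} {A : Subgroup Y} (hA : IsElementaryAbelian 3 A)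
    (h : ∀ a ∈ A, a ≠ 1 → cod ρ A ≤ cod ρ (zpowers a)) : Cub ρ A := by
  have : Fact (Nat.Prime 3) := ⟨Nat.prime_three⟩
  have h1 : ∀ a ∈ A, a ≠ 1 → ∀ b ∈ A, ∀ v, (ρ a - 1) v = 0 → (ρ b - 1) v = 0 := fun a ha e b hb v hv => by
    have h2 : v ∈ fx ρ A := by
      rw [XL.fx_eq_of_cod_le (zpowers_le.2 ha) (h a ha e), fx_zpowers]
      exact hv
    rw [LinearMap.sub_apply, h2 b hb, Module.End.one_apply, sub_self]
  intro a ha b hb c hc
  ext v
  show (ρ a - 1) ((ρ b - 1) ((ρ c - 1) v)) = 0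
  by_cases e : b = 1
  · simp only [e, _root_.map_one, _root_.sub_self, _root_.LinearMap.sub_apply, _root_.Module.End.one_apply, _root_.LinearMap.zero_apply, _root_.map_zero]
  refine h1 b hb e a ha _ ?_
  rw [sub_one_comm (elemAb_comm hA hb hc) v, sub_one_comm (elemAb_comm hA hb hc)]
  refine h1 b hb e c hc _ ?_
  have h3 := congrArg (fun f : Module.End k V => f v) (sub_one_pow (ρ := ρ) (p := 3) (n := 1) (hA.2 b hb))
  simpa only [pow_succ, pow_zero, one_mul, Module.End.mul_apply, LinearMap.zero_apply] using h3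

theorem row88_three (h : ∀ E : Subgroup (MulAut S), IsElementaryAbelian 3 E → ∀ r, 2 < r → Nat.card E = 3 ^ r →
    haveI : Fact (Nat.Prime 3) := ⟨Nat.prime_three⟩
    Lo 3 E (2 * r + 1) ∨ ∀ d ∈ E, d ≠ 1 → Le 3 d (2 * r)) :
    haveI : Fact (Nat.Prime 3) := ⟨Nat.prime_three⟩
    Row88 3 S :=
  haveI : Fact (Nat.Prime 3) := ⟨Nat.prime_three⟩
  row88_of_sit fun Y _ _ V _ _ _ K ρ π φ H A hA => by
    by_cases hc : Cub ρ A
    · exact ⟨A, hA, hc⟩
    obtain ⟨r, -, h1, h2⟩ := hA.exists_card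
    have h3 := five_le_cod hA.1 hc
    rcases h _ (elemAb_map hA.1 φ) r (by omega) ((H.toStp.card_map H.toFrm (elemAb_isPGroup hA.1)).trans h1) with
      h4 | h4
    · have := h4 Y V K ρ π φ H A le_rfl
      omega
    · exact (hc (cub_of_eq_three hA.1 fun a ha e => h2.trans ((h4 _ ⟨a, ha, rfl⟩ fun e' =>
        e (H.toStp.eq_one_of_φ H.toFrm (n := 1) (by rw [pow_one]; exact hA.1.2 a ha) e')).elt H rfl))).elim

/-- reduction to a Sylow subgroup of `Aut S` -/
theorem lo_of_sylow [Finite S] {P : Subgroup (MulAut S)} (hP : IsPGroup p P) (hi : ¬ p ∣ P.index)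
    (hE : IsElementaryAbelian p E) (h : ∀ E' ≤ P, IsElementaryAbelian p E' → Nat.card E' = Nat.card E →
      (¬ E ≤ Inn S → ¬ E' ≤ Inn S) → Lo p E' n) : Lo p E n := by
  obtain ⟨β, hβ⟩ := exists_conj_le hP hi (elemAb_isPGroup hE)
  exact Lo.of_conj β (h _ hβ (elemAb_map hE _) (card_map_conj β E) (not_le_inn_conj β))

/-- all automorphisms of order `p`, from a Sylow subgroup of `Aut S` -/
theorem le_of_sylow [Finite S] {P : Subgroup (MulAut S)} (hP : IsPGroup p P) (hi : ¬ p ∣ P.index)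
    (h : ∀ β ∈ P, β ≠ 1 → β ^ p = 1 → Le p β n) (h1 : α ≠ 1) (h2 : α ^ p = 1) : Le p α n := by
  obtain ⟨g, hg⟩ := exists_conj_le hP hi (elemAb_isPGroup (elemAb_zpowers h2))
  exact Le.of_conj g (h _ (hg ⟨α, mem_zpowers α, rfl⟩) (fun e => h1 (by simpa only [_root_.conj_eq_one_iff] using e)) (by rw [conj_pow, h2]; simp))

theorem exists_ne_one {G : Type*} [Group G] {E : Subgroup G} {r : ℕ} (hr : 0 < r) (h : Nat.card E = p ^ r) :
    ∃ α ∈ E, α ≠ 1 := by
  by_contra! e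
  rw [(eq_bot_iff_forall E).2 e, card_bot] at h
  exact (Nat.one_lt_pow hr.ne' (Fact.out : p.Prime).one_lt).ne h

/-- all automorphisms of order `p` are expensive -/
theorem noOff_of_le {r₀ : ℕ} (hr : ∀ E : Subgroup (MulAut S), IsElementaryAbelian p E → Nat.card E ≤ p ^ r₀)
    (h : ∀ α : MulAut S, α ≠ 1 → α ^ p = 1 → Le p α (2 * r₀ + 1)) : NoOff p S :=
  noOff_of_lo fun E hE r h0 hc => by
    obtain ⟨α, hα, h1⟩ := exists_ne_one h0 hc
    have := (Nat.pow_le_pow_iff_right (Fact.out : p.Prime).one_lt).1 (hc ▸ hr E hE)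
    exact ((h α h1 (hE.2 α hα)).lo hα).le (by omega)

theorem card_le_of_not_dvd {G : Type*} [Group G] [Finite G] {r₀ : ℕ} (h : ¬ p ^ (r₀ + 1) ∣ Nat.card G) (E : Subgroup G)
    (hE : IsElementaryAbelian p E) : Nat.card E ≤ p ^ r₀ := by
  obtain ⟨r, hr⟩ := (elemAb_isPGroup hE).exists_card_eq
  rw [hr]
  refine Nat.pow_le_pow_right (Fact.out : p.Prime).pos (le_of_not_gt fun e => h ?_)
  exact (pow_dvd_pow p e).trans (hr ▸ card_subgroup_dvd_card E)

/-- a group with a Sylow subgroup that is not elementary abelian -/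
theorem card_le_of_not_elemAb {G : Type*} [Group G] [Finite G] {r₀ : ℕ} (h : ¬ p ^ (r₀ + 2) ∣ Nat.card G)
    {Q : Subgroup G} (hQ : IsPGroup p Q) (hn : ¬ IsElementaryAbelian p Q) (E : Subgroup G)
    (hE : IsElementaryAbelian p E) : Nat.card E ≤ p ^ r₀ := by
  obtain ⟨r, hr⟩ := (elemAb_isPGroup hE).exists_card_eq
  rw [hr]
  refine Nat.pow_le_pow_right (Fact.out : p.Prime).pos (le_of_not_gt fun e => hn ?_)
  have hi : ¬ p ∣ E.index := fun d => h (by
    rw [← E.card_mul_index, hr]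
    exact (pow_succ p (r₀ + 1)).symm ▸ mul_dvd_mul (pow_dvd_pow p e) d)
  obtain ⟨g, hg⟩ := exists_conj_le (elemAb_isPGroup hE) hi hQ
  have := elemAb_map (elemAb_of_le hE hg) (MulAut.conj g⁻¹).toMonoidHom
  rwa [map_map, show (MulAut.conj g⁻¹).toMonoidHom.comp (MulAut.conj g).toMonoidHom = MonoidHom.id G from
    MonoidHom.ext fun x => by simp only [mul_assoc, _root_.map_inv, _root_.MulEquiv.toMonoidHom_eq_coe, _root_.MonoidHom.coe_comp, _root_.MonoidHom.coe_coe, _root_.MulAut.coe_inv, _root_.Function.comp_apply, _root_.MulAut.conj_apply, _root_.MulAut.conj_symm_apply, _root_.inv_mul_cancel_left, _root_.inv_mul_cancel, _root_.mul_one, _root_.MonoidHom.id_apply], map_id] at this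

/-- automorphisms of order `p` are inner if `p` does not divide `|Out S|` -/
theorem exists_inner (hS : center S = ⊥) (ho : ¬ p ∣ Nat.card (Out S)) (h1 : α ≠ 1) (h2 : α ^ p = 1) :
    ∃ x : S, α = MulAut.conj x ∧ x ≠ 1 ∧ x ^ p = 1 := by
  have h3 : α ∈ Inn S := by
    by_contra e
    refine ho ?_
    have h4 : orderOf (QuotientGroup.mk α : Out S) = p := orderOf_eq_prime
      (by rw [← QuotientGroup.mk_pow, h2, QuotientGroup.mk_one]) fun e' => e ((QuotientGroup.eq_one_iff _).1 e')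
    exact h4 ▸ _root_.orderOf_dvd_natCard _
  obtain ⟨x, rfl⟩ := h3
  exact ⟨x, rfl, fun e => h1 (by rw [e, map_one]), (conj_eq_one_iff hS).1 (by rw [map_pow, h2])⟩

end Cfsg.Agent.TwoF.XE

private theorem dce_4cd7e4fd8417 : _root_.True := by
  try have : _root_.True := by simp only [_root_.Cfsg.Agent.TwoF.XE.Li.eq_1]
  try have : _root_.True := by simp only [_root_.Cfsg.Agent.TwoF.XE.Li.congr_simp]
  exact _root_.True.intro
end

-- part: TwoF/XE/Wt
section
prune_inst 0x800020040022000000180500000020003400009200200001c10000400002910000010101000018100050a20000040000001000100000000000000000000401200000020000000000200000800004000000000000000000000000000000041000000000000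
set_option linter.all false
open scoped Cfsg.Agent.FastGrp

/-!
# TwoF : weights of abelian subgroups, formulated inside `Aut S` (helper4)

`exists_R` : the canonical lift of an abelian subgroup of exponent prime to the centre.  `Lo.of_cop`, `Le.of_cop`,
`Le.of_frob` : coprime action.  `Li.of_rat` : eigenvalues of an element of prime order.  `li_rank_two` : the weights
of a group of order `s ^ 2`.
-/

set_option autoImplicit false
set_option maxHeartbeats 400000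

namespace Cfsg.Agent.TwoF.XE

open Module Gen Subgroup
open scoped commutatorElement

variable {p : ℕ} [Fact p.Prime] {S : Type} [Group S]

theorem inv_conj_pow {G : Type*} [Group G] (a b : G) (n : ℕ) : (a⁻¹ * b * a) ^ n = a⁻¹ * b ^ n * a := by
  simpa using conj_pow (a := a⁻¹) (b := b) (i := n)

section Lift

variable {Y : Type} [Group Y] [Finite Y] {V : Type} [AddCommGroup V] [Module (ZMod p) V]
  {K : Subgroup Y} {ρ : Representation (ZMod p) Y V} {π : K →* S} {φ : Y →* MulAut S}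

theorem Zc.ker_π {z : ℕ} (hz : Zc p S z) (H : Sit p K ρ π φ) : Nat.card π.ker ∣ z :=
  hz K π (H.toFrm.stem H.toStp.perfect) (by rw [H.ker_π]; exact H.cop)

theorem Zc.pow_eq_one {z : ℕ} (hz : Zc p S z) (H : Sit p K ρ π φ) {y : Y} (h : φ y = 1) : y ^ z = 1 := by
  have h1 : Nat.card φ.ker ∣ z := by
    rw [H.ker_φ, H.toStp.card_centralizer, ← H.ker_π]
    exact hz.ker_π H
  obtain ⟨c, rfl⟩ := h1
  rw [pow_mul, show y ^ Nat.card φ.ker = 1 from congrArg Subtype.val (pow_card_eq_one' (x := (⟨y, h⟩ : φ.ker))),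
    one_pow]

theorem Zc.exists_lift {z m : ℕ} (hz : Zc p S z) (H : Sit p K ρ π φ) (hc : m.Coprime z) {y : Y} (hy : φ y ^ m = 1) :
    ∃ u ∈ zpowers y, φ u = φ y ∧ u ^ m = 1 := by
  have h1 : (y ^ m) ^ z = 1 := hz.pow_eq_one H (by rw [map_pow, hy])
  refine ⟨y ^ ((z : ℤ) * Nat.gcdB m z), zpow_mem (mem_zpowers y) _, ?_, ?_⟩
  · have h2 := Nat.gcd_eq_gcd_ab m z
    rw [hc, Nat.cast_one] at h2
    rw [map_zpow, show (z : ℤ) * Nat.gcdB m z = 1 - m * Nat.gcdA m z by linarith, zpow_sub, zpow_mul, zpow_natCast, hy,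
      one_zpow, inv_one, mul_one, zpow_one]
  · rw [← zpow_natCast, ← zpow_mul, show (z : ℤ) * Nat.gcdB m z * m = (m * z : ℕ) * Nat.gcdB m z by push_cast; ring,
      zpow_mul, zpow_natCast, pow_mul, h1, one_zpow]

theorem Zc.lift_unique {z m : ℕ} (hz : Zc p S z) (H : Sit p K ρ π φ) (hc : m.Coprime z) {u v : Y} (hu : φ u ∈ Inn S)
    (h : φ u = φ v) (h1 : u ^ m = 1) (h2 : v ^ m = 1) : u = v := by
  have h3 : φ (u⁻¹ * v) = 1 := by rw [map_mul, map_inv, h, inv_mul_cancel]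
  have h4 : Commute u (u⁻¹ * v) := H.toFrm.φ_eq_one_iff.1 h3 u (H.toFrm.mem_inn_iff.1 hu)
  have h5 : (u⁻¹ * v) ^ m = 1 := by
    have := h4.mul_pow m
    rwa [mul_inv_cancel_left, h1, h2, one_mul, eq_comm] at this
  have h6 := pow_gcd_eq_one.2 ⟨h5, hz.pow_eq_one H h3⟩
  rw [hc, pow_one] at h6
  exact inv_mul_eq_one.1 h6

/-- the canonical lift of an abelian subgroup -/
theorem Zc.exists_R {z m : ℕ} (hz : Zc p S z) (H : Sit p K ρ π φ) (hmz : m.Coprime z) {P : Subgroup S}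
    (hc : ∀ a ∈ P, ∀ b ∈ P, a * b = b * a) (hm : ∀ a ∈ P, a ^ m = 1) :
    ∃ R : Subgroup Y, (∀ u, u ∈ R ↔ φ u ∈ P.map MulAut.conj ∧ u ^ m = 1) ∧ (∀ a ∈ R, ∀ b ∈ R, a * b = b * a) ∧
      R.map φ = P.map MulAut.conj ∧ ∀ y, (∀ x ∈ P, φ y x ∈ P) → y ∈ normalizer (R : Set Y) := by
  have hl : ∀ x ∈ P, ∃ u, φ u = MulAut.conj x ∧ u ^ m = 1 := fun x hx => by
    obtain ⟨y, rfl⟩ := H.surj x
    obtain ⟨u, -, h1, h2⟩ := hz.exists_lift H hmz (y := y) (by rw [H.toFrm.φ_coe, ← map_pow, hm _ hx, map_one])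
    exact ⟨u, h1.trans (H.toFrm.φ_coe y), h2⟩
  have hcm : ∀ a b : Y, φ a ∈ P.map MulAut.conj → a ^ m = 1 → φ b ∈ P.map MulAut.conj → a * b = b * a := by
    rintro a b ⟨x, hx, e⟩ h1 ⟨x', hx', e'⟩
    obtain ⟨y, rfl⟩ := H.surj x
    obtain ⟨y', rfl⟩ := H.surj x'
    have h2 : y * y' = y' * y := comm_of_coprime (π := π) H.ker_π.le (hc _ hx _ hx') (hm _ hx)
      (hmz.coprime_dvd_right (hz.ker_π H))
    have h3 : (y : Y) * y' = y' * y := congrArg Subtype.val h2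
    have h4 : (y : Y)⁻¹ * a ∈ centralizer (K : Set Y) :=
      H.toFrm.φ_eq_one_iff.1 (by rw [map_mul, map_inv, H.toFrm.φ_coe, e, inv_mul_cancel])
    have h5 : (y' : Y)⁻¹ * b ∈ centralizer (K : Set Y) :=
      H.toFrm.φ_eq_one_iff.1 (by rw [map_mul, map_inv, H.toFrm.φ_coe, e', inv_mul_cancel])
    have h6 : Commute (y : Y) ((y' : Y)⁻¹ * b) := h5 _ y.2
    have h7 : Commute (y' : Y) ((y : Y)⁻¹ * a) := h4 _ y'.2
    have h8 : Commute ((y : Y)⁻¹ * a) ((y' : Y)⁻¹ * b) := h5 _ (H.toFrm.cent h4)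
    have h9 := (Commute.mul_right (a := (y : Y)) h3 h6).mul_left (h7.symm.mul_right h8)
    rwa [mul_inv_cancel_left, mul_inv_cancel_left] at h9
  refine ⟨⟨⟨⟨{u | φ u ∈ P.map MulAut.conj ∧ u ^ m = 1}, fun {a b} ha hb => ⟨?_, ?_⟩⟩, ?_⟩, fun {a} ha => ⟨?_, ?_⟩⟩,
    fun _ => Iff.rfl, fun a ha b hb => hcm a b ha.1 ha.2 hb.1, le_antisymm ?_ ?_, fun y hy => ?_⟩
  · rw [map_mul]
    exact mul_mem ha.1 hb.1
  · rw [Commute.mul_pow (hcm a b ha.1 ha.2 hb.1), ha.2, hb.2, one_mul]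
  · exact ⟨by rw [map_one]; exact one_mem _, one_pow m⟩
  · rw [map_inv]
    exact inv_mem ha.1
  · rw [inv_pow, ha.2, inv_one]
  · rintro _ ⟨u, hu, rfl⟩
    exact hu.1
  · rintro _ ⟨x, hx, rfl⟩
    obtain ⟨u, h1, h2⟩ := hl x hx
    exact ⟨u, ⟨⟨x, hx, h1.symm⟩, h2⟩, h1⟩
  · refine mem_normalizer_fintype fun a ha => ⟨?_, by rw [conj_pow, ha.2, mul_one, mul_inv_cancel]⟩
    obtain ⟨x, hx, e⟩ := ha.1
    exact ⟨_, hy x hx, by rw [conj_apply, map_mul, map_mul, map_inv, e]⟩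

theorem card_cast_ne_zero {m : ℕ} (hm : m.Coprime p) {R : Subgroup Y} (h : ∀ a ∈ R, a ^ m = 1) :
    (Nat.card R : ZMod p) ≠ 0 := fun e => by
  obtain ⟨u, hu⟩ := exists_prime_orderOf_dvd_card' p ((ZMod.natCast_eq_zero_iff _ _).1 e)
  have h1 : p ∣ m := hu ▸ orderOf_dvd_of_pow_eq_one (Subtype.ext (h u u.2))
  exact (Fact.out : p.Prime).one_lt.ne' (Nat.eq_one_of_dvd_coprimes hm h1 dvd_rfl)

end Lift

variable {E : Subgroup (MulAut S)} {n c : ℕ} {α : MulAut S} {x : S}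

/-- **coprime action** of a `t`-group of automorphisms on an abelian subgroup -/
theorem Lo.of_cop {t m z : ℕ} [Fact t.Prime] (hz : Zc p S z) (hmz : m.Coprime z) (hmp : m.Coprime p) {P : Subgroup S}
    (hc : ∀ a ∈ P, ∀ b ∈ P, a * b = b * a) (hm : ∀ a ∈ P, a ^ m = 1) (hE : IsPGroup t E)
    (hn : ∀ α ∈ E, ∀ x ∈ P, α x ∈ P) (h : Lo p ⁅P.map MulAut.conj, E⁆ n) (hlt : t * (c - 1) < (t - 1) * n) :
    Lo p E c := fun Y _ _ V _ _ _ K ρ π φ H A hA => by
  obtain ⟨R, h1, h2, h3, h4⟩ := hz.exists_R H hmz hc hm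
  obtain ⟨X, hX, h5, h6⟩ := exists_pgroup_lift φ hE hA
  have h7 := coprime_bound (ρ := ρ) h2 (card_cast_ne_zero hmp fun a ha => ((h1 a).1 ha).2)
    (fun y hy => h4 y (hn _ (h6 ▸ ⟨y, hy, rfl⟩))) h5
  have h8 := h Y V K ρ π φ H ⁅R, X⁆ (by rw [map_commutator, h3, h6])
  have h9 := Nat.lt_of_mul_lt_mul_left ((hlt.trans_le (Nat.mul_le_mul_left _ h8)).trans_le h7)
  have h10 := cod_mono (ρ := ρ) hX
  omega

theorem Le.of_cop {t j m z : ℕ} [Fact t.Prime] (hz : Zc p S z) (hmz : m.Coprime z) (hmp : m.Coprime p) {P : Subgroup S}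
    (hc : ∀ a ∈ P, ∀ b ∈ P, a * b = b * a) (hm : ∀ a ∈ P, a ^ m = 1) (hα : α ^ t ^ j = 1)
    (hn : ∀ x ∈ P, α x ∈ P) (hx : x ∈ P) (h : Li p (α x * x⁻¹) n) (hlt : t * (c - 1) < (t - 1) * n) : Le p α c := by
  refine Lo.of_cop hz hmz hmp hc hm (fun g => ⟨j, Subtype.ext ?_⟩) (fun β hβ => ?_) (Le.lo h.inv ?_) hlt
  · obtain ⟨_, i, rfl⟩ := g
    show (α ^ i) ^ t ^ j = 1
    rw [← zpow_natCast, ← zpow_mul, mul_comm, zpow_mul, zpow_natCast, hα, one_zpow]
  · obtain ⟨i, rfl⟩ := (isOfFinOrder_iff_pow_eq_one.2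
      ⟨_, pow_pos (Fact.out : t.Prime).pos j, hα⟩).mem_powers_iff_mem_zpowers.2 hβ
    induction i with
    | zero => exact fun x hx => hx
    | succ i ih =>
      intro y hy
      show (α ^ (i + 1)) y ∈ P
      rw [pow_succ', MulAut.mul_apply]
      exact hn _ (ih (pow_mem (mem_zpowers α) i) y hy)
  · have := commutator_mem_commutator (H₁ := P.map MulAut.conj) ⟨x, hx, rfl⟩ (mem_zpowers α)
    rwa [show ⁅MulAut.conj x, α⁆ = MulAut.conj (α x * x⁻¹)⁻¹ by
      rw [mul_inv_rev, inv_inv, map_mul, map_inv, conj_apply, commutatorElement_def]; group] at this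

/-- a `t`-element that normalises and does not centralise a subgroup of prime order -/
theorem Le.of_frob {t j s z : ℕ} [Fact t.Prime] (hz : Zc p S z) (hs : s.Prime) (hsz : s.Coprime z) (hsp : s ≠ p)
    (hα : α ^ t ^ j = 1) (hx : x ^ s = 1) (h1 : α x ∈ zpowers x) (h2 : α x ≠ x) (h : Li p x n)
    (hlt : t * (c - 1) < (t - 1) * n) : Le p α c := by
  have hA := elemAb_zpowers hx
  refine Le.of_cop hz hsz ((Nat.coprime_primes hs Fact.out).2 hsp) (fun a ha b hb => elemAb_comm hA ha hb) hA.2 hα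
    ?_ (mem_zpowers x) (h.of_mem ?_) hlt
  · rintro _ ⟨i, rfl⟩
    rw [map_zpow]
    exact zpow_mem h1 i
  · have : Fact s.Prime := ⟨hs⟩
    have h3 : x ≠ 1 := fun e => h2 (by rw [e, map_one])
    obtain ⟨i, hi⟩ := mem_zpowers_of_prime_card (G := zpowers x) (by rw [Nat.card_zpowers, orderOf_eq_prime hx h3])
      (g := ⟨_, mul_mem h1 (inv_mem (mem_zpowers x))⟩) (g' := ⟨x, mem_zpowers x⟩)
      fun e => h2 (mul_inv_eq_one.1 (congrArg Subtype.val e))
    exact ⟨i, congrArg Subtype.val hi⟩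

theorem Li.of_frob {t j s z i : ℕ} [Fact t.Prime] (hz : Zc p S z) (hs : s.Prime) (hsz : s.Coprime z) (hsp : s ≠ p)
    {a : S} (ha : a ^ t ^ j = 1) (hx : x ^ s = 1) (h1 : a * x = x ^ i * a) (h2 : x ^ i ≠ x) (h : Li p x n)
    (hlt : t * (c - 1) < (t - 1) * n) : Li p a c := by
  have h3 : MulAut.conj a x = x ^ i := by rw [MulAut.conj_apply, h1, mul_inv_cancel_right]
  exact Le.of_frob (j := j) hz hs hsz hsp (by rw [← map_pow, ha, map_one]) hx (h3 ▸ pow_mem (mem_zpowers x) i)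
    (h3 ▸ h2) h hlt

theorem conj_ne_one {Y : Type} [Group Y] {K : Subgroup Y} {π : K →* S} {φ : Y →* MulAut S} (F : Frm K π φ)
    (h : x ≠ 1) : MulAut.conj x ≠ 1 := fun e => by
  obtain ⟨u, rfl⟩ := F.surj x
  rw [← F.φ_coe, F.φ_eq_one_iff, ← F.π_eq_one_iff] at e
  exact h e

/-- the eigenvalues of an element of prime order -/
theorem Li.of_rat {s z i : ℕ} (hz : Zc p S z) (hs : s.Prime) (hsz : s.Coprime z) (hsp : s ≠ p) (h1 : x ≠ 1)
    (h2 : x ^ s = 1) {g : S} (hg : x * g = g * x ^ i) (L : List (ℕ × ℕ))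
    (hL : (L.map fun q => i ^ q.1 * p ^ q.2 % s).Nodup) : Li p x L.length :=
  le_of_elt fun Y _ _ V _ _ _ K ρ π φ H y hy => by
    obtain ⟨u, hu, h3, h4⟩ := hz.exists_lift H hsz (y := y) (by rw [hy, ← map_pow, h2, map_one])
    rw [hy] at h3
    obtain ⟨w, rfl⟩ := H.surj g
    have h5 : (w : Y)⁻¹ * u * w = u ^ i := by
      refine (hz.lift_unique H hsz (m := s) (by rw [map_pow, h3, ← map_pow]; exact ⟨_, rfl⟩) ?_ ?_ ?_).symm
      · rw [map_pow, map_mul, map_mul, map_inv, h3, H.toFrm.φ_coe, ← map_pow, ← map_inv, ← map_mul, ← map_mul,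
          mul_assoc, hg, inv_mul_cancel_left]
      · rw [← pow_mul, mul_comm, pow_mul, h4, one_pow]
      · rw [inv_conj_pow, h4, mul_one, inv_mul_cancel]
    have h6 : ∀ e : ℕ, ((w : Y) ^ e)⁻¹ * u * w ^ e = u ^ i ^ e := fun e => by
      induction e with
      | zero => simp
      | succ e ih =>
        rw [pow_succ' (w : Y), mul_inv_rev, pow_succ i, pow_mul, ← ih, inv_conj_pow, ← h5]
        group
    have h7 := card_mul_le_cod_zpowers (ρ := ρ) hs h4 (cast_ne_zero hs hsp)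
      (fun e => conj_ne_one H.toFrm h1 (by rw [← h3, H.faithful (e.trans (map_one ρ).symm), map_one]))
      (L.map fun q => ((i ^ q.1 * p ^ q.2 : ℕ) : ZMod s)).toFinset (fun j hj => by
        obtain ⟨q, -, rfl⟩ := List.mem_map.1 (List.mem_toFinset.1 hj)
        exact ⟨w ^ q.1, i ^ q.1, q.2, h6 _, by rw [ZMod.card]⟩) (m := 1) fun _ _ h => h
    rw [mul_one, List.toFinset_card_of_nodup, List.length_map] at h7
    · exact h7.trans (XL.cod_le_of_mem hu)
    · exact (List.nodup_map_iff_inj_on (hL.of_map _)).2 fun a ha b hb e =>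
        (List.nodup_map_iff_inj_on (hL.of_map _)).1 hL a ha b hb ((ZMod.natCast_eq_natCast_iff' _ _ _).1 e)

/-! ### rank two -/

/-- the action of a matrix on a weight (coded by `u + s v`) -/
def act (s : ℕ) (M : ℕ × ℕ × ℕ × ℕ) (i : ℕ) : ℕ :=
  (M.1 * (i % s) + M.2.1 * (i / s)) % s + s * ((M.2.2.1 * (i % s) + M.2.2.2 * (i / s)) % s)

/-- one step of the orbit algorithm (sets are bit masks) -/
def grow (s : ℕ) (Ms : List (ℕ × ℕ × ℕ × ℕ)) (m : ℕ) : ℕ :=
  (List.range (s * s)).foldr (fun i c => bif m.testBit i then Ms.foldr (fun M a => a ||| 2 ^ act s M i) c else c) m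

/-- `N` steps of the orbit algorithm -/
def orb (s : ℕ) (Ms : List (ℕ × ℕ × ℕ × ℕ)) (N i : ℕ) : ℕ := Nat.rec (2 ^ i) (fun _ m => grow s Ms m) N

/-- every orbit that contains a weight not trivial on `a ^ i b ^ j`, `(i, j)` in `T`, contains `n` of them -/
def chk (s : ℕ) (Ms : List (ℕ × ℕ × ℕ × ℕ)) (N n : ℕ) (T : List (ℕ × ℕ)) : Bool :=
  (List.range (s * s)).all fun i => T.all fun t => (t.1 * (i % s) + t.2 * (i / s)) % s == 0 ||
    n ≤ ((List.range (s * s)).filter fun j =>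
      (orb s Ms N i).testBit j && (t.1 * (j % s) + t.2 * (j / s)) % s != 0).length

/-- the points of the projective line -/
def pts (s : ℕ) : List (ℕ × ℕ) := (0, 1) :: (List.range s).map fun j => (1, j)

theorem orb_ind {s : ℕ} {Ms : List (ℕ × ℕ × ℕ × ℕ)} {P : ℕ → Prop} (h : ∀ M ∈ Ms, ∀ w, P w → P (act s M w))
    {w : ℕ} (hw : P w) (N : ℕ) : ∀ j, (orb s Ms N w).testBit j = true → P j := by
  induction N with
  | zero =>
    intro j e
    rw [show orb s Ms 0 w = 2 ^ w from rfl, Nat.testBit_two_pow, decide_eq_true_eq] at e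
    exact e ▸ hw
  | succ N ih =>
    have h1 : ∀ i, P i → ∀ L : List (ℕ × ℕ × ℕ × ℕ), (∀ M ∈ L, M ∈ Ms) → ∀ c : ℕ, (∀ j, c.testBit j = true → P j) →
        ∀ j, (L.foldr (fun M a => a ||| 2 ^ act s M i) c).testBit j = true → P j := fun i hi L => by
      induction L with
      | nil => exact fun _ _ hc => hc
      | cons M L ihL =>
        intro hL c hc j e
        rw [List.foldr_cons, Nat.testBit_or, Bool.or_eq_true, Nat.testBit_two_pow, decide_eq_true_eq] at e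
        rcases e with e | e
        · exact ihL (fun M' e' => hL M' (List.mem_cons_of_mem _ e')) c hc j e
        · exact e ▸ h M (hL M List.mem_cons_self) i hi
    show ∀ j, (grow s Ms (orb s Ms N w)).testBit j = true → P j
    rw [grow]
    induction List.range (s * s) with
    | nil => exact ih
    | cons i L ihL =>
      rw [List.foldr_cons]
      cases e : (orb s Ms N w).testBit i
      · exact ihL
      · exact h1 i (ih i e) Ms (fun _ e => e) _ ihL

/-- the weights of a group generated by two commuting elements of prime order -/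
theorem rank_two_core {Y : Type*} [Group Y] [Finite Y] {V : Type*} [AddCommGroup V] [Module (ZMod p) V] [Finite V]
    {ρ : Representation (ZMod p) Y V} {R : Subgroup Y} {s : ℕ} (hs : s.Prime) (hsp : s ≠ p)
    (hc : ∀ a ∈ R, ∀ b ∈ R, a * b = b * a) (he : ∀ a ∈ R, a ^ s = 1) (a b : R) (Ms : List (ℕ × ℕ × ℕ × ℕ))
    (hM : ∀ M ∈ Ms, ∃ g ∈ normalizer (R : Set Y), g⁻¹ * a * g = a ^ M.1 * b ^ M.2.1 ∧
      g⁻¹ * b * g = a ^ M.2.2.1 * b ^ M.2.2.2) {N n : ℕ} {T : List (ℕ × ℕ)}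
    (h : chk s ((p, 0, 0, p) :: Ms) N n T = true) {t : ℕ × ℕ} (ht : t ∈ T) (hρ : ρ (a ^ t.1 * b ^ t.2) ≠ 1) {m : ℕ}
    (hm : ∀ χ : R →* (AlgebraicClosure (ZMod p))ˣ, χ (a ^ t.1 * b ^ t.2) ≠ 1 →
      0 < mlt (bc (AlgebraicClosure (ZMod p)) ρ) R χ → m ≤ mlt (bc (AlgebraicClosure (ZMod p)) ρ) R χ) :
    n * m ≤ cod ρ (zpowers ((a : Y) ^ t.1 * b ^ t.2)) := by
  classical
  have : NeZero s := ⟨hs.ne_zero⟩
  rw [← cod_bc (AlgebraicClosure (ZMod p))]
  obtain ⟨χ₀, h1, h2⟩ := exists_wt (ρ := bc (AlgebraicClosure (ZMod p)) ρ) hc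
    (card_ne_zero_closure (card_ne_zero_of_exp hs (cast_ne_zero hs hsp) he)) (r := a ^ t.1 * b ^ t.2)
    (XL.bc_ne_one _ hρ)
  have hζ : IsPrimitiveRoot (χ₀ (a ^ t.1 * b ^ t.2)) s := by
    have := IsPrimitiveRoot.orderOf (χ₀ (a ^ t.1 * b ^ t.2))
    rwa [orderOf_char_eq hs (he _ (a ^ t.1 * b ^ t.2).2) h1] at this
  generalize hζ' : χ₀ (a ^ t.1 * b ^ t.2) = ζ at hζ
  have h3 : ∀ r : R, ∃ u < s, ζ ^ u = χ₀ r := fun r => hζ.eq_pow_of_mem_rootsOfUnity
    ((mem_rootsOfUnity _ _).2 (by rw [← map_pow, show r ^ s = 1 from Subtype.ext (he r r.2), map_one]))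
  obtain ⟨u, hu, eu⟩ := h3 a
  obtain ⟨v, hv, ev⟩ := h3 b
  have h4 : ∀ (χ : R →* (AlgebraicClosure (ZMod p))ˣ) (w : ℕ), χ a = ζ ^ (w % s) → χ b = ζ ^ (w / s) → ∀ i j : ℕ,
      χ (a ^ i * b ^ j) = ζ ^ ((i * (w % s) + j * (w / s)) % s) := fun χ w e1 e2 i j => by
    rw [map_mul, map_pow, map_pow, e1, e2, ← pow_mul, ← pow_mul, ← pow_add, mul_comm (w % s), mul_comm (w / s),
      ← pow_eq_pow_mod _ hζ.pow_eq_one]
  have c1 : ∀ x y, x < s → (x + s * y) % s = x := fun x y e => by rw [Nat.add_mul_mod_self_left, Nat.mod_eq_of_lt e]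
  have c2 : ∀ x y, x < s → (x + s * y) / s = y := fun x y e => by
    rw [Nat.add_mul_div_left _ _ hs.pos, Nat.div_eq_of_lt e, zero_add]
  rw [← c1 u v hu] at eu
  rw [← c2 u v hu] at ev
  have h6 := orb_ind (s := s) (Ms := (p, 0, 0, p) :: Ms) (P := fun w =>
      ∃ χ : R →* (AlgebraicClosure (ZMod p))ˣ, mlt (bc (AlgebraicClosure (ZMod p)) ρ) R χ =
        mlt (bc (AlgebraicClosure (ZMod p)) ρ) R χ₀ ∧ χ a = ζ ^ (w % s) ∧ χ b = ζ ^ (w / s)) (fun M hM' w hw => by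
    obtain ⟨χ, e0, e1, e2⟩ := hw
    rw [act, c1 _ _ (Nat.mod_lt _ hs.pos), c2 _ _ (Nat.mod_lt _ hs.pos)]
    rcases List.mem_cons.1 hM' with rfl | hM'
    · refine ⟨χ ^ Fintype.card (ZMod p), (mlt_pow_card _ χ).trans e0, ?_, ?_⟩
      · rw [ZMod.card, MonoidHom.pow_apply, ← map_pow, ← mul_one (a ^ p), ← pow_zero b, h4 χ w e1 e2]
      · rw [ZMod.card, MonoidHom.pow_apply, ← map_pow, ← one_mul (b ^ p), ← pow_zero a, h4 χ w e1 e2]
    · obtain ⟨g, hg, e3, e4⟩ := hM M hM'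
      exact ⟨tw g hg χ, (mlt_tw hg χ).trans e0, (tw_apply_of_eq hg χ (s := a ^ M.1 * b ^ M.2.1) e3.symm).trans
        (h4 χ w e1 e2 _ _), (tw_apply_of_eq hg χ (s := a ^ M.2.2.1 * b ^ M.2.2.2) e4.symm).trans
        (h4 χ w e1 e2 _ _)⟩) (w := u + s * v) ⟨χ₀, rfl, eu.symm, ev.symm⟩ N
  have h8 := List.all_eq_true.1 (List.all_eq_true.1 h (u + s * v) (List.mem_range.2 (by nlinarith))) t ht
  rw [Bool.or_eq_true, beq_iff_eq, decide_eq_true_eq] at h8
  replace h8 := h8.resolve_left fun e => h1 (by rw [h4 χ₀ _ eu.symm ev.symm, e, pow_zero])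
  choose! f hf using h6
  generalize hO : ((List.range (s * s)).filter fun j => (orb s ((p, 0, 0, p) :: Ms) N (u + s * v)).testBit j &&
    (t.1 * (j % s) + t.2 * (j / s)) % s != 0) = O at h8
  have h5 : ∀ w ∈ O, w / s < s ∧ (orb s ((p, 0, 0, p) :: Ms) N (u + s * v)).testBit w = true ∧
      (t.1 * (w % s) + t.2 * (w / s)) % s ≠ 0 := fun w hw => by
    rw [← hO, List.mem_filter, List.mem_range, Bool.and_eq_true, bne_iff_ne] at hw
    exact ⟨Nat.div_lt_of_lt_mul hw.1, hw.2⟩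
  have h9 := card_mul_le_cod (ρ := bc (AlgebraicClosure (ZMod p)) ρ) (B := zpowers ((a : Y) ^ t.1 * b ^ t.2))
    (zpowers_le.2 (a ^ t.1 * b ^ t.2).2) (O.map f).toFinset (fun χ hχ e => by
      obtain ⟨w, hw, rfl⟩ := List.mem_map.1 (List.mem_toFinset.1 hχ)
      obtain ⟨-, e1, e2⟩ := h5 w hw
      have := e (a ^ t.1 * b ^ t.2) (mem_zpowers _)
      rw [h4 _ w (hf w e1).2.1 (hf w e1).2.2] at this
      exact e2 (hζ.pow_inj (Nat.mod_lt _ hs.pos) hs.pos (this.trans (pow_zero ζ).symm))) (m := m) fun χ hχ => by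
      obtain ⟨w, hw, rfl⟩ := List.mem_map.1 (List.mem_toFinset.1 hχ)
      rw [(hf w (h5 w hw).2.1).1]
      exact hm χ₀ h1 h2
  rw [List.toFinset_card_of_nodup, List.length_map] at h9
  · exact (Nat.mul_le_mul_right m h8).trans h9
  · refine (List.nodup_map_iff_inj_on (hO ▸ List.nodup_range.filter _)).2 fun w hw w' hw' e => ?_
    obtain ⟨e1, e2, -⟩ := h5 w hw
    obtain ⟨e3, e4, -⟩ := h5 w' hw'
    rw [← Nat.mod_add_div w s, ← Nat.mod_add_div w' s, hζ.pow_inj (Nat.mod_lt w hs.pos) (Nat.mod_lt w' hs.pos)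
      (by rw [← (hf w e2).2.1, e, (hf w' e4).2.1]), hζ.pow_inj e1 e3 (by rw [← (hf w e2).2.2, e, (hf w' e4).2.2])]

/-- **weights in rank two** -/
theorem li_rank_two {s z : ℕ} (hz : Zc p S z) (hs : s.Prime) (hsz : s.Coprime z) (hsp : s ≠ p) {a b : S}
    (hab : b * a = a * b) (ha : a ^ s = 1) (hb : b ^ s = 1) (Ms : List (ℕ × ℕ × ℕ × ℕ))
    (hM : ∀ M ∈ Ms, ∃ g, a * g = g * (a ^ M.1 * b ^ M.2.1) ∧ b * g = g * (a ^ M.2.2.1 * b ^ M.2.2.2))
    {N : ℕ} {T : List (ℕ × ℕ)} (h : chk s ((p, 0, 0, p) :: Ms) N n T = true) {t : ℕ × ℕ} (ht : t ∈ T)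
    (h1 : a ^ t.1 * b ^ t.2 ≠ 1) : Li p (a ^ t.1 * b ^ t.2) n :=
  le_of_elt fun Y _ _ V _ _ _ K ρ π φ H y hy => by
    obtain ⟨R, h2, h3, h4, h5⟩ := hz.exists_R H hsz (comm_sup_zpowers hab) (exp_sup_zpowers hab hb ha)
    have ma : a ∈ zpowers a ⊔ zpowers b := mem_sup_left (mem_zpowers a)
    have mb : b ∈ zpowers a ⊔ zpowers b := mem_sup_right (mem_zpowers b)
    obtain ⟨a', ha', ea⟩ := h4.ge ⟨a, ma, rfl⟩
    obtain ⟨b', hb', eb⟩ := h4.ge ⟨b, mb, rfl⟩
    have h6 : ∀ i j : ℕ, φ (a' ^ i * b' ^ j) = MulAut.conj (a ^ i * b ^ j) := fun i j => by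
      rw [map_mul, map_mul, map_pow, map_pow, map_pow, map_pow, ea, eb]
    have h7 : ∀ i j : ℕ, (a' ^ i * b' ^ j) ^ s = 1 := fun i j => ((h2 _).1 (mul_mem (pow_mem ha' i) (pow_mem hb' j))).2
    have h8 := rank_two_core (ρ := ρ) hs hsp h3 (fun a ha => ((h2 a).1 ha).2) ⟨a', ha'⟩ ⟨b', hb'⟩ Ms (fun M hM' => by
      obtain ⟨g, e1, e2⟩ := hM M hM'
      obtain ⟨w, rfl⟩ := H.surj g
      have key : ∀ (c : S) (c' : Y) (i j : ℕ), φ c' = MulAut.conj c → c' ^ s = 1 → c * π w = π w * (a ^ i * b ^ j) →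
          (w : Y)⁻¹ * c' * w = a' ^ i * b' ^ j := fun c c' i j e3 e4 e5 =>
        (hz.lift_unique H hsz (h6 i j ▸ ⟨_, rfl⟩) (by
          rw [h6, map_mul φ, map_mul φ, map_inv, e3, H.toFrm.φ_coe, ← map_inv, ← map_mul, ← map_mul, mul_assoc, e5,
            inv_mul_cancel_left]) (h7 i j) (by rw [inv_conj_pow, e4, mul_one, inv_mul_cancel])).symm
      refine ⟨w, ?_, key a a' _ _ ea ((h2 _).1 ha').2 e1, key b b' _ _ eb ((h2 _).1 hb').2 e2⟩
      rw [← inv_mem_iff]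
      refine h5 _ fun x hx => ?_
      have h9 : zpowers a ⊔ zpowers b ≤ (zpowers a ⊔ zpowers b).comap (φ (w : Y)⁻¹).toMonoidHom := by
        refine sup_le (zpowers_le.2 ?_) (zpowers_le.2 ?_)
        · show φ (w : Y)⁻¹ a ∈ zpowers a ⊔ zpowers b
          rw [map_inv, H.toFrm.φ_coe, MulAut.conj_inv_apply, mul_assoc, e1, inv_mul_cancel_left]
          exact mul_mem (pow_mem ma _) (pow_mem mb _)
        · show φ (w : Y)⁻¹ b ∈ zpowers a ⊔ zpowers b
          rw [map_inv, H.toFrm.φ_coe, MulAut.conj_inv_apply, mul_assoc, e2, inv_mul_cancel_left]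
          exact mul_mem (pow_mem ma _) (pow_mem mb _)
      exact h9 hx) h ht (fun e => conj_ne_one H.toFrm h1 (by
        rw [← h6, H.faithful (e.trans (map_one ρ).symm), map_one])) (m := 1) fun _ _ h => h
    obtain ⟨u, hu, e1, e2⟩ := hz.exists_lift H hsz (y := y) (by rw [hy, ← h6, ← map_pow, h7, map_one])
    rw [mul_one, hz.lift_unique H hsz (h6 _ _ ▸ ⟨_, rfl⟩) ((h6 t.1 t.2).trans (e1.trans hy).symm) (h7 _ _) e2] at h8
    exact h8.trans (XL.cod_le_of_mem hu)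

theorem exists_pow_of_mem_sup {G : Type*} [Group G] {a b : G} {s : ℕ} (hs : 0 < s) (hab : b * a = a * b)
    (ha : a ^ s = 1) (hb : b ^ s = 1) {x : G} (hx : x ∈ zpowers a ⊔ zpowers b) : ∃ i < s, ∃ j < s, x = a ^ i * b ^ j := by
  have hc : Commute a b := hab.symm
  let H : Subgroup G := ⟨⟨⟨{x | ∃ i j : ℕ, x = a ^ i * b ^ j}, by
    rintro _ _ ⟨i, j, rfl⟩ ⟨i', j', rfl⟩
    exact ⟨i + i', j + j', by rw [pow_add, pow_add, (hc.pow_pow i' j).symm.mul_mul_mul_comm]⟩⟩, 0, 0, by simp⟩, by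
    rintro _ ⟨i, j, rfl⟩
    refine ⟨i * (s - 1), j * (s - 1), inv_eq_of_mul_eq_one_right ?_⟩
    rw [(hc.pow_pow _ j).symm.mul_mul_mul_comm, ← pow_add, ← pow_add, ← mul_one_add, ← mul_one_add,
      show 1 + (s - 1) = s by omega, pow_mul', pow_mul', ha, hb]
    simp⟩
  obtain ⟨i, j, rfl⟩ := (sup_le (zpowers_le.2 ⟨1, 0, by simp⟩) (zpowers_le.2 ⟨0, 1, by simp⟩) : _ ≤ H) hx
  exact ⟨_, Nat.mod_lt i hs, _, Nat.mod_lt j hs, by rw [← pow_eq_pow_mod _ ha, ← pow_eq_pow_mod _ hb]⟩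

theorem not_dvd_index_sup {G : Type*} [Group G] [Finite G] {a b : G} {s : ℕ} [Fact s.Prime] (hab : b * a = a * b)
    (ha : a ^ s = 1) (hb : b ^ s = 1) (h1 : a ≠ 1) (h2 : ∀ i < s, a ^ i ≠ b) (h3 : ¬ s ^ 3 ∣ Nat.card G) :
    ¬ s ∣ (zpowers a ⊔ zpowers b).index := fun e => h3 (by
  have h4 := elemAb_isPGroup (elemAb_of (comm_sup_zpowers hab) (exp_sup_zpowers hab hb ha))
  have h5 : s ∣ (zpowers a).relIndex (zpowers a ⊔ zpowers b) := by
    obtain ⟨k, hk⟩ := h4.index ((zpowers a).subgroupOf (zpowers a ⊔ zpowers b))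
    rw [relIndex, hk]
    refine dvd_pow_self s fun e0 => ?_
    rw [e0, pow_zero, index_eq_one, subgroupOf_eq_top] at hk
    obtain ⟨i, hi⟩ := (mem_powers_iff_mem_zpowers).2 (hk (mem_sup_right (mem_zpowers b)))
    exact h2 _ (Nat.mod_lt i (Fact.out : s.Prime).pos) (by rw [← pow_eq_pow_mod _ ha]; exact hi)
  rw [← (zpowers a).card_mul_index, ← relIndex_mul_index (le_sup_left : zpowers a ≤ zpowers a ⊔ zpowers b),
    Nat.card_zpowers, orderOf_eq_prime ha h1, pow_succ', pow_two]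
  exact mul_dvd_mul_left s (mul_dvd_mul h5 e))

/-- **weights in rank two**, for a Sylow subgroup of order `s ^ 2` -/
theorem li_rank_two_all [Finite S] {s z : ℕ} (hz : Zc p S z) (hs : s.Prime) (hsz : s.Coprime z) (hsp : s ≠ p) {a b : S}
    (hab : b * a = a * b) (ha : a ^ s = 1) (hb : b ^ s = 1) (h1 : a ≠ 1) (h2 : ∀ i < s, a ^ i ≠ b)
    (h3 : ¬ s ^ 3 ∣ Nat.card S) (Ms : List (ℕ × ℕ × ℕ × ℕ))
    (hM : ∀ M ∈ Ms, ∃ g, a * g = g * (a ^ M.1 * b ^ M.2.1) ∧ b * g = g * (a ^ M.2.2.1 * b ^ M.2.2.2))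
    {N : ℕ} (h : chk s ((p, 0, 0, p) :: Ms) N n (pts s) = true) (x : S) (h4 : x ≠ 1)
    (h5 : x ^ s = 1) : Li p x n := by
  have : Fact s.Prime := ⟨hs⟩
  refine li_of_sylow (elemAb_isPGroup (elemAb_of (comm_sup_zpowers hab) (exp_sup_zpowers hab hb ha)))
    (not_dvd_index_sup hab ha hb h1 h2 h3) (fun y hy h6 _ => ?_) h4 h5
  obtain ⟨i, hi, j, hj, rfl⟩ := exists_pow_of_mem_sup hs.pos hab ha hb hy
  have h7 : ∀ k, (a ^ i * b ^ j) ^ k = a ^ (i * k % s) * b ^ (j * k % s) := fun k => by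
    rw [(Commute.pow_pow hab.symm i j).mul_pow, ← pow_mul, ← pow_mul, ← pow_eq_pow_mod _ ha, ← pow_eq_pow_mod _ hb]
  have h8 : ∀ t ∈ pts s, a ^ t.1 * b ^ t.2 ≠ 1 → Li p (a ^ t.1 * b ^ t.2) n := fun t ht =>
    li_rank_two hz hs hsz hsp hab ha hb Ms hM h ht
  have h9 : ∀ k, 0 < k % s → (a ^ i * b ^ j) ^ k ≠ 1 := fun k hk e => by
    have := orderOf_dvd_of_pow_eq_one e
    rw [orderOf_eq_prime (p := s) (by rw [h7, Nat.mul_mod_left, Nat.mul_mod_left, pow_zero, pow_zero, one_mul]) h6]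
      at this
    exact hk.ne' (Nat.mod_eq_zero_of_dvd this)
  have h10 : ∀ i, 0 < i → i < s → ∃ k, i * k % s = 1 ∧ 0 < k % s := fun i e1 e2 => by
    obtain ⟨k, -, hk⟩ := Nat.exists_mul_mod_eq_one_of_coprime (Nat.coprime_of_lt_prime e1.ne' e2 hs).symm hs.one_lt
    exact ⟨k, hk, Nat.pos_of_ne_zero fun e => by simp [Nat.mul_mod, e] at hk⟩
  rcases i.eq_zero_or_pos with rfl | hi0
  · obtain ⟨k, e1, e2⟩ := h10 j (Nat.pos_of_ne_zero fun e => h6 (by rw [e, pow_zero, pow_zero, one_mul])) hj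
    have h11 := h9 k e2
    refine Li.of_pow k ?_
    rw [h7, e1, zero_mul, Nat.zero_mod] at h11 ⊢
    exact h8 (0, 1) List.mem_cons_self h11
  · obtain ⟨k, e1, e2⟩ := h10 i hi0 hi
    have h11 := h9 k e2
    refine Li.of_pow k ?_
    rw [h7, e1] at h11 ⊢
    exact h8 (1, _) (List.mem_cons_of_mem _ (List.mem_map.2 ⟨_, List.mem_range.2 (Nat.mod_lt _ hs.pos), rfl⟩)) h11

/-- elements of prime order, for a Sylow subgroup of prime order -/
theorem li_rank_one_all [Finite S] {s : ℕ} (hs : s.Prime) {a : S} (ha : a ^ s = 1) (h1 : a ≠ 1)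
    (h3 : ¬ s ^ 2 ∣ Nat.card S) (h : Li p a n) (x : S) (h4 : x ≠ 1) (h5 : x ^ s = 1) : Li p x n := by
  have : Fact s.Prime := ⟨hs⟩
  refine li_of_sylow (elemAb_isPGroup (elemAb_zpowers ha)) (fun e => h3 ?_) (fun y hy h6 _ => h.of_mem ?_) h4 h5
  · rw [← (zpowers a).card_mul_index, Nat.card_zpowers, orderOf_eq_prime ha h1, pow_two]
    exact mul_dvd_mul_left s e
  · obtain ⟨i, hi⟩ := mem_zpowers_of_prime_card (G := zpowers a) (by rw [Nat.card_zpowers, orderOf_eq_prime ha h1])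
      (g := ⟨y, hy⟩) (g' := ⟨a, mem_zpowers a⟩) fun e => h6 (congrArg Subtype.val e)
    exact ⟨i, congrArg Subtype.val hi⟩

end Cfsg.Agent.TwoF.XE

private theorem dce_c10c87ba4ff9 : _root_.True := by
  try have : _root_.True := by simp only [_root_.Cfsg.Agent.TwoF.XE.grow.eq_1]
  try have : _root_.True := by simp only [_root_.Cfsg.Agent.TwoF.XE.act.eq_1]
  exact _root_.True.intro
end

-- part: TwoF/SpA/Gen
section
prune_inst 0x80006004410000000000001020001c4692000000000b0000000001020c88ca0000020e20b810040200a00884403d0008101000100010000020000200411c01a0002b000210100d00000000000804000000000000000000000000000000000000000000000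
set_option linter.all false
open scoped Cfsg.Agent.FastGrp

/-!
# TwoF SP-A: general tools (helper86)

* `scott` : the inequality of Scott for two generators;
* `cub_of_const` : an offender of order 16 on which the codimension of the elements is constant is cubic;
* `cod_eq_of_order`, `cases_eleven`, `five_ge`, `dim_le_twelve`, `off_or`;
* `Cv` : lifts to covers with a centre of exponent 3; `row88_of_card`.
-/

set_option autoImplicit false

namespace Cfsg.Agent.TwoF.SpA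

open Module Gen Subgroup

section scott

variable {k : Type*} [Field k] {Y : Type*} [Group Y] {V : Type*} [AddCommGroup V] [Module k V]
  {ρ : Representation k Y V} [FiniteDimensional k V]

omit [FiniteDimensional k V] in
theorem cm_closure_le (x y : Y) :
    cm ρ ⊤ (_root_.Subgroup.closure {x, y}) ≤ LinearMap.range (ρ x - 1) ⊔ LinearMap.range (ρ y - 1) := by
  refine cm_le_iff.2 fun b hb => ?_
  induction hb using closure_induction with
  | mem g hg =>
    rintro v -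
    rcases hg with rfl | rfl
    · exact Submodule.mem_sup_left ⟨v, rfl⟩
    · exact Submodule.mem_sup_right ⟨v, rfl⟩
  | one => intro v _; simp only [_root_.map_one, _root_.Module.End.one_apply, _root_.sub_self, _root_.ZeroMemClass.zero_mem]
  | mul a b _ _ ha hb =>
    intro v _
    have := add_mem (ha (ρ b v) trivial) (hb v trivial)
    rwa [sub_add_sub_cancel, ← rho_mul] at this
  | inv a _ ha =>
    intro v _
    have := neg_mem (ha (ρ a⁻¹ v) trivial)
    rwa [rho_apply_inv, neg_sub] at this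

/-- **the inequality of Scott** -/
theorem scott {x y : Y} (h1 : fx ρ (_root_.Subgroup.closure {x, y}) = ⊥) (h2 : cm ρ ⊤ (closure {x, y}) = ⊤) :
    2 * finrank k V ≤ cod ρ (zpowers x) + cod ρ (zpowers y) + cod ρ (zpowers (x * y)) := by
  have e1 : LinearMap.range (ρ x - 1) ⊔ LinearMap.range (ρ y - 1) = ⊤ := top_le_iff.1 (h2 ▸ cm_closure_le x y)
  have e2 := Submodule.finrank_sup_add_finrank_inf_eq (LinearMap.range (ρ x - 1)) (LinearMap.range (ρ y - 1))
  rw [e1, finrank_top, ← cod_zpowers, ← cod_zpowers] at e2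
  have e3 := cod_add (ρ := ρ) (zpowers (x * y))
  let f : fx ρ (zpowers (x * y)) →ₗ[k] ↥(LinearMap.range (ρ x - 1) ⊓ LinearMap.range (ρ y - 1)) :=
    ((ρ y - 1).domRestrict _).codRestrict _ fun v => ⟨⟨-ρ y v, by
      have := mem_fx_zpowers.1 v.2
      rw [rho_mul] at this
      simp [this, neg_add_eq_sub]⟩, ⟨v, rfl⟩⟩
  have hf : Function.Injective f := by
    rw [injective_iff_map_eq_zero]
    intro v hv
    have h3 : ρ y v = v := sub_eq_zero.1 (congrArg Subtype.val hv)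
    have h4 := mem_fx_zpowers.1 v.2
    rw [rho_mul, h3] at h4
    have h5 : (v : V) ∈ fx ρ (_root_.Subgroup.closure {x, y}) := mem_fx_closure.2 (by rintro s (rfl | rfl) <;> assumption)
    rw [h1] at h5
    exact Subtype.ext h5
  have e4 := LinearMap.finrank_le_finrank_of_injective hf
  omega

theorem two_mul_cod_le [CharP k 2] {t : Y} (ht : t ^ 2 = 1) : 2 * cod ρ (zpowers t) ≤ finrank k V := by
  have h1 := cod_add (ρ := ρ) (zpowers t)
  have h2 : LinearMap.range (ρ t - 1) ≤ fx ρ (zpowers t) := by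
    rintro _ ⟨v, rfl⟩
    exact mem_fx_zpowers'.2 (SpB.sq_zero ht v)
  have h3 := Submodule.finrank_mono h2
  rw [← cod_zpowers] at h3
  omega

omit [FiniteDimensional k V] in
/-- all the elements of prime order `s` have the same codimension if the Sylow `s`-subgroups have order `s` -/
theorem cod_eq_of_order [Finite Y] {s : ℕ} [hp : Fact s.Prime] (hs : ¬ s ^ 2 ∣ Nat.card Y) {a b : Y} (ha : a ^ s = 1)
    (ha1 : a ≠ 1) (hb : b ^ s = 1) (hb1 : b ≠ 1) : cod ρ (zpowers a) = cod ρ (zpowers b) := by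
  have key : ∀ c : Y, c ^ s = 1 → c ≠ 1 → ∃ P : Sylow s Y, (P : Subgroup Y) = zpowers c := fun c hc hc1 => by
    obtain ⟨P, hP⟩ := (elemAb_isPGroup (elemAb_zpowers hc)).exists_le_sylow
    obtain ⟨n, hn⟩ := IsPGroup.iff_card.1 P.2
    refine ⟨P, (eq_of_le_of_card_ge hP ?_).symm⟩
    rw [Nat.card_zpowers, orderOf_eq_prime hc hc1]
    have h1 : s ^ n ∣ Nat.card Y := hn ▸ card_subgroup_dvd_card _
    have h2 : n ≤ 1 := by
      by_contra e
      exact hs ((pow_dvd_pow s (by omega)).trans h1)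
    calc Nat.card P = s ^ n := hn
      _ ≤ s ^ 1 := Nat.pow_le_pow_right hp.out.pos h2
      _ = s := pow_one s
  obtain ⟨P, hP⟩ := key a ha ha1
  obtain ⟨Q, hQ⟩ := key b hb hb1
  obtain ⟨g, rfl⟩ := MulAction.exists_smul_eq Y P Q
  rw [← hP, ← hQ]
  exact (cod_conj g _).symm

end scott

/-! ### offenders of order 16 -/

section four

variable {k : Type*} [Field k] {V : Type*} [AddCommGroup V] [Module k V]

/-- three commuting endomorphisms of square zero -/
structure Tri (α β γ : End k V) : Prop where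
  aa : ∀ u, α (α u) = 0
  bb : ∀ u, β (β u) = 0
  cc : ∀ u, γ (γ u) = 0
  ba : ∀ u, β (α u) = α (β u)
  ca : ∀ u, γ (α u) = α (γ u)
  cb : ∀ u, γ (β u) = β (γ u)

variable {α β γ δ τ : End k V}

theorem Tri.swap₁ (T : Tri α β γ) : Tri β α γ := ⟨T.bb, T.aa, T.cc, fun u => (T.ba u).symm, T.cb, T.ca⟩

theorem Tri.swap₂ (T : Tri α β γ) : Tri γ α β :=
  ⟨T.cc, T.aa, T.bb, fun u => (T.ca u).symm, fun u => (T.cb u).symm, T.ba⟩

theorem Tri.soc (T : Tri α β γ) {v : V} (hv : α (β (γ v)) ≠ 0) {c₀ c₁ c₂ c₃ : k} {w : V}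
    (hw : w = c₀ • α v + c₁ • α (β v) + c₂ • α (γ v) + c₃ • α (β (γ v))) :
    (β w = 0 → c₀ = 0 ∧ c₂ = 0) ∧ (γ w = 0 → c₀ = 0 ∧ c₁ = 0) := by
  subst hw
  refine ⟨fun h => ?_, fun h => ?_⟩
  · have h1 := congrArg γ h
    simp only [map_add, map_smul, T.ba, T.ca, T.cb, T.bb, T.cc, map_zero, smul_zero, add_zero] at h h1
    have h2 := (smul_eq_zero.1 h1).resolve_right hv
    rw [h2, zero_smul, zero_add] at h
    exact ⟨h2, (smul_eq_zero.1 h).resolve_right hv⟩
  · have h1 := congrArg β h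
    simp only [map_add, map_smul, T.ba, T.ca, T.cb, T.bb, T.cc, map_zero, smul_zero, add_zero] at h h1
    have h2 := (smul_eq_zero.1 h1).resolve_right hv
    rw [h2, zero_smul, zero_add] at h
    exact ⟨h2, (smul_eq_zero.1 h).resolve_right hv⟩

variable [FiniteDimensional k V]

theorem Tri.span (T : Tri α β γ) {v : V} (hv : α (β (γ v)) ≠ 0) (hr : finrank k (LinearMap.range α) ≤ 4) (u : V) :
    ∃ c₀ c₁ c₂ c₃ : k, α u = c₀ • α v + c₁ • α (β v) + c₂ • α (γ v) + c₃ • α (β (γ v)) := by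
  let w : Fin 4 → V := ![α v, α (β v), α (γ v), α (β (γ v))]
  have hi : LinearIndependent k w := by
    rw [Fintype.linearIndependent_iff]
    intro c hc
    rw [Fin.sum_univ_four] at hc
    obtain ⟨h1, h2⟩ := T.soc hv (w := 0) hc.symm
    obtain ⟨h3, h4⟩ := h1 (map_zero _)
    obtain ⟨-, h5⟩ := h2 (map_zero _)
    rw [h3, h4, h5, zero_smul, zero_smul, zero_smul, zero_add, zero_add, zero_add] at hc
    have h6 := (smul_eq_zero.1 hc).resolve_right hv
    intro i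
    fin_cases i <;> assumption
  have hle : Submodule.span k (Set.range w) ≤ LinearMap.range α := by
    rw [Submodule.span_le]
    rintro _ ⟨i, rfl⟩
    fin_cases i <;> exact ⟨_, rfl⟩
  have he := Submodule.eq_of_le_of_finrank_le hle (by rw [finrank_span_eq_card hi]; exact hr)
  obtain ⟨c, hc⟩ := (Submodule.mem_span_range_iff_exists_fun k).1 (he ▸ ⟨u, rfl⟩ : α u ∈ Submodule.span k (Set.range w))
  rw [Fin.sum_univ_four] at hc
  exact ⟨c 0, c 1, c 2, c 3, hc.symm⟩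

theorem Tri.soc' (T : Tri α β γ) {v : V} (hv : α (β (γ v)) ≠ 0) (hr : finrank k (LinearMap.range α) ≤ 4) {u : V}
    (hb : β (α u) = 0) (hc : γ (α u) = 0) : ∃ c : k, α u = c • α (β (γ v)) := by
  obtain ⟨c₀, c₁, c₂, c₃, h⟩ := T.span hv hr u
  obtain ⟨h1, h2⟩ := T.soc hv h
  obtain ⟨h3, h4⟩ := h1 hb
  obtain ⟨-, h5⟩ := h2 hc
  exact ⟨c₃, by rw [h, h3, h4, h5, zero_smul, zero_smul, zero_smul, zero_add, zero_add, zero_add]⟩

theorem Tri.rank_le_two (T : Tri α β γ) (T' : Tri τ β γ) {v : V} (hv : α (β (γ v)) ≠ 0)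
    (ha : finrank k (LinearMap.range α) ≤ 4) (hb : finrank k (LinearMap.range β) ≤ 4)
    (hc : finrank k (LinearMap.range γ) ≤ 4) (ht : finrank k (LinearMap.range τ) ≤ 4)
    (hτ : ∀ u, τ u = δ u + α u + δ (α u)) (da : ∀ u, δ (α u) = α (δ u)) (db : ∀ u, δ (β u) = β (δ u))
    (dc : ∀ u, δ (γ u) = γ (δ u)) (dab : ∀ u, δ (α (β u)) = 0) (dac : ∀ u, δ (α (γ u)) = 0)
    (dbc : ∀ u, δ (β (γ u)) = 0) : finrank k (LinearMap.range δ) ≤ 2 := by
  have hv₁ : β (α (γ v)) ≠ 0 := by rwa [T.ba]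
  have hv₂ : γ (α (β v)) ≠ 0 := by rwa [T.ca, T.cb]
  have hτv : τ (β (γ v)) = α (β (γ v)) := by rw [hτ, dbc, dab, zero_add, add_zero]
  obtain ⟨a, h1⟩ := T.soc' hv ha (u := δ v) (by rw [T.ba, ← db, ← da, dab]) (by rw [T.ca, ← dc, ← da, dac])
  obtain ⟨b, h2⟩ := T.swap₁.soc' hv₁ hb (u := δ v) (by rw [← db, ← da, dab]) (by rw [T.cb, ← dc, ← db, dbc])
  obtain ⟨c, h3⟩ := T.swap₂.soc' hv₂ hc (u := δ v) (by rw [← dc, ← da, dac]) (by rw [← dc, ← db, dbc])
  rw [← da] at h1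
  rw [← db, T.ba] at h2
  rw [← dc, T.ca, T.cb] at h3
  have key : LinearMap.range δ ≤ Submodule.span k {δ v, α (β (γ v))} := by
    rintro _ ⟨u, rfl⟩
    obtain ⟨c₀, c₁, c₂, c₃, e1⟩ := T.span hv ha u
    obtain ⟨u₁, hu₁⟩ : ∃ u₁, u₁ = u - (c₀ • v + c₁ • β v + c₂ • γ v + c₃ • β (γ v)) := ⟨_, rfl⟩
    have a1 : α u₁ = 0 := by simp only [hu₁, map_sub, map_add, map_smul, e1, sub_self]
    obtain ⟨d₀, d₁, d₂, d₃, e2⟩ := T.swap₁.span hv₁ hb u₁
    obtain ⟨f1, f2⟩ := (T.swap₁.soc hv₁ e2).1 (by rw [← T.ba, a1, map_zero])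
    rw [f1, f2, zero_smul, zero_smul, zero_add, add_zero] at e2
    obtain ⟨u₂, hu₂⟩ : ∃ u₂, u₂ = u₁ - (d₁ • α v + d₃ • α (γ v)) := ⟨_, rfl⟩
    have a2 : α u₂ = 0 := by simp only [hu₂, map_sub, map_add, map_smul, a1, T.aa, smul_zero, add_zero, sub_self]
    have b2 : β u₂ = 0 := by simp only [hu₂, map_sub, map_add, map_smul, e2, sub_self]
    obtain ⟨g, e3⟩ := T.swap₂.soc' hv₂ hc (u := u₂) (by rw [← T.ca, a2, map_zero]) (by rw [← T.cb, b2, map_zero])
    obtain ⟨u₃, hu₃⟩ : ∃ u₃, u₃ = u₂ - g • α (β v) := ⟨_, rfl⟩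
    have a3 : α u₃ = 0 := by simp only [hu₃, map_sub, map_smul, a2, T.aa, smul_zero, sub_self]
    have b3 : β u₃ = 0 := by simp only [hu₃, map_sub, map_smul, b2, T.ba, T.bb, map_zero, smul_zero, sub_self]
    have c3 : γ u₃ = 0 := by simp only [hu₃, map_sub, map_smul, e3, sub_self]
    obtain ⟨l, e4⟩ := T'.soc' (hτv ▸ hv) ht (u := u₃) (by rw [T'.ba, b3, map_zero]) (by rw [T'.ca, c3, map_zero])
    rw [hτv, hτ, a3, map_zero, add_zero, add_zero] at e4
    have e5 : u = u₃ + g • α (β v) + (d₁ • α v + d₃ • α (γ v)) + (c₀ • v + c₁ • β v + c₂ • γ v + c₃ • β (γ v)) := by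
      rw [hu₃, sub_add_cancel, hu₂, sub_add_cancel, hu₁, sub_add_cancel]
    refine Submodule.mem_span_pair.2 ⟨c₀, l + d₁ * a + c₁ * b + c₂ * c, ?_⟩
    rw [e5]
    simp only [map_add, map_smul, e4, dab, dac, dbc, h1, h2, h3, smul_zero, add_zero, add_smul, mul_smul]
    abel
  classical
  refine (Submodule.finrank_mono key).trans ?_
  have := finrank_span_finset_le_card (R := k) ({δ v, α (β (γ v))} : Finset V)
  rw [Set.finrank, Finset.coe_pair] at this
  exact this.trans Finset.card_le_two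

end four

section two

variable {Y : Type*} [Group Y] {V : Type*} [AddCommGroup V] [Module (ZMod 2) V] [Finite V]
  {ρ : Representation (ZMod 2) Y V}

/-- **an offender of order 16 on which the codimension of the elements is constant is cubic** -/
theorem cub_of_const {A : Subgroup Y} [Finite A] (hA : IsElementaryAbelian 2 A) (hc : Nat.card A = 16)
    (h8 : cod ρ A ≤ 8) (h3 : ∀ t ∈ A, t ≠ 1 → 3 ≤ cod ρ (zpowers t))
    (he : ∀ s ∈ A, ∀ t ∈ A, s ≠ 1 → t ≠ 1 → cod ρ (zpowers s) = cod ρ (zpowers t)) : Cub ρ A := by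
  by_contra hn
  obtain ⟨d, hd, hd1, h4, -, h5⟩ := rank_four hA hc h8 hn
  have h6 : ∀ t ∈ A, finrank (ZMod 2) (LinearMap.range (ρ t - 1)) ≤ 4 := fun t ht => by
    rw [← cod_zpowers]
    by_cases e : t = 1
    · rw [e, zpowers_one_eq_bot, cod_bot]; omega
    · rw [he t ht d hd e hd1]; omega
  have hT : ∀ a ∈ A, ∀ b ∈ A, ∀ c ∈ A, Tri (ρ a - 1) (ρ b - 1) (ρ c - 1) := fun a ha b hb c hc =>
    ⟨SpB.sq_zero (hA.2 a ha), SpB.sq_zero (hA.2 b hb), SpB.sq_zero (hA.2 c hc),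
      sub_one_comm (elemAb_comm hA hb ha), sub_one_comm (elemAb_comm hA hc ha), sub_one_comm (elemAb_comm hA hc hb)⟩
  unfold Cub at hn
  push Not at hn
  obtain ⟨a, ha, b, hb, c, hc, h7⟩ := hn
  obtain ⟨v, hv⟩ : ∃ v, (ρ a - 1) ((ρ b - 1) ((ρ c - 1) v)) ≠ 0 := by
    by_contra e
    push Not at e
    exact h7 (LinearMap.ext e)
  have h9 := (hT a ha b hb c hc).rank_le_two (δ := ρ d - 1) (hT _ (mul_mem hd ha) b hb c hc) hv (h6 a ha) (h6 b hb)
    (h6 c hc) (h6 _ (mul_mem hd ha)) (_root_.Cfsg.Agent.TwoF.Gen.mul_sub_one d a) (sub_one_comm (elemAb_comm hA hd ha))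
    (sub_one_comm (elemAb_comm hA hd hb)) (sub_one_comm (elemAb_comm hA hd hc)) (h5 a ha b hb) (h5 a ha c hc)
    (h5 b hb c hc)
  rw [← cod_zpowers] at h9
  have := h3 d hd hd1
  omega

theorem two_pow_mod {s : ℕ} (hs : s.Prime) (h2 : s ≠ 2) {x : Y} (hx : x ^ s = 1) :
    2 ^ cod ρ (zpowers x) % s = 1 % s := by
  have : Fact s.Prime := ⟨hs⟩
  have h := pow_cod_modEq (ρ := ρ) (s := s)
    (by rw [Nat.card_zmod]; exact fun e => h2 ((Nat.prime_dvd_prime_iff_eq hs Nat.prime_two).1 e))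
    (elemAb_isPGroup (elemAb_zpowers hx))
  rwa [Nat.card_zmod] at h

theorem dvd_of_pow_mod {s o c : ℕ} (ho : 0 < o) (h1 : 2 ^ o % s = 1 % s) (h2 : ∀ d < o, 2 ^ d % s = 1 % s → d = 0)
    (h : 2 ^ c % s = 1 % s) : o ∣ c := by
  refine Nat.dvd_of_mod_eq_zero (h2 _ (Nat.mod_lt _ ho) ?_)
  have h3 : 2 ^ (o * (c / o)) ≡ 1 [MOD s] := by
    have := Nat.ModEq.pow (c / o) (show 2 ^ o ≡ 1 [MOD s] from h1)
    rwa [one_pow, ← pow_mul] at this
  have h4 := h3.mul_right (2 ^ (c % o))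
  rw [one_mul, ← pow_add, Nat.div_add_mod] at h4
  exact h4.symm.trans h

theorem two_dvd_cod {x : Y} (hx : x ^ 3 = 1) : 2 ∣ cod ρ (zpowers x) :=
  dvd_of_pow_mod (s := 3) (by norm_num) (by norm_num) (by decide) (two_pow_mod Nat.prime_three (by norm_num) hx)

theorem four_dvd_cod {x : Y} (hx : x ^ 5 = 1) : 4 ∣ cod ρ (zpowers x) :=
  dvd_of_pow_mod (s := 5) (by norm_num) (by norm_num) (by decide) (two_pow_mod Nat.prime_five (by norm_num) hx)

theorem ten_dvd_cod {x : Y} (hx : x ^ 11 = 1) : 10 ∣ cod ρ (zpowers x) :=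
  dvd_of_pow_mod (s := 11) (by norm_num) (by norm_num) (by decide) (two_pow_mod (by norm_num) (by norm_num) hx)

theorem cases_eleven (hf : Function.Injective ρ) {x : Y} (hx : x ^ 11 = 1) (h1 : x ≠ 1) :
    cod ρ (zpowers x) = 10 ∨ 20 ≤ cod ρ (zpowers x) := by
  have h2 := ten_dvd_cod (ρ := ρ) hx
  have h3 := cod_pos hf (zpowers_ne_bot.2 h1)
  omega

theorem mem_normalizer_of_pow [Finite Y] {x y : Y} {n : ℕ} (h : y * x * y⁻¹ = x ^ n) :
    y ∈ normalizer (zpowers x : Set Y) := by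
  refine mem_normalizer_fintype ?_
  rintro _ ⟨m, rfl⟩
  rw [← conj_zpow, h]
  exact zpow_mem (pow_mem (mem_zpowers x) n) m

/-- the Frobenius group of order 55 -/
theorem five_ge [Finite Y] {x y : Y} (hx : x ^ 11 = 1) (h1 : x ≠ 1) (hy : y ^ 5 = 1) (h : y * x * y⁻¹ = x ^ 3) :
    4 * cod ρ (zpowers x) ≤ 5 * cod ρ (zpowers y) := by
  have : Fact (Nat.Prime 5) := ⟨Nat.prime_five⟩
  have : Fact (Nat.Prime 11) := ⟨by norm_num⟩
  have h2 : y * x ≠ x * y := fun e => by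
    rw [e, mul_inv_cancel_right] at h
    have h3 : x ^ 2 = 1 := by
      have : x ^ 2 * x = 1 * x := by rw [← pow_succ, ← h, one_mul]
      exact mul_right_cancel this
    apply h1
    calc x = x ^ 11 * x := by rw [hx, one_mul]
      _ = (x ^ 2) ^ 6 := by rw [← pow_succ, ← pow_mul]
      _ = 1 := by rw [h3, one_pow]
  exact frobenius_bound_elt (s := 11) (p := 5) (by norm_num) (orderOf_eq_prime hx h1) (by decide)
    (orderOf_eq_prime hy (by rintro rfl; exact h2 (by rw [one_mul, mul_one]))) (mem_normalizer_of_pow h) h2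

theorem cod_le_of_inv {s : ℕ} (hs : s.Prime) (h2 : s ≠ 2) {y t : Y} (hy : y ^ s = 1) (h : t * y * t⁻¹ = y⁻¹) :
    cod ρ (zpowers y) ≤ 2 * cod ρ (zpowers t) :=
  cod_le_of_inverts ((hs.odd_of_ne_two h2).of_dvd_nat (orderOf_dvd_of_pow_eq_one hy)) h

/-- an element of order `s` is trivial on a small section -/
theorem triv_of_lt {s n : ℕ} (hs : s.Prime) (h2 : s ≠ 2) (hn : ∀ d, 0 < d → d < n → 2 ^ d % s ≠ 1 % s) {y : Y}
    (hy : y ^ s = 1) {U W : Submodule (ZMod 2) V} (h : U ≤ W) (hU : Inv ρ (zpowers y) U) (hW : Inv ρ (zpowers y) W)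
    (hd : finrank (ZMod 2) W < finrank (ZMod 2) U + n) : ∀ w ∈ W, ρ y w - w ∈ U := by
  have : Fact s.Prime := ⟨hs⟩
  by_cases e : cm ρ W (zpowers y) ≤ U
  · exact fun w hw => e (mem_cm (mem_zpowers y) hw)
  · exact absurd (le_finrank_of_order (n := n)
      (by rw [Nat.card_zmod]; exact fun e => h2 ((Nat.prime_dvd_prime_iff_eq hs Nat.prime_two).1 e))
      (by rwa [Nat.card_zmod]) (elemAb_isPGroup (elemAb_zpowers hy)) h hU hW e) (not_le.2 hd)

theorem fix_of_five {y : Y} (hy : y ^ 5 = 1) {B : Subgroup Y} (h : y ∈ normalizer (B : Set Y))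
    (hd : finrank (ZMod 2) (fx ρ B) ≤ 3) : fx ρ B ≤ fx ρ (zpowers y) := fun w hw =>
  mem_fx_zpowers.2 (sub_eq_zero.1 (triv_of_lt (n := 4) Nat.prime_five (by norm_num)
    (fun d h1 h2 => by interval_cases d <;> norm_num) hy bot_le (inv_bot _) (inv_fx (zpowers_le.2 h))
    (by rw [finrank_bot]; omega) w hw))

/-- the dimension when an element of order 11 has codimension 10 -/
theorem dim_le_thirteen [Finite Y] (h11 : ¬ 11 ^ 2 ∣ Nat.card Y) (h1 : fx ρ ⊤ = ⊥) (h2 : cm ρ ⊤ ⊤ = ⊤) {d x : Y}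
    (hg : _root_.Subgroup.closure {d, x} = ⊤) (hd : d ^ 2 = 1) (hx : x ^ 11 = 1) (hx1 : x ≠ 1) (hp : (d * x) ^ 11 = 1)
    (hp1 : d * x ≠ 1) (hc : cod ρ (zpowers x) = 10) : finrank (ZMod 2) V ≤ 13 := by
  have : Fact (Nat.Prime 11) := ⟨by norm_num⟩
  have h3 := scott (ρ := ρ) (x := d) (y := x) (hg ▸ h1) (hg ▸ h2)
  have h4 := two_mul_cod_le (ρ := ρ) hd
  have h5 := cod_eq_of_order (ρ := ρ) h11 hp hp1 hx hx1
  omega

theorem closure_pow_eq_top {d x : Y} (hg : _root_.Subgroup.closure {d, x} = ⊤) (hx : x ^ 11 = 1) {l m : ℕ} (h : l * m % 11 = 1) :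
    closure {d, x ^ l} = ⊤ := by
  rw [eq_top_iff, ← hg, closure_le]
  rintro g (rfl | hg)
  · exact _root_.Subgroup.subset_closure (Or.inl rfl)
  · have h1 : (x ^ l) ^ m ∈ _root_.Subgroup.closure {d, x ^ l} := pow_mem (Subgroup.subset_closure (by simp)) m
    rw [show g = x from hg]
    rwa [← pow_mul, ← Nat.div_add_mod (l * m) 11, h, pow_add, pow_mul, hx, one_pow, one_mul, pow_one] at h1

theorem dim_le_of_gen (h1 : fx ρ ⊤ = ⊥) (h2 : cm ρ ⊤ ⊤ = ⊤) {d x : Y} (hg : _root_.Subgroup.closure {d, x} = ⊤) (hd : d ^ 2 = 1)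
    (hx : x ^ 11 = 1) {l m : ℕ} (h : l * m % 11 = 1) :
    3 * finrank (ZMod 2) V ≤ 2 * cod ρ (zpowers x) + 2 * cod ρ (zpowers (d * x ^ l)) := by
  have hg' := closure_pow_eq_top hg hx h
  have h3 := scott (ρ := ρ) (x := d) (y := x ^ l) (hg' ▸ h1) (hg' ▸ h2)
  have h4 := two_mul_cod_le (ρ := ρ) hd
  have h5 := XL.cod_pow_le (ρ := ρ) x l
  omega

theorem dim_le_twelve [Finite Y] (h5 : ¬ 5 ^ 2 ∣ Nat.card Y) (h11 : ¬ 11 ^ 2 ∣ Nat.card Y) (h1 : fx ρ ⊤ = ⊥)
    (h2 : cm ρ ⊤ ⊤ = ⊤) {d x y : Y} (hg : _root_.Subgroup.closure {d, x} = ⊤) (hd : d ^ 2 = 1) (hx : x ^ 11 = 1) (hx1 : x ≠ 1)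
    (hp : (d * x) ^ 11 = 1) (hp1 : d * x ≠ 1) {l m : ℕ} (h : l * m % 11 = 1) (hq : (d * x ^ l) ^ 5 = 1)
    (hq1 : d * x ^ l ≠ 1) (hy : y ^ 5 = 1) (hy1 : y ≠ 1) {n : ℕ} (hn : y * x * y⁻¹ = x ^ n)
    (hc : cod ρ (zpowers x) = 10) : finrank (ZMod 2) V ≤ 12 := by
  have : Fact (Nat.Prime 5) := ⟨Nat.prime_five⟩
  have h3 := dim_le_thirteen h11 h1 h2 hg hd hx hx1 hp hp1 hc
  have h4 := cod_add (ρ := ρ) (zpowers x)
  have h6 := Submodule.finrank_mono (fix_of_five (ρ := ρ) hy (mem_normalizer_of_pow hn) (by omega))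
  have h7 := cod_add (ρ := ρ) (zpowers y)
  have h8 := four_dvd_cod (ρ := ρ) hy
  have h9 := cod_eq_of_order (ρ := ρ) h5 hq hq1 hy hy1
  have h10 := dim_le_of_gen h1 h2 hg hd hx h
  omega

/-- two 2-groups normalised by elements of order 5 without common fixed vector -/
theorem off_or [Finite Y] [Nontrivial V] (hn : finrank (ZMod 2) V ≤ 12) {O D : Subgroup Y} (hO : IsPGroup 2 O)
    (hD : IsPGroup 2 D) (hDO : D ≤ normalizer (O : Set Y)) {y z : Y} (hy : y ^ 5 = 1) (hz : z ^ 5 = 1)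
    (h1 : y ∈ normalizer (O : Set Y)) (h2 : z ∈ normalizer (D : Set Y)) (h : fx ρ (_root_.Subgroup.closure {y, z}) = ⊥) :
    cod ρ O ≤ 8 ∨ cod ρ D ≤ 8 := by
  by_contra e
  have h3 := cod_add (ρ := ρ) O
  have h4 := cod_add (ρ := ρ) D
  have h5 := fix_of_five (ρ := ρ) hy h1 (by omega)
  have h6 := fix_of_five (ρ := ρ) hz h2 (by omega)
  have h7 := inf_fx_ne_bot (ρ := ρ) hO (inv_top _) top_ne_bot
  rw [top_inf_eq] at h7
  refine inf_fx_ne_bot hD (inv_fx hDO) h7 (eq_bot_iff.2 fun v hv => h ▸ mem_fx_closure.2 ?_)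
  rintro _ (rfl | rfl)
  · exact mem_fx_zpowers.1 (h5 hv.1)
  · exact mem_fx_zpowers.1 (h6 hv.2)

omit [Finite V] in
theorem off_of_le {B : Subgroup Y} [Finite B] (hB : IsElementaryAbelian 2 B) {r : ℕ} (hr : 0 < r)
    (h : 2 ^ r ≤ Nat.card B) (hc : cod ρ B ≤ 2 * r) : Off 2 ρ B := by
  refine ⟨hB, fun e => ?_, ?_⟩
  · rw [e, card_bot] at h
    have := Nat.one_lt_two_pow hr.ne'
    omega
  · calc 2 ^ cod ρ B ≤ 2 ^ (r * 2) := Nat.pow_le_pow_right (by norm_num) (by omega)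
      _ = (2 ^ r) ^ 2 := pow_mul _ _ _
      _ ≤ _ := Nat.pow_le_pow_left h 2

end two

/-! ### elementary abelian subgroups given by generators -/

theorem elemAb_closure {Y : Type*} [Group Y] {p : ℕ} {S : Set Y} (hc : ∀ a ∈ S, ∀ b ∈ S, a * b = b * a)
    (hp : ∀ a ∈ S, a ^ p = 1) : IsElementaryAbelian p (_root_.Subgroup.closure S) := by
  have h1 : ∀ a ∈ _root_.Subgroup.closure S, ∀ b ∈ closure S, a * b = b * a := fun a ha b hb =>
    (mem_centralizer_iff.1 ((closure_le _).2 (fun x hx => mem_centralizer_iff.2 fun y hy =>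
      (mem_centralizer_iff.1 ((closure_le (centralizer {x})).2 (fun z hz => mem_centralizer_iff.2 (by
        rintro _ rfl; exact hc _ hx _ hz)) hy) x rfl).symm) hb : b ∈ centralizer (closure S : Set Y)) a ha)
  refine elemAb_of h1 fun a ha => ?_
  induction ha using closure_induction with
  | mem g hg => exact hp g hg
  | one => exact one_pow _
  | mul a b ha hb h2 h3 => rw [Commute.mul_pow (h1 a ha b hb), h2, h3, one_mul]
  | inv a _ h2 => rw [inv_pow, h2, inv_one]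

theorem mem_normalizer_closure {Y : Type*} [Group Y] [Finite Y] {S : Set Y} {g : Y}
    (h : ∀ s ∈ S, g * s * g⁻¹ ∈ _root_.Subgroup.closure S) : g ∈ normalizer (closure S : Set Y) := by
  refine mem_normalizer_fintype fun a ha => ?_
  induction ha using closure_induction with
  | mem s hs => exact h s hs
  | one => simp
  | mul a b _ _ h2 h3 =>
    have := mul_mem h2 h3
    rwa [conj_mul] at this
  | inv a _ h2 =>
    have := inv_mem h2
    rwa [conj_inv] at this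

/-! ### covers with a centre of exponent 3 -/

/-- a central extension whose kernel has exponent 3 -/
structure Cv {K S : Type*} [Group K] [Group S] (π : K →* S) : Prop where
  surj : Function.Surjective π
  cent : ∀ z, π z = 1 → ∀ g, z * g = g * z
  exp : ∀ z, π z = 1 → z ^ 3 = 1

namespace Cv

variable {K S : Type*} [Group K] [Group S] {π : K →* S} (C : Cv π)
include C

theorem uniq {n : ℕ} (hn : n.Coprime 3) {a b : K} (h : π a = π b) (ha : a ^ n = 1) (hb : b ^ n = 1) : a = b := by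
  have h1 : π (a * b⁻¹) = 1 := by rw [map_mul, map_inv, h, mul_inv_cancel]
  have h2 : (a * b⁻¹) ^ n = 1 := by
    have h3 := Commute.mul_pow (C.cent _ h1 b) n
    rwa [inv_mul_cancel_right, ha, hb, mul_one, eq_comm] at h3
  have h4 := pow_gcd_eq_one.2 ⟨h2, C.exp _ h1⟩
  rw [hn, pow_one] at h4
  exact mul_inv_eq_one.1 h4

theorem lift {n : ℕ} (m : ℕ) (hm : 3 * m % n = 1 % n) {s : S} (hs : s ^ n = 1) : ∃ a, π a = s ∧ a ^ n = 1 := by
  obtain ⟨w, rfl⟩ := C.surj s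
  refine ⟨w ^ (3 * m), ?_, ?_⟩
  · rw [map_pow, pow_eq_pow_mod _ hs, hm, ← pow_eq_pow_mod _ hs, pow_one]
  · rw [← pow_mul, show 3 * m * n = n * 3 * m by ring, pow_mul, pow_mul, C.exp _ (by rw [map_pow, hs]), one_pow]

end Cv

/-- the data `11:5` and `D10` -/
def Dat (S : Type*) [Group S] : Prop :=
  ∃ x y t : S, x ^ 11 = 1 ∧ x ≠ 1 ∧ y ^ 5 = 1 ∧ y * x * y⁻¹ = x ^ 3 ∧ t ^ 2 = 1 ∧ t ≠ 1 ∧ t * y * t⁻¹ = y⁻¹

theorem Cv.dat {K S : Type*} [Group K] [Group S] {π : K →* S} (C : Cv π) (h : Dat S) : Dat K := by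
  obtain ⟨x, y, t, h1, h2, h3, h4, h5, h6, h7⟩ := h
  obtain ⟨x, rfl, g1⟩ := C.lift 4 (by norm_num) h1
  obtain ⟨y, rfl, g3⟩ := C.lift 2 (by norm_num) h3
  obtain ⟨t, rfl, g5⟩ := C.lift 1 (by norm_num) h5
  refine ⟨x, y, t, g1, fun e => h2 (by rw [e, map_one]), g3, ?_, g5, fun e => h6 (by rw [e, map_one]), ?_⟩
  · refine C.uniq (n := 11) (by norm_num) (by simpa only [_root_.map_mul, _root_.map_inv, _root_.map_pow] using h4) (by rw [conj_pow, g1, mul_one, mul_inv_cancel]) ?_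
    rw [← pow_mul, mul_comm, pow_mul, g1, one_pow]
  · exact C.uniq (n := 5) (by norm_num) (by simpa only [_root_.map_mul, _root_.map_inv] using h7) (by rw [conj_pow, g3, mul_one, mul_inv_cancel])
      (by rw [inv_pow, g3, inv_one])

/-- one class of involutions -/
def OneCl (S : Type*) [Group S] : Prop := ∀ s t : S, s ^ 2 = 1 → s ≠ 1 → t ^ 2 = 1 → t ≠ 1 → IsConj s t

theorem Cv.ne_one {K S : Type*} [Group K] [Group S] {π : K →* S} (C : Cv π) {n : ℕ} (hn : n.Coprime 3) {s : K}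
    (hs : s ^ n = 1) (h : s ≠ 1) : π s ≠ 1 := fun e => h (C.uniq hn (e.trans (map_one π).symm) hs (one_pow n))

theorem Cv.oneCl {K S : Type*} [Group K] [Group S] {π : K →* S} (C : Cv π) (h : OneCl S) : OneCl K := by
  intro s t h1 h2 h3 h4
  obtain ⟨g, hg⟩ := isConj_iff.1 (h (π s) (π t) (by rw [← map_pow, h1, map_one]) (C.ne_one (by norm_num) h1 h2)
    (by rw [← map_pow, h3, map_one]) (C.ne_one (by norm_num) h3 h4))
  obtain ⟨g, rfl⟩ := C.surj g
  exact isConj_iff.2 ⟨g, C.uniq (n := 2) (by norm_num) (by simpa only [_root_.map_mul, _root_.map_inv] using hg)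
    (by rw [conj_pow, h1, mul_one, mul_inv_cancel]) h3⟩

section

variable {Y : Type*} [Group Y] [Finite Y] {V : Type*} [AddCommGroup V] [Module (ZMod 2) V] [Finite V]
  {ρ : Representation (ZMod 2) Y V}

omit [Finite Y] [Finite V] in
theorem cod_eq_of_isConj {s t : Y} (h : IsConj s t) : cod ρ (zpowers s) = cod ρ (zpowers t) := by
  obtain ⟨g, rfl⟩ := isConj_iff.1 h
  exact (cod_zpowers_conj g s).symm

/-- one class of involutions and rank at most four: every offender is cubic -/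
theorem cub_of_oneCl (hf : Function.Injective ρ) (hD : Dat Y) (hO : OneCl Y) {A : Subgroup Y} (hA : Off 2 ρ A)
    (hc : Nat.card A ≤ 16) : Cub ρ A := by
  obtain ⟨r, -, h1, h2⟩ := hA.exists_card
  by_cases hr : r ≤ 3
  · exact hA.cub (h1 ▸ Nat.pow_le_pow_right (by norm_num) hr)
  have h3 : r ≤ 4 := (Nat.pow_le_pow_iff_right (by norm_num : 1 < 2)).1 (h1 ▸ hc)
  obtain rfl : r = 4 := by omega
  obtain ⟨x, y, t, g1, g2, g3, g4, g5, g6, g7⟩ := hD
  have h4 := cases_eleven hf g1 g2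
  have h5 := five_ge (ρ := ρ) g1 g2 g3 g4
  have h6 := cod_le_of_inv (ρ := ρ) Nat.prime_five (by norm_num) g3 g7
  refine cub_of_const hA.1 h1 h2 (fun s hs hs1 => ?_) fun s hs u hu hs1 hu1 =>
    cod_eq_of_isConj (hO s u (hA.1.2 s hs) hs1 (hA.1.2 u hu) hu1)
  rw [cod_eq_of_isConj (hO s t (hA.1.2 s hs) hs1 g5 g6)]
  omega

end

/-! ### rows -/

section rows

variable {p : ℕ} [Fact p.Prime] {S : Type} [Group S]

theorem card_map_π {Y : Type} [Group Y] [Finite Y] {V : Type} [AddCommGroup V] [Module (ZMod p) V] {K : Subgroup Y}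
    {ρ : Representation (ZMod p) Y V} {π : K →* S} {φ : Y →* MulAut S} (H : Sit p K ρ π φ) {A : Subgroup Y}
    (hA : IsElementaryAbelian p A) (h : A ≤ K) :
    IsElementaryAbelian p ((A.subgroupOf K).map π) ∧ Nat.card ((A.subgroupOf K).map π) = Nat.card A := by
  have h1 : IsElementaryAbelian p (A.subgroupOf K) :=
    elemAb_of (fun a ha b hb => Subtype.ext (elemAb_comm hA ha hb)) fun a ha => Subtype.ext (hA.2 _ ha)
  refine ⟨elemAb_map h1 π, ?_⟩
  rw [← Nat.card_congr (subgroupOfEquivOfLe h).toEquiv]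
  exact Nat.card_image_of_injOn (injOn_of_not_dvd π (by rw [H.ker_π]; exact H.cop) (elemAb_isPGroup h1))

/-- small rank of `S` itself, `p` prime to the order of the outer automorphism group -/
theorem row_of_card (ho : ¬ p ∣ Nat.card (Out S))
    (h : ∀ E : Subgroup S, IsElementaryAbelian p E → Nat.card E ≤ p ^ small p) : Row p S := by
  refine ⟨row88_of_sit fun Y _ _ V _ _ _ K ρ π φ H A hA => ⟨A, hA, hA.cub ?_⟩, row89_of_not_dvd ho⟩
  obtain ⟨h1, h2⟩ := card_map_π H hA.1 (H.toFrm.le_of_not_dvd (elemAb_isPGroup hA.1) ho)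
  exact h2 ▸ h _ h1

end rows

end Cfsg.Agent.TwoF.SpA
end
end
end
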