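import Cfsg.Agent.TwoF.XS.S62.Main_mg_m3
import Cfsg.Agent.TwoF.XE.LB
import Cfsg.Agent.H326.F4C.Cover_mg
import Cfsg.Agent.H134.Syl.F4TwoMain_m3
import Cfsg.Agent.F42.AllSys_m3
import Cfsg.Agent.S2104
import Cfsg.Agent.H92.ExcG24
import Cfsg.Agent.S2102
import Cfsg.Agent.S1055
import Cfsg.Agent.Lib.ListFast
import Cfsg.Agent.TwoF.Alt.Step_mg_m3
import Cfsg.Agent.TwoF.DC.Pow.Main_m3
import Cfsg.Agent.TwoF.DC.Close
import Cfsg.Agent.H392.TwFFour.Bound
import Cfsg.Agent.H315.TwF.Main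
import Cfsg.Agent.TwoF.Gen.BLay_m3
import Cfsg.Agent.TwoF.XE.Wt_m3
import Cfsg.Agent.S2114
import Cfsg.Agent.S2128
import Cfsg.Agent.H47.Kill
import Cfsg.Agent.StdAlt.Six.AutLemmas
import Cfsg.Agent.Mrg.Omega.ML.InOf
import Cfsg.Agent.S2116
import Cfsg.Agent.S0252
import Cfsg.Agent.S0256
import Cfsg.Agent.Lib.PermCode
import Cfsg.Agent.KFacts.J3
import Cfsg.Agent.KFacts.J3Sheet
import Cfsg.Agent.Mrg.Omega.ML.ExLow.NumX_m3
import Cfsg.Agent.Lib.FastPerm
import Cfsg.Agent.OddHalf.D9.EEight.Id.InnerCore_m3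
import Cfsg.Agent.S2067
import Cfsg.Agent.FastGrp
import Cfsg.Agent.Prune
set_option linter.all false

section
prune_inst 0x7fbcfdf9afb8bddfffff7e7faedcdffdf9acbfffe6dff9cbffe0e3ff8bdf4b0289e5f3890fe858fe1e96e09c10a87843fb7eceffeb6bdc7ffffd5ff45ffbee5fe5f7bd0871d48c3e0fbc2ffee3f0778e7f3fffffffffffffffffffffffffffbeffffffffffff

-- part: TwoF/XE/F42
section
prune_inst 0x4102065044422000000000512100020653400019000230001d1c003420a0fd76100822f0078101a0601e222a54079c00813000049420000002a008200411801a0842930c2b11c0c04340011c0f887100000000000000000000000000000041000000000000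
set_option linter.all false
open scoped Cfsg.Agent.FastGrp

/-!
# TwoF / XE : the box of the groups `F₄(q)` (helper4)
-/

set_option autoImplicit false
set_option maxRecDepth 100000

namespace Cfsg.Agent.TwoF.XE

open Subgroup Gen
open scoped commutatorElement

section Rank

variable {p : ℕ} [Fact p.Prime]

theorem card_le_of_inner {S : Type} [Group S] (hS : center S = ⊥) (ho : ¬ p ∣ Nat.card (Out S)) {N : ℕ}
    (h : ∀ E : Subgroup S, IsElementaryAbelian p E → Nat.card E ≤ N) (E : Subgroup (MulAut S))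
    (hE : IsElementaryAbelian p E) : Nat.card E ≤ N := by
  have hi : Function.Injective (MulAut.conj : S →* MulAut S) :=
    (injective_iff_map_eq_one _).2 fun _ => (conj_eq_one_iff hS).1
  have h1 : E ≤ (MulAut.conj : S →* MulAut S).range := fun α hα => by
    by_cases e : α = 1
    · exact e ▸ one_mem _
    · obtain ⟨x, rfl, -⟩ := exists_inner hS ho e (hE.2 α hα)
      exact ⟨x, rfl⟩
  rw [← map_comap_eq_self h1, card_map_of_injective hi]
  exact h _ (elemAb_of (fun a ha b hb => hi (by rw [map_mul, map_mul]; exact elemAb_comm hE ha hb))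
    fun a ha => hi (by rw [map_pow, map_one]; exact hE.2 _ ha))

/-- a `p`-group without abelian subgroups of index `p` -/
theorem not_comm_of_index {R : Type*} [Group R] [Finite R] (hR : IsPGroup p R) {a b a' b' v w : R}
    (h1 : ⁅a, b⁆ * v = v * ⁅a, b⁆) (h2 : ⁅a', b'⁆ * v ≠ v * ⁅a', b'⁆) (h3 : ⁅a, b⁆ * w ≠ w * ⁅a, b⁆) {E : Subgroup R}
    (hc : ∀ x ∈ E, ∀ y ∈ E, x * y = y * x) : ¬ E.index ∣ p := fun hi => by
  rcases (Nat.dvd_prime Fact.out).1 hi with e | e
  · rw [index_eq_one] at e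
    exact h3 (hc _ (e ▸ mem_top _) _ (e ▸ mem_top _))
  obtain ⟨n, hn⟩ := hR.exists_card_eq
  have hn0 : n ≠ 0 := by
    rintro rfl
    have := E.index_dvd_card
    rw [e, hn, pow_zero, Nat.dvd_one] at this
    exact (Fact.out : p.Prime).one_lt.ne' this
  have : E.Normal := normal_of_index_eq_minFac_card (by rw [e, hn, (Fact.out : p.Prime).pow_minFac hn0])
  have : IsCyclic (R ⧸ E) := isCyclic_of_prime_card (p := p) e
  have h4 : commutator R ≤ E := Normal.quotient_commutative_iff_commutator_le.1 inferInstance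
  have h5 : ∀ x y : R, ⁅x, y⁆ ∈ E := fun x y => h4 (commutator_mem_commutator (mem_top x) (mem_top y))
  have h6 : E ≤ centralizer {⁅a, b⁆} := fun x hx => mem_centralizer_singleton_iff.2 (hc _ hx _ (h5 a b))
  have h7 := relIndex_mul_index h6
  rw [e] at h7
  rcases (Nat.dvd_prime Fact.out).1 (Dvd.intro _ h7) with e' | e'
  · rw [relIndex_eq_one] at e'
    exact h2 (hc _ (h5 a' b') _ (e' (mem_centralizer_singleton_iff.2 h1.symm)))
  · rw [e', mul_eq_left₀ (Fact.out : p.Prime).ne_zero, index_eq_one] at h7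
    exact h3 (mem_centralizer_singleton_iff.1 (h7 ▸ mem_top w)).symm

theorem card_le_of_comm {G : Type*} [Group G] [Finite G] {R : Subgroup G} {n : ℕ} (hR : Nat.card R = p ^ (n + 2))
    (hi : ¬ p ∣ R.index) {a b a' b' v w : G} (ha : a ∈ R) (hb : b ∈ R) (ha' : a' ∈ R) (hb' : b' ∈ R) (hv : v ∈ R)
    (hw : w ∈ R) (h1 : ⁅a, b⁆ * v = v * ⁅a, b⁆) (h2 : ⁅a', b'⁆ * v ≠ v * ⁅a', b'⁆) (h3 : ⁅a, b⁆ * w ≠ w * ⁅a, b⁆)
    (E : Subgroup G) (hE : IsElementaryAbelian p E) : Nat.card E ≤ p ^ n := by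
  obtain ⟨g, hg⟩ := exists_conj_le (IsPGroup.of_card hR) hi (elemAb_isPGroup hE)
  rw [← card_map_conj g]
  replace hE := elemAb_map hE (MulAut.conj g).toMonoidHom
  generalize E.map (MulAut.conj g).toMonoidHom = E' at *
  obtain ⟨r, hr⟩ := (elemAb_isPGroup hE).exists_card_eq
  rw [hr]
  refine Nat.pow_le_pow_right (Fact.out : p.Prime).pos (le_of_not_gt fun e => ?_)
  refine not_comm_of_index (IsPGroup.of_card hR) (a := ⟨a, ha⟩) (b := ⟨b, hb⟩) (a' := ⟨a', ha'⟩) (b' := ⟨b', hb'⟩)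
    (v := ⟨v, hv⟩) (w := ⟨w, hw⟩) (Subtype.ext h1) (fun e => h2 (congrArg Subtype.val e))
    (fun e => h3 (congrArg Subtype.val e)) (E := E'.subgroupOf R)
    (fun x hx y hy => Subtype.ext (elemAb_comm hE hx hy)) ?_
  have h4 := (E'.subgroupOf R).card_mul_index
  rw [hR, Nat.card_congr (subgroupOfEquivOfLe hg).toEquiv, hr] at h4
  obtain ⟨k, rfl⟩ := Nat.exists_eq_add_of_lt e
  rw [add_right_comm, pow_add, mul_assoc, pow_succ p (n + 1)] at h4
  exact Dvd.intro_left _ (mul_left_cancel₀ (pow_ne_zero _ (Fact.out : p.Prime).ne_zero) h4)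

end Rank

namespace F42

open Cfsg.Lie ChevalleyStructure.TwF4.Bits FourTwo.RankInv FourTwo.Base H326.F4C H134.Syl.F4

theorem wd_ne {w w' : List ℕ} (h : (okw w && okw w' && wordM w % 2 ^ 2704 != wordM w' % 2 ^ 2704) = true) :
    wd w ≠ wd w' := fun e => by
  rw [Bool.and_eq_true, Bool.and_eq_true, bne_iff_ne] at h
  refine h.2 (Nat.eq_of_testBit_eq fun i => ?_)
  rw [Nat.testBit_mod_two_pow, Nat.testBit_mod_two_pow]
  by_cases hi : i < 2704
  · rw [testBit_of_sem (M := wordM w) (M' := wordM w') (by rw [← coe_wd_sem h.1.1, ← coe_wd_sem h.1.2, e]) hi]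
  · simp [hi]

theorem wd_eq' {w w' : List ℕ} (h : (okw w && okw w' && eqM w w') = true) : wd w = wd w' := by
  rw [Bool.and_eq_true, Bool.and_eq_true] at h
  exact wd_eq_of h.1.1 h.1.2 h.2

theorem card_S : Nat.card LL = 3311126603366400 := FourTwo.Perf.card_LL

theorem center_S : center LL = ⊥ :=
  haveI : IsSimpleGroup LL := (S1054.result (F := ZMod 2) chevF4 (by simp)).1
  center_eq_bot LL (by rw [card_S]; norm_num)

theorem card_out : Nat.card (Out LL) = 2 := S2122.result (F := ZMod 2) 2 1 (by simp)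

theorem card_A : Nat.card (MulAut LL) = 6622253206732800 := by rw [card_aut center_S, card_S, card_out]

/-- the product of `w` and a conjugate has order 17 -/
def ok17 (w g : List ℕ) : Bool :=
  (fun u => (okw u && okw [] && wordM u % 2 ^ 2704 != wordM [] % 2 ^ 2704) && (okw (rpw u 17) && okw [] &&
    eqM (rpw u 17) [])) (w ++ (g ++ w ++ g.reverse))

theorem li_ok {p : ℕ} [Fact p.Prime] (hp : p = 3 ∨ p = 5 ∨ p = 7) {w : List ℕ} (g : List ℕ) (h : ok17 w g = true) :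
    Li p (wd w) 8 := by
  rw [ok17, Bool.and_eq_true] at h
  have h1 := wd_ne h.1
  have h2 := wd_eq' h.2
  rw [wd_rpw] at h2
  rw [wd_append, wd_append, wd_append, FourTwo.Facts2.wd_reverse, wd_nil] at h1 h2
  exact Li.two (wd g) (Li.of_prime (s := 17) (n := 16) center_S (by norm_num) (by omega) h1 h2 fun d _ _ => by
    rcases hp with rfl | rfl | rfl <;> interval_cases d <;> norm_num) (by norm_num)

theorem filter3 : (W16.filter fun p => p.1 % 3 == 0) = [(3, [20, 27]), (3, [22, 25]), (3, [23, 24, 20, 27]),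
    (9, [23, 25, 24, 22, 25, 20, 27]), (15, [24, 23, 25, 22, 20, 27]), (9, [14, 27, 33, 20, 27, 22, 25]),
    (15, [33, 14, 27, 20, 22, 25]), (21, w21), (21, w21')] := by decide +kernel

theorem li_three [Fact (Nat.Prime 3)] {x : LL} (h1 : x ≠ 1) (h2 : x ^ 3 = 1) : Li 3 x 8 := by
  obtain ⟨q, hq, h⟩ := exists_of_order (fun f h1 h2 _ hg => H197.Reg.exists_conj16 f h1 h2 hg) rfl
    (orderOf_eq_prime h2 h1)
  refine Li.of_isConj ?_ h
  rw [filter3] at hq
  simp only [List.mem_cons, List.not_mem_nil, or_false] at hq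
  rcases hq with rfl | rfl | rfl | rfl | rfl | rfl | rfl | rfl | rfl
  · exact li_ok (.inl rfl) [8, 45, 25, 10, 0] (by decide +kernel)
  · exact li_ok (.inl rfl) [38, 23, 22, 15, 13] (by decide +kernel)
  · exact li_ok (.inl rfl) [18, 5, 38] (by decide +kernel)
  · exact li_ok (.inl rfl) [9, 47] (by decide +kernel)
  · exact li_ok (.inl rfl) [39, 4] (by decide +kernel)
  · exact li_ok (.inl rfl) [39, 21] (by decide +kernel)
  · exact li_ok (.inl rfl) [39, 21] (by decide +kernel)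
  · exact li_ok (.inl rfl) [26, 0] (by decide +kernel)
  · exact li_ok (.inl rfl) [34, 3] (by decide +kernel)

theorem rank_three [Fact (Nat.Prime 3)] : ∀ E : Subgroup LL, IsElementaryAbelian 3 E → Nat.card E ≤ 3 ^ 4 := by
  have m2 : wd g2 ∈ R := subset_closure (by simp [S6, S5, S4, S3, S2])
  have m5 : wd g5 ∈ R := subset_closure (by simp [S6, S5])
  have m6 : wd g6 ∈ R := subset_closure (by simp [S6])
  refine card_le_of_comm (R := R) card_R (fun hd => ?_) m2 m5 m2 m6 m6 m5 ?_ ?_ ?_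
  · have h5 := R.card_mul_index
    rw [card_R, card_S] at h5
    omega
  all_goals simp only [commutatorElement_def, ← FourTwo.Facts2.wd_reverse, ← wd_append]
  · exact wd_eq' (by decide +kernel)
  · exact wd_ne (by decide +kernel)
  · exact wd_ne (by decide +kernel)

theorem row88 (p : ℕ) [hp : Fact p.Prime] (h2 : p ≠ 2) : Row88 p LL := by
  by_cases h3 : p = 3
  · subst h3
    have ho : ¬ 3 ∣ Nat.card (Out LL) := by rw [card_out]; norm_num
    refine row88_three fun E hE r _ hc => .inr fun d hd h1 => ?_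
    have h4 := (Nat.pow_le_pow_iff_right (by norm_num)).1 (hc ▸ card_le_of_inner center_S ho rank_three E hE)
    obtain ⟨x, rfl, h5, h6⟩ := exists_inner center_S ho h1 (hE.2 d hd)
    exact (li_three h5 h6).le (by omega)
  by_cases h5 : p = 5
  · subst h5
    refine row88_of_sylow' (by rw [card_A]; decide) (x := wd [22, 25, 20, 27]) ?_
      ((li_ok (.inr (.inl rfl)) [13, 45, 9] (by decide +kernel)).le (by decide))
    rw [← wd_rpw, ← wd_nil]
    exact wd_eq' (by decide +kernel)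
  by_cases h7 : p = 7
  · subst h7
    refine row88_of_sylow' (by rw [card_A]; decide) (x := wd [24, 23, 22, 25]) ?_
      ((li_ok (.inr (.inr rfl)) [36, 28, 8] (by decide +kernel)).le (by decide))
    rw [← wd_rpw, ← wd_nil]
    exact wd_eq' (by decide +kernel)
  refine row88_of_not_dvd fun e => ?_
  rw [card_A, small_of_ne h2 h3] at e
  have h4 := (Nat.mem_primeFactorsList (by norm_num)).2 ⟨hp.out, (dvd_pow_self p two_ne_zero).trans e⟩
  simp only [Nat.primeFactorsList_ofNat, List.mem_cons, List.not_mem_nil, or_false, h2, h3, h5, h7, false_or] at h4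
  rcases h4 with rfl | rfl <;> norm_num at e

theorem row (p : ℕ) [hp : Fact p.Prime] (h2 : p ≠ 2) : Row p LL :=
  ⟨row88 p h2, row89_of_not_dvd (by rwa [card_out, Nat.prime_dvd_prime_iff_eq hp.out Nat.prime_two])⟩

end F42

theorem boxF4 : Box fun K _ => Lie.IsoF4 K := boxF4_of (fun p _ F _ _ hF hp =>
  (F42.row p hp).of_equiv (ChevalleyStructure.FieldIso.groupEquiv Lie.chevF4
    (FiniteField.ringEquivOfCardEq (by rw [ZMod.card, hF]) : ZMod 2 ≃+* F)).symm) fun F _ _ => LB.f4_three F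

end Cfsg.Agent.TwoF.XE

private theorem dce_634448c49bb8 : _root_.True := by
  try have : _root_.True := by simp only [_root_.Cfsg.Agent.H134.Syl.F4.S6.eq_1]
  try have : _root_.True := by simp only [_root_.Cfsg.Agent.H134.Syl.F4.S3.eq_1]
  try have : _root_.True := by simp only [_root_.Cfsg.Agent.H134.Syl.F4.S2.eq_1]
  try have : _root_.True := by simp only [_root_.Cfsg.Agent.H134.Syl.F4.S4.eq_1]
  try have : _root_.True := by simp only [_root_.Cfsg.Agent.TwoF.XE.F42.ok17.eq_1]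
  try have : _root_.True := by simp only [_root_.Cfsg.Agent.H134.Syl.F4.S5.eq_1]
  exact _root_.True.intro
end

-- part: TwoF/XE/G24
section
prune_inst 0x4200060044022000000000502300020651400019200230001f14002400a0ad72180826f0030301a16112222b560398048131000490200000000008a00411801a0842b5002b32c0104240011c0f886000000000000000000000000000000041000000000000
set_option linter.all false
open scoped Cfsg.Agent.FastGrp

/-!
# TwoF / XE : the row of `G₂(4)` (helper4)
-/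

set_option autoImplicit false
set_option maxRecDepth 100000

namespace Cfsg.Agent.TwoF.XE

open Subgroup Gen

/-- an extraspecial subgroup -/
theorem exists_not_elemAb {p : ℕ} [Fact p.Prime] {G : Type*} [Group G] [Finite G] {a b z : G} (ha : a ^ p = 1)
    (hb : b ^ p = 1) (hz : z ^ p = 1) (h1 : a * z = z * a) (h2 : b * z = z * b) (h3 : b * a = a * z * b) (h4 : z ≠ 1) :
    ∃ Q : Subgroup G, IsPGroup p Q ∧ ¬ IsElementaryAbelian p Q := by
  have ma : a ∈ zpowers z ⊔ zpowers a := mem_sup_right (mem_zpowers a)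
  have mz : z ∈ zpowers z ⊔ zpowers a := mem_sup_left (mem_zpowers z)
  refine ⟨zpowers b ⊔ (zpowers z ⊔ zpowers a), (elemAb_isPGroup (elemAb_zpowers hb)).to_sup_of_normal_right'
    (elemAb_isPGroup (elemAb_of (comm_sup_zpowers h1) (exp_sup_zpowers h1 ha hz)))
    (zpowers_le.2 (mem_normalizer_fintype fun x hx => ?_)), fun h => h4 ?_⟩
  · have h5 : zpowers z ⊔ zpowers a ≤ (zpowers z ⊔ zpowers a).comap (MulAut.conj b).toMonoidHom := by
      refine sup_le (zpowers_le.2 ?_) (zpowers_le.2 ?_)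
      · show b * z * b⁻¹ ∈ zpowers z ⊔ zpowers a
        rwa [h2, mul_inv_cancel_right]
      · show b * a * b⁻¹ ∈ zpowers z ⊔ zpowers a
        rw [h3, mul_inv_cancel_right]
        exact mul_mem ma mz
    exact h5 hx
  · rw [elemAb_comm h (mem_sup_left (mem_zpowers b)) (mem_sup_right ma), mul_left_inj, left_eq_mul] at h3
    exact h3

namespace G24

open Cfsg.Lie SporRec.GF4 SporRec.G24Code SporRec.G24Mat H92.ExcG24

/-- words -/
abbrev Wd : Type := List (Fin 12 × Fin 3)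

/-- the element of a word -/
def w (l : Wd) : chevG2.group F4 := ⟨gw l, gw_mem l⟩

theorem w_nil : w [] = 1 := rfl

theorem w_append (l l' : Wd) : w (l ++ l') = w l * w l' := Subtype.ext (by
  show gw (l ++ l') = gw l * gw l'
  rw [gw, List.map_append, List.prod_append, gw, gw])

theorem w_reverse (l : Wd) : w l.reverse = (w l)⁻¹ := by
  induction l with
  | nil => exact inv_one.symm
  | cons q l ih =>
    rw [List.reverse_cons, w_append, ih, show w (q :: l) = w [q] * w l from w_append [q] l, mul_inv_rev, mul_right_inj,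
      eq_inv_iff_mul_eq_one]
    refine Subtype.ext (Units.ext ?_)
    show ((gx q.1 q.2 * 1) * (gx q.1 q.2 * 1) : GL J F4).1 = 1
    rw [mul_one]
    exact xm_mul_self _ _

/-- repetition -/
def rp (l : Wd) (n : ℕ) : Wd := Nat.rec [] (fun _ u => l ++ u) n

theorem w_rp (l : Wd) (n : ℕ) : w (rp l n) = w l ^ n := by
  induction n with
  | zero => rfl
  | succ n ih => rw [pow_succ', ← ih, ← w_append]; rfl

/-- equality of words -/
def eqw (l l' : Wd) : Bool := (List.range 14).all fun p => appL (cw l) (4 ^ p) == appL (cw l') (4 ^ p)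

theorem w_eq {l l' : Wd} (h : eqw l l' = true) : w l = w l' := Subtype.ext
  (prod_eq_of_check (forall2 l) (forall2 l') fun p hp => beq_iff_eq.1 (List.all_eq_true.1 h p (List.mem_range.2 hp)))

theorem w_ne {l l' : Wd} (h : eqw l l' = false) : w l ≠ w l' := fun e => by
  rw [← Bool.not_eq_true] at h
  refine h (List.all_eq_true.2 fun p hp => beq_iff_eq.2 ?_)
  obtain ⟨h1, h2⟩ := appL_spec (forall2 l) (four_lt (List.mem_range.1 hp))
  obtain ⟨h3, h4⟩ := appL_spec (forall2 l') (four_lt (List.mem_range.1 hp))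
  have h5 : gw l = gw l' := congrArg Subtype.val e
  exact dec_inj h1 h3 (by rw [h2, h4]; exact congrArg (fun g : GL J F4 => g.1.mulVec (dec (4 ^ p))) h5)

theorem card_F : Fintype.card F4 = 4 := rfl

theorem card_S : Nat.card (chevG2.group F4) = 251596800 := S1059.result card_F

theorem fin_S : Finite (chevG2.group F4) := Nat.finite_of_card_ne_zero (by rw [card_S]; norm_num)

theorem card_out : Nat.card (Out (chevG2.group F4)) = 2 :=
  haveI : CharP F4 2 := charP_of_card_eq_prime_pow (p := 2) (f := 2) card_F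
  S2121.result (F := F4) 2 2 card_F (by norm_num)

theorem center_S : center (chevG2.group F4) = ⊥ :=
  haveI := fin_S
  haveI := (S1055.result (F := F4) ⟨F4.w, by decide, by decide⟩).1
  center_eq_bot _ (by rw [card_S]; norm_num)

theorem card_A : Nat.card (MulAut (chevG2.group F4)) = 503193600 := by
  have := fin_S
  rw [card_aut center_S, card_S, card_out]

private noncomputable def _root_.Cfsg.Agent.LsF.f9a89c6_0 : {f // @Cfsg.Agent.SporRec.G24Code.app = f} := ⟨_, by first | (delta Cfsg.Agent.SporRec.G24Code.app List.brecOn List.brecOn.go Cfsg.Agent.SporRec.G24Code.app._f; rewrite [Cfsg.Agent.LsF.nmul_pat, Cfsg.Agent.LsF.ndiv_pat, Cfsg.Agent.LsF.nmod_pat, Cfsg.Agent.LsF.nxor_pat]; (try delta Cfsg.Agent.SporRec.G24Code.app.match_1); (try delta List.casesOn); first | dsimp -zeta only | exact rfl) | exact rfl⟩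
private noncomputable def _root_.Cfsg.Agent.LsF.f9a89c6_1 : {f // @Cfsg.Agent.SporRec.G24Mat.appL = f} := ⟨_, by first | (delta Cfsg.Agent.SporRec.G24Mat.appL; rewrite [Cfsg.Agent.LsF.f9a89c6_0.2, Cfsg.Agent.LsF.foldr_eq]; exact rfl) | exact rfl⟩
private noncomputable def _root_.Cfsg.Agent.LsF.f9a89c6_2 : {f // @Cfsg.Agent.SporRec.G24Code.xc = f} := ⟨_, by first | (delta Cfsg.Agent.SporRec.G24Code.xc; rewrite [Cfsg.Agent.LsF.nadd_pat, Cfsg.Agent.LsF.nmul_pat, Cfsg.Agent.LsF.getD_eq]; exact rfl) | exact rfl⟩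
private noncomputable def _root_.Cfsg.Agent.LsF.f9a89c6_3 : {f // @Cfsg.Agent.H92.ExcG24.cw = f} := ⟨_, by first | (delta Cfsg.Agent.H92.ExcG24.cw; rewrite [Cfsg.Agent.LsF.f9a89c6_2.2, Cfsg.Agent.LsF.map_eq]; exact rfl) | exact rfl⟩
private noncomputable def _root_.Cfsg.Agent.LsF.f9a89c6_4 : {f // @Cfsg.Agent.TwoF.XE.G24.eqw = f} := ⟨_, by first | (delta Cfsg.Agent.TwoF.XE.G24.eqw; rewrite [Cfsg.Agent.LsF.f9a89c6_1.2, Cfsg.Agent.LsF.f9a89c6_3.2, Cfsg.Agent.LsF.npow_pat, Cfsg.Agent.LsF.nbeq_pat, Cfsg.Agent.LsF.all_eq, Cfsg.Agent.LsF.range_eq]; exact rfl) | exact rfl⟩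
private noncomputable def _root_.Cfsg.Agent.LsF.f9a89c6_5 : {f // @Cfsg.Agent.TwoF.XE.G24.rp = f} := ⟨_, by first | (delta Cfsg.Agent.TwoF.XE.G24.rp; rewrite [Cfsg.Agent.LsF.lappend_pat]; exact rfl) | exact rfl⟩
theorem li13 [Fact (Nat.Prime 5)] : ∀ x : chevG2.group F4, x ≠ 1 → x ^ 13 = 1 → Li 5 x 12 := by
  have := fin_S
  have h1 : w [(5, 0), (6, 0), (7, 0), (3, 1), (4, 1), (11, 1), (7, 0), (10, 1), (6, 0), (5, 0), (10, 1), (7, 0), (11, 1),
      (4, 1), (3, 1), (7, 0)] ^ 13 = 1 := by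
    rw [← w_rp, ← w_nil]
    exact w_eq (by ((try (rewrite [Cfsg.Agent.LsF.f9a89c6_4.2, Cfsg.Agent.LsF.f9a89c6_5.2])); decide +kernel))
  have h2 : w [(5, 0), (6, 0), (7, 0), (3, 1), (4, 1), (11, 1), (7, 0), (10, 1), (6, 0), (5, 0), (10, 1), (7, 0), (11, 1),
      (4, 1), (3, 1), (7, 0)] ≠ 1 := by
    rw [← w_nil]
    exact w_ne (by decide +kernel)
  refine li_rank_one_all (by norm_num) h1 h2 (by rw [card_S]; norm_num)
    (Li.of_rat (i := 3) (g := w [(6, 0), (5, 0)]) (zc_of_cyclic (S2102.result card_F)) (by norm_num) (by norm_num)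
      (by norm_num) h2 h1 ?_ (List.range 3 ×ˢ List.range 4) (by decide))
  rw [← w_rp, ← w_append, ← w_append]
  exact w_eq (by ((try (rewrite [Cfsg.Agent.LsF.f9a89c6_4.2, Cfsg.Agent.LsF.f9a89c6_5.2, Cfsg.Agent.LsF.lappend_pat])); decide +kernel))

theorem row88 (p : ℕ) [hp : Fact p.Prime] (h2 : p ≠ 2) : Row88 p (chevG2.group F4) := by
  have := fin_S
  by_cases h3 : p = 3
  · subst h3
    obtain ⟨Q, h4, h5⟩ := exists_not_elemAb (p := 3) (a := w [(6, 0), (5, 1), (6, 1), (5, 0)])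
      (b := w [(6, 0), (5, 0), (6, 0), (10, 0), (1, 0), (10, 0)])
      (z := (w [(6, 0), (5, 1), (6, 1), (5, 0)])⁻¹ * (w [(6, 0), (5, 0), (6, 0), (10, 0), (1, 0), (10, 0)] *
        w [(6, 0), (5, 1), (6, 1), (5, 0)] * (w [(6, 0), (5, 0), (6, 0), (10, 0), (1, 0), (10, 0)])⁻¹))
      (by rw [← w_rp, ← w_nil]; exact w_eq (by ((try (rewrite [Cfsg.Agent.LsF.f9a89c6_4.2, Cfsg.Agent.LsF.f9a89c6_5.2])); decide +kernel)))
      (by rw [← w_rp, ← w_nil]; exact w_eq (by ((try (rewrite [Cfsg.Agent.LsF.f9a89c6_4.2, Cfsg.Agent.LsF.f9a89c6_5.2])); decide +kernel)))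
      (by simp only [← w_reverse, ← w_append, ← w_rp]; rw [← w_nil]; exact w_eq (by ((try (rewrite [Cfsg.Agent.LsF.f9a89c6_4.2, Cfsg.Agent.LsF.f9a89c6_5.2, Cfsg.Agent.LsF.lappend_pat, Cfsg.Agent.LsF.reverse_eq])); decide +kernel)))
      (by simp only [← w_reverse, ← w_append]; exact w_eq (by ((try (rewrite [Cfsg.Agent.LsF.f9a89c6_4.2, Cfsg.Agent.LsF.lappend_pat, Cfsg.Agent.LsF.reverse_eq])); decide +kernel)))
      (by simp only [← w_reverse, ← w_append]; exact w_eq (by ((try (rewrite [Cfsg.Agent.LsF.f9a89c6_4.2, Cfsg.Agent.LsF.lappend_pat, Cfsg.Agent.LsF.reverse_eq])); decide +kernel))) (by group)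
      (by simp only [← w_reverse, ← w_append]; rw [← w_nil]; exact w_ne (by decide +kernel))
    exact row88_of_rank (card_le_of_inner center_S (by rw [card_out]; norm_num)
      (card_le_of_not_elemAb (by rw [card_S]; decide) h4 h5))
  by_cases h5 : p = 5
  · subst h5
    refine row88_of_sylow' (by rw [card_A]; decide) (x := w [(3, 0), (8, 1)]) ?_
      (Li.two (w [(6, 0), (9, 0)]) (li13 _ ?_ ?_) (by decide))
    all_goals
      simp only [← w_reverse, ← w_append, ← w_rp]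
      rw [← w_nil]
    · exact w_eq (by decide +kernel)
    · exact w_ne (by decide +kernel)
    · exact w_eq (by ((try (rewrite [Cfsg.Agent.LsF.f9a89c6_4.2, Cfsg.Agent.LsF.f9a89c6_5.2, Cfsg.Agent.LsF.lappend_pat, Cfsg.Agent.LsF.reverse_eq])); decide +kernel))
  refine row88_of_not_dvd fun e => ?_
  rw [card_A, small_of_ne h2 h3] at e
  have h4 := (Nat.mem_primeFactorsList (by norm_num)).2 ⟨hp.out, (dvd_pow_self p two_ne_zero).trans e⟩
  simp only [Nat.primeFactorsList_ofNat, List.mem_cons, List.not_mem_nil, or_false, h2, h3, h5, false_or] at h4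
  rcases h4 with rfl | rfl <;> norm_num at e

theorem row (p : ℕ) [hp : Fact p.Prime] (F : Type) [Field F] [Fintype F] (hF : Fintype.card F = 4) (h2 : p ≠ 2) :
    Row p (chevG2.group F) :=
  Row.of_equiv ⟨row88 p h2, row89_of_not_dvd (by rwa [card_out, Nat.prime_dvd_prime_iff_eq hp.out Nat.prime_two])⟩
    (ChevalleyStructure.FieldIso.groupEquiv chevG2
      (FiniteField.ringEquivOfCardEq (by rw [card_F, hF]) : F4 ≃+* F)).symm

end G24

end Cfsg.Agent.TwoF.XE

private theorem dce_89abf44baab5 : _root_.True := by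
  try have : _root_.True := by simp only [_root_.Cfsg.Agent.H92.ExcG24.gw.eq_1]
  exact _root_.True.intro
end

-- part: TwoF/XE/G2
section
set_option linter.all false

/-!
# TwoF / XE : the box of the groups `G₂(q)` (helper98)
-/

set_option autoImplicit false

namespace Cfsg.Agent.TwoF.XE

theorem boxG2 : Box fun K _ => Lie.IsoChevG2 K :=
  boxG2_of (fun p _ F _ _ => G23.row p F) (fun p _ F _ _ => G24.row p F) (fun p _ F _ _ => LB.g2_57 p F)
    fun F _ _ => LB.g2_nine F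

end Cfsg.Agent.TwoF.XE
end

-- part: TwoF/DC/TA/Rows
section
set_option linter.all false

/-!
# TwoF, defining characteristic, type `A_n` (11): the rows `PSL`, `PSU` (helper97)
-/

set_option autoImplicit false

namespace Cfsg.Agent.TwoF.DC.TA

theorem tbox_psl (h : BoxStd) : TBox fun p S _ => IsPSLChar p S :=
  fun p _ S _ _ _ hS => row_psl h boxComb I.boxL p S hS

theorem tbox_psu (h : BoxStd) : TBox fun p S _ => IsPSUChar p S :=
  fun p _ S _ _ _ hS => row_psu h boxComb I.boxU p S hS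

theorem psl : TBox fun p S _ => IsPSLChar p S := tbox_psl (boxStd_pow Pw.boxPow)

theorem psu : TBox fun p S _ => IsPSUChar p S := tbox_psu (boxStd_pow Pw.boxPow)

end Cfsg.Agent.TwoF.DC.TA
end

-- part: TwoF/DC/TFG/F2/Main_mg
section
prune_inst 0x2000000000000000000010000000000000000000000000008000000000000000004800000000020020000000000000000000000000000000000000000000000000000000000000000000000000000000000000000000000000000000000000000000000
set_option linter.all false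
open scoped Cfsg.Agent.FastGrp

-- part: TwoF/DC/TFG/F2/Rank
section
/-!
# TwoF, `²F₄(q)` in characteristic two: elementary abelian subgroups have order at most `q⁵` (helper88)
-/

set_option autoImplicit false
set_option linter.unusedSectionVars false

open scoped commutatorElement

namespace Cfsg.Agent.TwoF.DC.TF.F2

open Cfsg.Agent.SplitTwo Cfsg.Agent.SplitTwo.ZS Cfsg.Agent.TitsThree.RankTwoZ Cfsg.Agent.KFacts.TwF4
open Cfsg.Agent.KFacts.TwF4.Arc Cfsg.Agent.KFacts.TwF4.Irr Cfsg.Agent.KFacts.TwF4.Inv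
open Cfsg.Agent.H392 Cfsg.Agent.H392.TwFFour

universe u

section abs

variable {G : Type u} [Group G]

/-- counting by fibres -/
theorem card_le_fib [Finite G] {A B : Subgroup G} {T : Type*} [Finite T] (f : A → T)
    (h : ∀ a b : A, f a = f b → (a : G) * (b : G)⁻¹ ∈ B) :
    Nat.card A ≤ Nat.card T * Nat.card (A ⊓ B : Subgroup G) := by
  classical
  have hr : ∀ a : A, ∃ b : A, f b = f a := fun a => ⟨a, rfl⟩
  let r : T → A := fun t => if ht : ∃ b : A, f b = t then ht.choose else 1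
  have hr' : ∀ a : A, f (r (f a)) = f a := fun a => by
    simp only [r, dif_pos (hr a)]
    exact (hr a).choose_spec
  rw [← Nat.card_prod]
  refine Nat.card_le_card_of_injective (fun a : A => ((f a, ⟨(a : G) * ((r (f a) : A) : G)⁻¹,
    Subgroup.mem_inf.2 ⟨A.mul_mem a.2 (A.inv_mem (r (f a)).2), h a _ (hr' a).symm⟩⟩) : T × (A ⊓ B : Subgroup G))) ?_
  intro a b hab
  obtain ⟨h1, h2⟩ := Prod.mk.inj hab
  have h3 : (a : G) * ((r (f a) : A) : G)⁻¹ = (b : G) * ((r (f b) : A) : G)⁻¹ := congrArg Subtype.val h2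
  rw [h1] at h3
  exact Subtype.ext (mul_right_cancel h3)

theorem sq3 {a b c α γ : G} (h1 : b * a = a * b * α) (h2 : c * a = a * c * γ) (h3 : c * b = b * c)
    (h4 : b * α = α * b) (h5 : γ * b = b * γ) (h6 : c * γ = γ * c) (h7 : c * c = 1) :
    a * b * c * (a * b * c) = a * a * α * (b * b * γ) := by
  calc a * b * c * (a * b * c) = a * b * (c * a) * b * c := by group
    _ = a * (b * a) * c * (γ * b) * c := by rw [h2]; group
    _ = a * a * (b * α) * (c * b) * γ * c := by rw [h1, h5]; group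
    _ = a * a * α * b * b * (c * γ) * c := by rw [h4, h3]; group
    _ = a * a * α * (b * b * γ) * (c * c) := by rw [h6]; group
    _ = _ := by rw [h7, mul_one]

theorem swap_of {a b α : G} (h : a * b = b * a * α) (hα : α * α = 1) : b * a = a * b * α := by
  rw [h, mul_assoc, hα, mul_one]

end abs

variable {F : Type*} [Field F] [Finite F] {σ : F →+* F} {G : Type u} [Group G] (S : Full σ G)

/-- the normal form of the elements of `Q` -/
def qf (t p u : F) (m : G) (r w s : F) : G := S.o 0 t * (S.e 1 p u * (m * (S.e 3 r w * S.o 3 s)))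

theorem q2_mem (u s z t w : F) : q2 S u s z t w ∈ S.Q2 := (mem_Q2 S).2 ⟨_, _, _, _, _, rfl⟩

theorem cm_qf (t p u : F) {m : G} (hm : m ∈ S.Q1) (r w s u' s' z' t' w' : F) :
    Cm S (qf S t p u m r w s) (q2 S u' s' z' t' w') (t * w' + p * t' + r * s' + s * u') := by
  have hz : ∀ {x : G}, x ∈ S.Q → ∀ z, Cm S x (S.e 2 0 z) 0 := fun hx z => Cm.of_comm S (z_comm S (Q_PL S hx) z)
  have h1 : Cm S (S.o 0 t) (q2 S u' s' z' t' w') (0 + 0 + 0 + 0 + t * w') := by
    refine mulx S _ _ _ _ _ (Cm.of_comm S (S.o_e1 0 t 0 u')) (Cm.of_comm S (S.o_o1 0 t s')) (hz (o0_Q S t) _)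
      (Cm.of_comm S (S.o_o2 0 t t')) ?_
    have h := S.o_e3 0 t 0 w'
    simp only [map_zero, mul_zero, S.e_zero, S.o_zero, mul_one, zero_add] at h
    exact h
  have h2 : Cm S (S.e 1 p u) (q2 S u' s' z' t' w') (0 + 0 + 0 + p * t' + 0) := by
    refine mulx S _ _ _ _ _ (Cm.of_comm S ?_) (Cm.of_comm S (S.e_o0 1 p u s')) (hz (e1_Q S p u) _)
      ?_ (Cm.of_comm S (S.e_e2 1 p u 0 w'))
    · rw [S.e_mul, S.e_mul]
      simp only [map_zero, mul_zero, zero_mul, add_zero, zero_add]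
      rw [add_comm]
    · exact S.e_o1 1 p u t'
  have h3 : Cm S m (q2 S u' s' z' t' w') 0 := Cm.of_comm S (S.Q1_comm hm (q2_mem S _ _ _ _ _))
  have h4 : Cm S (S.e 3 r w) (q2 S u' s' z' t' w') (0 + r * s' + 0 + 0 + 0) := by
    refine mulx S _ _ _ _ _ (Cm.of_comm S (S.e_e2 1 0 u' r w).symm) ?_ (hz (e3_Q S r w) _)
      (Cm.of_comm S (S.o_e1 2 t' r w).symm) (Cm.of_comm S ?_)
    · refine Cm.swap S (Q_PL S (e3_Q S r w)) (Q2_PL S (S.q2_2 _)) ?_
      have h := S.o_e2 1 s' r w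
      rw [mul_comm r s']
      exact h
    · rw [S.e_mul, S.e_mul]
      simp only [map_zero, mul_zero, zero_mul, add_zero, zero_add]
      rw [add_comm]
  have h5 : Cm S (S.o 3 s) (q2 S u' s' z' t' w') (s * u' + 0 + 0 + 0 + 0) := by
    refine mulx S _ _ _ _ _ ?_ (Cm.of_comm S (S.o_o2 1 s' s).symm) (hz (o3_Q S s) _)
      (Cm.of_comm S (S.o_o1 2 t' s).symm) (Cm.of_comm S (S.e_o0 3 0 w' s).symm)
    refine Cm.swap S (Q_PL S (o3_Q S s)) (Q2_PL S (S.q2_1 _)) ?_
    have h := S.e_o2 1 0 u' s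
    simp only [map_zero, mul_zero, zero_mul, S.e_zero, S.o_zero, mul_one, zero_add] at h
    rw [mul_comm s u']
    exact h
  have hmP : m ∈ S.PL := Q_PL S (Q1_le_Q S hm)
  have h6 := h1.mul_left S (mul_mem (Q_PL S (e1_Q S p u)) (mul_mem hmP (mul_mem (Q_PL S (e3_Q S r w))
    (Q_PL S (o3_Q S s))))) (h2.mul_left S (mul_mem hmP (mul_mem (Q_PL S (e3_Q S r w))
    (Q_PL S (o3_Q S s)))) (h3.mul_left S (mul_mem (Q_PL S (e3_Q S r w))
    (Q_PL S (o3_Q S s))) (h4.mul_left S (Q_PL S (o3_Q S s)) h5)))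
  have e : 0 + 0 + 0 + 0 + t * w' + (0 + 0 + 0 + p * t' + 0 + (0 + (0 + r * s' + 0 + 0 + 0 +
      (s * u' + 0 + 0 + 0 + 0)))) = t * w' + p * t' + r * s' + s * u' := by ring
  rw [e] at h6
  exact h6

theorem cm_uniq {a n : G} {c c' : F} (h : Cm S a n c) (h' : Cm S a n c') : c = c' := by
  unfold Cm at h h'
  rw [h] at h'
  exact (S.injE _ _ _ _ _ (mul_left_cancel h')).2

theorem q2_inj {u s z t w u' s' z' t' w' : F} (h : q2 S u s z t w = q2 S u' s' z' t' w') :
    u = u' ∧ s = s' ∧ t = t' ∧ w = w' := by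
  have key : ∀ a b c d : F, a * w + b * t + c * s + d * u = a * w' + b * t' + c * s' + d * u' := fun a b c d => by
    have h1 := cm_qf S a b 0 (one_mem S.Q1) c 0 d u s z t w
    rw [h] at h1
    exact cm_uniq S h1 (cm_qf S a b 0 (one_mem S.Q1) c 0 d u' s' z' t' w')
  refine ⟨?_, ?_, ?_, ?_⟩
  · simpa using key 0 0 0 1
  · simpa using key 0 0 1 0
  · simpa using key 0 1 0 0
  · simpa using key 1 0 0 0

theorem q2_z (z : F) : q2 S 0 0 z 0 0 = S.e 2 0 z := by
  unfold q2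
  rw [S.e_zero, S.o_zero, S.o_zero, S.e_zero, one_mul, one_mul, mul_one, mul_one]

theorem q2_345 (z t w : F) : q2 S 0 0 z t w = S.e 2 0 z * S.o 2 t * S.e 3 0 w := by
  unfold q2
  rw [S.e_zero, S.o_zero, one_mul, one_mul]

theorem e40_PL (c : F) : S.e 4 0 c ∈ S.PL := mem_J ((mem_X8 S).2 ⟨0, c, rfl⟩) (by norm_num) (by norm_num)

theorem dl_z1 (c u : F) : dl (S.e 4 0 c) (S.e 1 0 u) = S.e 2 0 (σ u * c) * S.o 2 (u * c) * S.e 3 0 (u * σ c) := by
  have h := S.e_e3 1 0 u 0 c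
  simp only [map_zero, mul_zero, zero_mul, mul_one, zero_add, add_zero, S.o_zero] at h
  have h' : S.e 1 0 u * S.e 4 0 c = S.e 4 0 c * S.e 1 0 u *
      (S.e 2 0 (σ u * c) * S.o 2 (u * c) * S.e 3 0 (u * σ c)) := by
    rw [← mul_assoc, ← mul_assoc]; exact h
  exact dl_of h'

theorem dl_o1 (c s : F) : dl (S.e 4 0 c) (S.o 1 s) = S.e 3 0 (s * c) := by
  have h := S.o_e3 1 s 0 c
  simp only [map_zero, mul_zero, mul_one, zero_add, S.o_zero, S.e_zero] at h
  exact dl_of h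

theorem dl_q2 (c u s z t w : F) :
    dl (S.e 4 0 c) (q2 S u s z t w) = q2 S 0 0 (σ u * c) (u * c) (u * σ c + s * c) := by
  rw [q2_345]
  unfold q2
  rw [dl_Q2 S (e40_PL S c) (mul_mem (mul_mem (mul_mem (S.q2_1 _) (S.q2_2 _)) (S.q2_3 _)) (S.q2_4 _)) (S.q2_5 _),
    dl_Q2 S (e40_PL S c) (mul_mem (mul_mem (S.q2_1 _) (S.q2_2 _)) (S.q2_3 _)) (S.q2_4 _),
    dl_Q2 S (e40_PL S c) (mul_mem (S.q2_1 _) (S.q2_2 _)) (S.q2_3 _),
    dl_Q2 S (e40_PL S c) (S.q2_1 _) (S.q2_2 _), dl_z1, dl_o1, dl_z2, dl_o2, dl_e3, mul_zero, S.e_zero, zero_mul,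
    S.o_zero, mul_one, mul_one, mul_one, mul_assoc _ (S.e 3 0 _), z_add]

/-- conjugation of `Q2` by an element outside `Q` -/
theorem conj_q2 (c : F) {x : G} (hx : x ∈ S.Q) (u s z t w : F) : ∃ z', (S.e 4 0 c * x)⁻¹ * q2 S u s z t w *
    (S.e 4 0 c * x) = q2 S u s z' (t + u * c) (w + (u * σ c + s * c)) := by
  have h1 : (S.e 4 0 c)⁻¹ * q2 S u s z t w * S.e 4 0 c =
      q2 S u s (z + σ u * c) (t + u * c) (w + (u * σ c + s * c)) := by
    have h2 := dl_q2 S c u s z t w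
    unfold dl at h2
    rw [inv_mul_eq_iff_eq_mul, q2_mul, add_zero, add_zero] at h2
    exact h2
  obtain ⟨t1, p1, u1, m, hm, r1, w1, s1, e⟩ := form_Q S (inv_mem hx)
  have h3 := cm_qf S t1 p1 u1 hm r1 w1 s1 u s (z + σ u * c) (t + u * c) (w + (u * σ c + s * c))
  unfold qf at h3
  rw [← e] at h3
  obtain ⟨d, h3⟩ : ∃ d, Cm S x⁻¹ (q2 S u s (z + σ u * c) (t + u * c) (w + (u * σ c + s * c))) d := ⟨_, h3⟩
  unfold Cm at h3
  refine ⟨z + σ u * c + d, ?_⟩
  calc (S.e 4 0 c * x)⁻¹ * q2 S u s z t w * (S.e 4 0 c * x)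
      = x⁻¹ * ((S.e 4 0 c)⁻¹ * q2 S u s z t w * S.e 4 0 c) * x := by group
    _ = q2 S u s (z + σ u * c) (t + u * c) (w + (u * σ c + s * c)) * (x⁻¹ * S.e 2 0 d) * x := by
        rw [h1, h3]; group
    _ = q2 S u s (z + σ u * c) (t + u * c) (w + (u * σ c + s * c)) * S.e 2 0 d := by
        rw [z_comm S (Q_PL S (inv_mem hx))]; group
    _ = _ := by rw [← q2_z, q2_mul, add_zero, add_zero, add_zero, add_zero]

theorem cm_conj {g a n : G} {c : F} (ha : a ∈ S.PL) (hga : g * a = a * g) (h : Cm S g n c) :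
    Cm S g (a⁻¹ * n * a) c := by
  unfold Cm at h ⊢
  have h1 : g * a⁻¹ = a⁻¹ * g := (show Commute g a from hga).inv_right.eq
  calc g * (a⁻¹ * n * a) = (g * a⁻¹) * n * a := by group
    _ = a⁻¹ * (g * n) * a := by rw [h1]; group
    _ = a⁻¹ * n * g * (S.e 2 0 c * a) := by rw [h]; group
    _ = a⁻¹ * n * (g * a) * S.e 2 0 c := by rw [← z_comm S ha]; group
    _ = _ := by rw [hga]; group

theorem zero_of_mul_σ {p : F} (h : p * σ p = 0) : p = 0 := by
  rcases mul_eq_zero.1 h with h | h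
  · exact h
  · exact (map_eq_zero σ).1 h

/-- involutions of `Q1` -/
theorem mem_Q2_of_sq {x : G} (hx : x ∈ S.Q1) (hxx : x * x = 1) : x ∈ S.Q2 := by
  obtain ⟨p, u, y, hy, hxy, h⟩ := Q1_sq S hx
  rw [hxx] at h
  have hp := zero_of_mul_σ (S.e_eq_one h.symm).2
  rw [hxy, hp]
  exact mul_mem (S.q2_3 u) hy

/-- involutions of `U` -/
theorem form_U {y : G} (hy : y ∈ J S.XZ 1 8) (hyy : y * y = 1) : ∃ c, ∃ x ∈ S.Q, y = S.e 4 0 c * x := by
  have Z := S.zsys8
  obtain ⟨x, hx, q, hq, rfl⟩ := Z.split_rl (a := 1) (b := 8) (by norm_num) (by norm_num) hy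
  rw [show (8 : ℤ) - 1 = 7 by norm_num] at hq
  have c8 : ∀ {w}, w ∈ S.XZ 8 → ∀ x ∈ J S.XZ 1 7, w * x * w⁻¹ ∈ J S.XZ 1 7 := fun hw x hx =>
    Z.conj_X (by norm_num) (by norm_num) (by norm_num) hw hx
  obtain ⟨p, v, rfl⟩ := (mem_X8 S).1 hx
  have hxx : S.e 4 p v * S.e 4 p v = 1 := by
    have h1 : S.e 4 p v * S.e 4 p v ∈ J S.XZ 1 7 := by
      have e : S.e 4 p v * S.e 4 p v = ((S.e 4 p v * q) * (S.e 4 p v * q)) *
          (q⁻¹ * ((S.e 4 p v)⁻¹ * q⁻¹ * (S.e 4 p v)⁻¹⁻¹)) := by group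
      rw [e, hyy, one_mul]
      exact mul_mem (inv_mem hq) (c8 (inv_mem hx) _ (inv_mem hq))
    exact Z.inter' (mul_mem hx hx) (J_mono (by norm_num) (by norm_num) h1)
  rw [e_sq] at hxx
  have hp := zero_of_mul_σ (S.e_eq_one hxx).2
  subst hp
  exact ⟨v, q, hq, rfl⟩

/-- the involutions of `Q` which commute with an involution outside `Q` -/
theorem form_cent {c : F} (hc : c ≠ 0) {x g : G} (hx : x ∈ S.Q) (hg : g ∈ S.Q) (hgg : g * g = 1)
    (hga : g * (S.e 4 0 c * x) = (S.e 4 0 c * x) * g) : ∃ m ∈ S.Q1, ∃ s, g = m * S.o 3 s := by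
  obtain ⟨t, p, u, m, hm, r, w, s, e⟩ := form_Q S hg
  have ha : S.e 4 0 c * x ∈ S.PL := mul_mem (e40_PL S c) (Q_PL S hx)
  have key : ∀ u' s' : F, t * (u' * σ c + s' * c) + p * (u' * c) = 0 := by
    intro u' s'
    have h1 := cm_qf S t p u hm r w s u' s' 0 0 0
    obtain ⟨z', h2⟩ := conj_q2 S c hx u' s' 0 0 0
    have h3 := cm_qf S t p u hm r w s u' s' z' (0 + u' * c) (0 + (u' * σ c + s' * c))
    unfold qf at h1 h3
    rw [← e] at h1 h3
    have h4 := cm_conj S ha hga h1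
    rw [h2] at h4
    have h5 := cm_uniq S h3 h4
    linear_combination h5
  have ht : t = 0 := by
    have h1 := key 0 1
    simpa [hc] using h1
  have hp : p = 0 := by
    have h1 := key 1 0
    simpa [hc, ht] using h1
  subst ht hp
  obtain ⟨p', u', y, hy, hmy, -⟩ := Q1_sq S hm
  have hE : S.e 2 p' u' ∈ S.Q1 := Subgroup.mem_sup_left ((mem_X4 S).2 ⟨_, _, rfl⟩)
  obtain ⟨u0, s0, z0, t0, w0, e0⟩ := (mem_Q2 S).1 (mul_mem (S.q2_1 u) hy)
  have e1 : g = q2 S u0 s0 z0 t0 w0 * (S.e 2 p' u' * S.e 3 r w * S.o 3 s) := by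
    rw [e, e0, hmy, S.o_zero, S.Q1_comm hE hy]; group
  have h1 := cm_qf S 0 0 0 hE r w s u0 s0 z0 t0 w0
  obtain ⟨d, h1⟩ : ∃ d, Cm S (S.e 2 p' u' * S.e 3 r w * S.o 3 s) (q2 S u0 s0 z0 t0 w0) d := by
    unfold qf at h1
    rw [S.o_zero, S.e_zero, one_mul, one_mul, ← mul_assoc] at h1
    exact ⟨_, h1⟩
  have h2 : S.e 2 p' u' * S.e 3 r w * S.o 3 s * (S.e 2 p' u' * S.e 3 r w * S.o 3 s) =
      q2 S 0 0 (p' * σ p') (p' * r) (r * σ r + p' * s) := by
    have k1 : S.e 2 p' u' * S.e 3 r w = S.e 3 r w * S.e 2 p' u' * S.o 2 (p' * r) := S.e_e1 2 p' u' r w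
    have k2 : S.e 2 p' u' * S.o 3 s = S.o 3 s * S.e 2 p' u' * S.e 3 0 (p' * s) := S.e_o1 2 p' u' s
    have k3 : S.o 2 (p' * r) * S.e 3 r w = S.e 3 r w * S.o 2 (p' * r) := S.o_e1 2 _ r w
    have k4 : S.e 3 0 (p' * s) * S.e 3 r w = S.e 3 r w * S.e 3 0 (p' * s) := by
      rw [S.e_mul, S.e_mul]
      simp only [map_zero, mul_zero, zero_mul, add_zero, zero_add]
      rw [add_comm]
    rw [sq3 (swap_of k1 (o_sq S _ _)) (swap_of k2 (z_sq S _ _)) (S.e_o0 3 r w s).symm k3.symm k4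
      (S.e_o0 3 0 _ s).symm (o_sq S _ _), e_sq, e_sq, q2_345, z_add]
  have h3 : q2 S 0 0 (d + p' * σ p') (p' * r) (r * σ r + p' * s) = q2 S 0 0 0 0 0 := by
    unfold Cm at h1
    have h4 : q2 S u0 s0 z0 t0 w0 * q2 S u0 s0 z0 t0 w0 = 1 := by
      rw [q2_mul, char2 S, char2 S, char2 S, char2 S, char2 S, q2_zero]
    have h5 : S.e 2 p' u' * S.e 3 r w * S.o 3 s ∈ S.PL :=
      mul_mem (mul_mem (Q_PL S (Q1_le_Q S hE)) (Q_PL S (e3_Q S r w))) (Q_PL S (o3_Q S s))
    rw [q2_zero, ← hgg, e1]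
    set k := S.e 2 p' u' * S.e 3 r w * S.o 3 s
    set y0 := q2 S u0 s0 z0 t0 w0
    calc q2 S 0 0 (d + p' * σ p') (p' * r) (r * σ r + p' * s) = S.e 2 0 d * (k * k) := by
          rw [h2, ← q2_z, q2_mul]; simp only [zero_add]
      _ = (y0 * y0) * ((S.e 2 0 d * k) * k) := by rw [h4]; group
      _ = y0 * (y0 * k * S.e 2 0 d) * k := by rw [← z_comm S h5]; group
      _ = _ := by rw [← h1]; group
  obtain ⟨-, -, h4, h5⟩ := q2_inj S h3
  have hr : r = 0 := by
    rcases mul_eq_zero.1 h4 with h | h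
    · rw [h, zero_mul, add_zero] at h5
      exact zero_of_mul_σ h5
    · exact h
  subst hr
  refine ⟨q2 S u0 s0 z0 t0 w0 * (S.e 2 p' u' * S.e 3 0 w), ?_, s, by rw [e1]; group⟩
  exact mul_mem (Q2_le_Q1 S (q2_mem S _ _ _ _ _)) (mul_mem hE (Q2_le_Q1 S (S.q2_5 w)))

/-- subgroups of `Q` -/
theorem card_in_Q [Finite G] {A : Subgroup G} (hA : A ≤ S.Q) (hc : ∀ a ∈ A, ∀ b ∈ A, a * b = b * a)
    (h2 : ∀ a ∈ A, a * a = 1) : Nat.card A ≤ Nat.card F ^ 5 := by
  obtain ⟨hz, hz1⟩ := e201 S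
  have hZc : ∀ x ∈ S.Zc 2, ∀ y ∈ S.PL, x * y = y * x := fun x hx y hy => (S.comm_PL hy hx).symm
  have hZPL : S.Zc 2 ≤ S.PL := by
    rintro _ ⟨z, rfl⟩
    exact Q2_PL S (S.q2_3 z)
  obtain ⟨l, hl⟩ := LongRoot.exists_char (S.Zc 2) (fun x hx y hy => hZc x hx y (hZPL hy)) _ hz hz1
  have hcomm : ∀ a ∈ A, ∀ n ∈ S.Q2, ⁅a, n⁆ ∈ S.Zc 2 := by
    intro a ha n hn
    obtain ⟨t, p, r, s, h, -⟩ := cm_Q S (hA ha)
    obtain ⟨u', s', z', t', w', rfl⟩ := (mem_Q2 S).1 hn
    rw [cm_ge S (h u' s' z' t' w') (Q2_PL S hn) (Q_PL S (hA ha))]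
    exact ⟨_, rfl⟩
  have hA12 : A ⊓ S.Q1 = A ⊓ S.Q2 :=
    le_antisymm (fun x hx => ⟨hx.1, mem_Q2_of_sq S hx.2 (h2 x hx.1)⟩) (inf_le_inf_left _ (Q2_le_Q1 S))
  have hpair := LongRoot.pairing A S.Q2 (S.Zc 2) (A ⊓ S.Q2) S.Q1 hcomm
    (fun x hx a ha => hZc x hx a (Q_PL S (hA ha))) (fun x hx n hn => hZc x hx n (Q2_PL S hn)) l inf_le_right (by
      intro a ha b hb
      have h1 : ⁅a, b⁆ = 1 := commutatorElement_eq_one_iff_mul_comm.2 (hc a ha b hb.1)
      have : (⟨⁅a, b⁆, hcomm a ha b hb.2⟩ : S.Zc 2) = 1 := Subtype.ext h1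
      rw [this, map_one]) (by
      intro a ha h
      obtain ⟨t, p, r, s, hc, hq⟩ := cm_Q S (hA ha)
      have key : ∀ u' s' z' t' w' : F, t * w' + p * t' + r * s' + s * u' ≠ 1 := by
        intro u' s' z' t' w' he
        have h1 := h (q2 S u' s' z' t' w') (q2_mem S _ _ _ _ _)
        apply hl
        rw [← h1]
        congr 1
        apply Subtype.ext
        show S.e 2 0 1 = ⁅a, q2 S u' s' z' t' w'⁆
        rw [cm_ge S (hc u' s' z' t' w') (Q2_PL S (q2_mem S _ _ _ _ _)) (Q_PL S (hA ha)), he]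
      refine hq ?_ ?_ ?_ ?_
      · by_contra h0
        exact key 0 0 0 0 t⁻¹ (by rw [mul_inv_cancel₀ h0]; ring)
      · by_contra h0
        exact key 0 0 0 p⁻¹ 0 (by rw [mul_inv_cancel₀ h0]; ring)
      · by_contra h0
        exact key 0 r⁻¹ 0 0 0 (by rw [mul_inv_cancel₀ h0]; ring)
      · by_contra h0
        exact key s⁻¹ 0 0 0 0 (by rw [mul_inv_cancel₀ h0]; ring))
  rw [hA12, mul_comm] at hpair
  exact (Nat.le_of_mul_le_mul_left hpair Nat.card_pos).trans (card_Q2_le S)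

/-- subgroups of `U` -/
theorem card_in_U [Finite G] {A : Subgroup G} (hA : A ≤ J S.XZ 1 8) (hc : ∀ a ∈ A, ∀ b ∈ A, a * b = b * a)
    (h2 : ∀ a ∈ A, a * a = 1) : Nat.card A ≤ Nat.card F ^ 5 := by
  by_cases hQ : A ≤ S.Q
  · exact card_in_Q S hQ hc h2
  obtain ⟨a, ha, haQ⟩ := SetLike.not_le_iff_exists.1 hQ
  obtain ⟨c, x, hx, rfl⟩ := form_U S (hA ha) (h2 a ha)
  have hc0 : c ≠ 0 := by
    rintro rfl
    rw [S.e_zero, one_mul] at haQ
    exact haQ hx
  have h1 : Nat.card A ≤ Nat.card F * Nat.card (A ⊓ S.Q : Subgroup G) := by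
    choose f y hy e using fun b : A => form_U S (hA b.2) (h2 b b.2)
    refine card_le_fib f fun b b' h => ?_
    rw [e b, e b', h]
    have := Perf.Q_norm S (e40_PL S (f b')) (mul_mem (hy b) (inv_mem (hy b')))
    convert this using 1
    group
  have h3 : Nat.card (A ⊓ S.Q : Subgroup G) ≤ Nat.card F * Nat.card ((A ⊓ S.Q) ⊓ S.Q2 : Subgroup G) := by
    choose m hm f e using fun b : (A ⊓ S.Q : Subgroup G) => form_cent S hc0 hx b.2.2 (h2 b b.2.1) (hc b b.2.1 _ ha)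
    refine card_le_fib f fun b b' h => mem_Q2_of_sq S ?_ (h2 _ (mul_mem b.2.1 (inv_mem b'.2.1)))
    rw [e b, e b', h]
    have := mul_mem (hm b) (inv_mem (hm b'))
    convert this using 1
    group
  have h4 : Nat.card ((A ⊓ S.Q) ⊓ S.Q2 : Subgroup G) ≤ Nat.card F ^ 3 := by
    have h5 : ∀ b : ((A ⊓ S.Q) ⊓ S.Q2 : Subgroup G), ∃ v : F × F × F, (b : G) = q2 S 0 0 v.1 v.2.1 v.2.2 := by
      intro b
      obtain ⟨u, s, z, t, w, e⟩ := (mem_Q2 S).1 b.2.2
      obtain ⟨z', h6⟩ := conj_q2 S c hx u s z t w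
      rw [e, mul_assoc, hc b b.2.1.1 _ ha, inv_mul_cancel_left, ← e] at h6
      obtain ⟨-, -, h7, h8⟩ := q2_inj S h6
      have hu : u = 0 := by simpa [hc0] using h7
      have hs : s = 0 := by simpa [hc0, hu] using h8
      exact ⟨(z, t, w), by rw [← e, hu, hs]⟩
    choose v hv using h5
    have h6 := Nat.card_le_card_of_injective v fun b b' h => Subtype.ext (by rw [hv b, hv b', h])
    rw [Nat.card_prod, Nat.card_prod] at h6
    exact h6.trans (le_of_eq (by ring))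
  calc Nat.card A ≤ Nat.card F * (Nat.card F * Nat.card F ^ 3) :=
        h1.trans (Nat.mul_le_mul_left _ (h3.trans (Nat.mul_le_mul_left _ h4)))
    _ = _ := by ring

/-- **the 2-rank** -/
theorem card_le_five [Finite G] (hF : ∃ c : Fˣ, c ≠ 1) (hR : S.R.p = 2) {A : Subgroup G}
    (hc : ∀ a ∈ A, ∀ b ∈ A, a * b = b * a) (h2 : ∀ a ∈ A, a * a = 1) : Nat.card A ≤ Nat.card F ^ 5 := by
  have : Fact (Nat.Prime 2) := ⟨Nat.prime_two⟩
  obtain ⟨P, hP⟩ := SylU.exists_sylow S hF hR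
  have hA : IsPGroup 2 A := fun a => ⟨1, Subtype.ext (by rw [pow_one, pow_two]; exact h2 a a.2)⟩
  obtain ⟨P', hP'⟩ := hA.exists_le_sylow
  obtain ⟨g, hg⟩ := MulAction.exists_smul_eq G P' P
  rw [← Subgroup.card_map_of_injective (K := A) (f := (MulAut.conj g).toMonoidHom) (MulAut.conj g).injective]
  refine card_in_U S ?_ ?_ ?_
  · rintro _ ⟨a, ha, rfl⟩
    rw [← hP, ← hg]
    exact ⟨a, hP' ha, rfl⟩
  · rintro _ ⟨a, ha, rfl⟩ _ ⟨b, hb, rfl⟩
    rw [← map_mul, ← map_mul, hc a ha b hb]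
  · rintro _ ⟨a, ha, rfl⟩
    rw [← map_mul, h2 a ha, map_one]

end Cfsg.Agent.TwoF.DC.TF.F2
end

-- part: TwoF/DC/TFG/F2/Cod
section
/-!
# TwoF, `²F₄(q)` in characteristic two: the commutator space of an involution has dimension at least `10 f` (helper88)
-/

set_option autoImplicit false
set_option linter.unusedSectionVars false

namespace Cfsg.Agent.TwoF.DC.TF.F2

open Cfsg Cfsg.Lie Cfsg.Agent.H315.TwF Cfsg.Agent.TwoF.Gen Subgroup
open scoped TensorProduct

section eig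

variable {k V G : Type*} [Field k] [AddCommGroup V] [Module k V] [Group G]

/-- the non-trivial eigenvalues of `x₁` -/
theorem five_mul_le [IsAlgClosed k] [FiniteDimensional k V] {ρ : G →* Module.End k V} {r q t : ℕ}
    (hr0 : (r : k) ≠ 0) {S₁ S₂ : Subgroup G} {a₁ h₁ x₁ g₁ a₂ h₂ x₂ g₂ : G}
    (D₁ : Side ρ r S₁ a₁ h₁ x₁ g₁) (D₂ : Side ρ r S₂ a₂ h₂ x₂ g₂) (comm : ∀ y ∈ S₁, ∀ z ∈ S₂, y * z = z * y)
    {s : V → V} (hs : Semi ρ q s) (hq1 : ∀ α : k, α ^ q = 1 → α = 1)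
    (ht : ∀ α : k, α ^ r = 1 → α ≠ 1 → (H315.TwF.Or q t α).card = t)
    (e11 : ∃ v : V, v ≠ 0 ∧ ∃ χ ψ : k, χ ≠ 1 ∧ ψ ≠ 1 ∧ ρ a₁ v = χ • v ∧ ρ a₂ v = ψ • v)
    (e10 : ∃ v : V, v ≠ 0 ∧ ∃ χ : k, χ ≠ 1 ∧ ρ a₁ v = χ • v ∧ ρ a₂ v = v) : 5 * t ≤ cod ρ (zpowers x₁) := by
  classical
  have comm' : ∀ y ∈ S₂, ∀ z ∈ S₁, y * z = z * y := fun y hy z hz => (comm z hz y hy).symm
  have key : ∀ ψ : k, (∃ v : V, v ≠ 0 ∧ ∃ χ : k, χ ≠ 1 ∧ ρ a₁ v = χ • v ∧ ρ a₂ v = ψ • v) →
      ∃ α : k, α ≠ 1 ∧ ∃ v : V, v ≠ 0 ∧ ρ x₁ v = α • v ∧ ρ a₂ v = ψ • v := by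
    rintro ψ ⟨v, hv0, χ, hχ, hav, hbv⟩
    have hM := inv_eig (ρ := ρ) (S := S₁) (z := a₂) (fun y hy => comm y hy a₂ D₂.ha) ψ
    have hne : ¬ ∀ v ∈ (ρ a₂).eigenspace ψ, ρ x₁ v = v := by
      intro hall
      have h1 := D₁.triv_a _ hM hall v (by rw [Module.End.mem_eigenspace_iff]; exact hbv)
      rw [hav] at h1
      apply hχ
      have h2 : (χ - 1) • v = 0 := by rw [sub_smul, one_smul, h1, sub_self]
      rcases smul_eq_zero.1 h2 with h3 | h3
      · exact sub_eq_zero.1 h3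
      · exact absurd h3 hv0
    obtain ⟨α, hα, u, hu, hu0, hxu⟩ := exists_ne_one ρ hr0 D₁.xr (hM x₁ D₁.hx) hne
    rw [Module.End.mem_eigenspace_iff] at hu
    exact ⟨α, hα, u, hu0, hxu, hu⟩
  obtain ⟨v, hv0, χ, ψ, hχ, hψ, hav, hbv⟩ := e11
  obtain ⟨α₀, hα₀, u₀, hu₀, hxu₀, hau₀⟩ := key ψ ⟨v, hv0, χ, hχ, hav, hbv⟩
  obtain ⟨v', hv0', χ', hχ', hav', hbv'⟩ := e10
  obtain ⟨α', hα', u', hu', hxu', hau'⟩ := key 1 ⟨v', hv0', χ', hχ', hav', by rw [one_smul]; exact hbv'⟩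
  set A := H315.TwF.Or q t α₀ with hA
  set A' := H315.TwF.Or q t α' with hA'
  have cA : A.card = t := ht α₀ (eig_pow hu₀ hxu₀ D₁.xr) hα₀
  have cA' : A'.card = t := ht α' (eig_pow hu' hxu' D₁.xr) hα'
  have hcase : ∀ α : k, (if α ∈ A then 4 else 0) + (if α ∈ A' then 1 else 0) ≤
      Module.finrank k ((ρ x₁).eigenspace α) := by
    intro α
    have hE := inv_eig (ρ := ρ) (S := S₂) (z := x₁) (fun y hy => comm' y hy x₁ D₁.hx) α
    have f1 : α ∈ A → ∃ ψ' : k, ψ' ≠ 1 ∧ ∃ v ∈ (ρ x₁).eigenspace α, v ≠ 0 ∧ ρ a₂ v = ψ' • v := by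
      intro hα
      obtain ⟨i, -, rfl⟩ := mem_Or.1 hα
      refine ⟨ψ ^ q ^ i, pow_ne_one hq1 hψ i, s^[i] u₀, ?_, hs.iter_ne i hu₀, hs.iter i hau₀⟩
      rw [Module.End.mem_eigenspace_iff]
      exact hs.iter i hxu₀
    have f2 : α ∈ A' → ∃ v ∈ (ρ x₁).eigenspace α, v ≠ 0 ∧ ρ a₂ v = v := by
      intro hα
      obtain ⟨i, -, rfl⟩ := mem_Or.1 hα
      refine ⟨s^[i] u', ?_, hs.iter_ne i hu', ?_⟩
      · rw [Module.End.mem_eigenspace_iff]
        exact hs.iter i hxu'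
      · have := hs.iter i hau'
        rwa [one_pow, one_smul] at this
    by_cases c1 : α ∈ A
    · obtain ⟨ψ', hψ', hv⟩ := f1 c1
      by_cases c2 : α ∈ A'
      · rw [if_pos c1, if_pos c2]
        exact D₂.five_le hE hψ' hv (f2 c2)
      · rw [if_pos c1, if_neg c2]
        exact D₂.four_le hE hψ' hv
    · by_cases c2 : α ∈ A'
      · rw [if_neg c1, if_pos c2]
        obtain ⟨v, hv, hv0, -⟩ := f2 c2
        have : Nontrivial ((ρ x₁).eigenspace α) := ⟨⟨⟨v, hv⟩, 0, fun h => hv0 (congrArg Subtype.val h)⟩⟩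
        have := Module.finrank_pos (R := k) (M := (ρ x₁).eigenspace α)
        omega
      · rw [if_neg c1, if_neg c2]
        exact Nat.zero_le _
  have h1 : (1 : k) ∉ A ∪ A' := by
    rw [Finset.mem_union, not_or]
    constructor
    · intro hm
      obtain ⟨i, -, h⟩ := mem_Or.1 hm
      exact pow_ne_one hq1 hα₀ i h
    · intro hm
      obtain ⟨i, -, h⟩ := mem_Or.1 hm
      exact pow_ne_one hq1 hα' i h
  have h2 := sum_le (ρ x₁) (insert 1 (A ∪ A'))
  rw [Finset.sum_insert h1] at h2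
  have h3 : ∑ α ∈ A ∪ A', ((if α ∈ A then 4 else 0) + (if α ∈ A' then 1 else 0)) ≤
      ∑ α ∈ A ∪ A', Module.finrank k ((ρ x₁).eigenspace α) := Finset.sum_le_sum fun α _ => hcase α
  have h4 : ∑ α ∈ A ∪ A', ((if α ∈ A then 4 else 0) + (if α ∈ A' then 1 else 0)) = 4 * t + t := by
    rw [Finset.sum_add_distrib, Finset.sum_ite_mem, Finset.sum_ite_mem, Finset.union_inter_cancel_left,
      Finset.union_inter_cancel_right, Finset.sum_const, Finset.sum_const, cA, cA', smul_eq_mul, smul_eq_mul, mul_one,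
      mul_comm]
  have h5 : fx ρ (zpowers x₁) = (ρ x₁).eigenspace 1 := by
    ext w
    rw [mem_fx_zpowers, Module.End.mem_eigenspace_iff, one_smul]
  have h6 := cod_add (ρ := ρ) (zpowers x₁)
  rw [h5] at h6
  omega

/-- the Frobenius map on the extended module -/
theorem semi_bc [Fintype k] (L : Type*) [Field L] [Algebra k L] [Algebra.IsAlgebraic k L]
    (ρ : Representation k G V) : ∃ s, Semi (bc L ρ) (Fintype.card k) s := by
  let τ := FiniteField.frobeniusAlgEquivOfAlgebraic k L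
  refine ⟨τ.toLinearMap.rTensor V, fun g x => ?_, fun c x => ?_, fun x hx h => hx ?_⟩
  · induction x with
    | zero => simp
    | tmul a v => simp [bc_tmul]
    | add x y hx hy => rw [map_add, map_add, hx, hy, map_add, map_add]
  · show _ = τ c • _
    induction x with
    | zero => simp
    | tmul a v => simp [TensorProduct.smul_tmul']
    | add x y hx hy => rw [smul_add, map_add, map_add, hx, hy, smul_add]
  · have inv : ∀ x : L ⊗[k] V, τ.symm.toLinearMap.rTensor V (τ.toLinearMap.rTensor V x) = x := by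
      intro x
      induction x with
      | zero => simp only [_root_.map_zero]
      | tmul a v => simp
      | add x y hx hy => rw [map_add, map_add, hx, hy]
    rw [← inv x, h, map_zero]

/-- elements of odd order of a Suzuki group are inverted by an involution -/
theorem suz_inv (h : Lie.IsoSuzuki G) {x : G} {r : ℕ} (hr : Odd r) (hxr : x ^ r = 1) (hx1 : x ≠ 1) :
    ∃ i : G, i ≠ 1 ∧ i * i = 1 ∧ i * x * i⁻¹ = x⁻¹ := by
  obtain ⟨F, _, _, m, hm, hF, ⟨f⟩⟩ := h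
  have hy1 : f x ≠ 1 := fun h => hx1 (f.injective (h.trans (map_one f).symm))
  rcases Cfsg.Agent.H147.Sz.real hm hF (f x) hy1 with ⟨-, i, hi1, hi, h⟩ | ⟨a, b, h⟩
  · refine ⟨f.symm i, fun h1 => hi1 (f.symm.injective (h1.trans (map_one _).symm)), by rw [← map_mul, hi, map_one],
      f.injective ?_⟩
    rw [map_mul, map_mul, map_inv, map_inv, MulEquiv.apply_symm_apply, inv_eq_of_mul_eq_one_left (hi :), h]
  · exfalso
    obtain ⟨c, hc⟩ := isConj_iff.1 h
    have h4 : (LieRecognition.SzMatrix.good hF).u a b ^ 4 = 1 := by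
      rw [Cfsg.Agent.H84.SzLevi.four_eq, Cfsg.Agent.H147.Sz.u_sq, Cfsg.Agent.H147.Sz.u_sq, zero_mul,
        (LieRecognition.SzMatrix.good hF).u_zero]
    rw [← hc, conj_pow, conj_eq_one_iff] at h4
    have h6 : (f x) ^ r = 1 := by rw [← map_pow, hxr, map_one]
    have h7 := Nat.dvd_gcd (orderOf_dvd_of_pow_eq_one h4) (orderOf_dvd_of_pow_eq_one h6)
    have h8 : Nat.gcd 4 r = 1 := Nat.Coprime.pow_left 2 (Nat.coprime_two_left.2 hr)
    rw [h8, Nat.dvd_one, orderOf_eq_one_iff] at h7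
    exact hy1 h7

end eig

open Cfsg.Agent.ChevalleyStructure.TwF4.Rel Cfsg.Agent.ChevalleyStructure.TwF4.RankOne
open Cfsg.Agent.ChevalleyStructure.TwF4.TwistedFix Cfsg.Agent.KFacts.TwF4 Cfsg.Agent.KFacts.TwF4.Inst
open Cfsg.Agent.KFacts.TwF4.Irr Cfsg.Agent.CpAutTwF.Cent Cfsg.Agent.H496.TwFRad
open Cfsg.Agent.KFacts.TwF4.Arc Cfsg.Agent.KFacts.TwF4.Inv

section abs

variable {F : Type*} [Field F] [Finite F] {σ : F →+* F} {G : Type*} [Group G] [Finite G] (S : Full σ G)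

/-- the involutions of the Levi complement -/
theorem conj_L4 (hF : ∃ d : Fˣ, d ≠ 1) (hR : S.R.p = 2) (h2 : 2 ∣ Nat.card F) {i : G} (hi : i ∈ L4 S) (hi1 : i ≠ 1)
    (hii : i * i = 1) : ∃ l ∈ L4 S, ∃ v, v ≠ 0 ∧ l * i * l⁻¹ = S.e 4 0 v := by
  have : Fact (Nat.Prime 2) := ⟨Nat.prime_two⟩
  have c1 : Nat.card ((S.XZ 8).subgroupOf (L4 S)) = Nat.card F * Nat.card F := by
    rw [Nat.card_congr (subgroupOfEquivOfLe (X8_L4 S)).toEquiv, ← pow_two]
    exact H392.TwFFour.card_even S 4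
  have c2 := card_mul_index ((S.XZ 8).subgroupOf (L4 S))
  rw [c1, Levi.card_L4 S hF, mul_assoc (_ * _)] at c2
  have c3 := Nat.eq_of_mul_eq_mul_left (Nat.mul_pos Nat.card_pos Nat.card_pos) c2
  have c4 : ¬ 2 ∣ ((S.XZ 8).subgroupOf (L4 S)).index := by
    rw [c3, Nat.prime_two.dvd_mul]
    have h3 : 2 ∣ Nat.card F * Nat.card F := h2.mul_right _
    have h4 : 0 < Nat.card F := Nat.card_pos
    omega
  have hp : IsPGroup 2 ((S.XZ 8).subgroupOf (L4 S)) := (two_X S hR 8).comap_of_injective _ (L4 S).subtype_injective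
  have hA : IsPGroup 2 (zpowers (⟨i, hi⟩ : L4 S)) :=
    elemAb_isPGroup (elemAb_zpowers (Subtype.ext (by rw [pow_two]; exact hii)))
  obtain ⟨P', hP'⟩ := hA.exists_le_sylow
  obtain ⟨g, hg⟩ := MulAction.exists_smul_eq (L4 S) P' (hp.toSylow c4)
  have h3 : g * ⟨i, hi⟩ * g⁻¹ ∈ (S.XZ 8).subgroupOf (L4 S) := by
    show _ ∈ ((hp.toSylow c4 : Sylow 2 (L4 S)) : Subgroup (L4 S))
    rw [← hg]
    exact ⟨_, hP' (mem_zpowers _), rfl⟩
  obtain ⟨p, v, e⟩ := (mem_X8 S).1 h3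
  have e' : S.e 4 p v = g * i * (g : G)⁻¹ := e
  have h4 : S.e 4 p v * S.e 4 p v = 1 := by
    rw [e']
    calc (g : G) * i * (g : G)⁻¹ * (g * i * (g : G)⁻¹) = g * (i * i) * (g : G)⁻¹ := by group
      _ = 1 := by rw [hii]; group
  rw [e_sq] at h4
  have hp0 : p = 0 := by
    rcases mul_eq_zero.1 (S.e_eq_one h4).2 with h | h
    · exact h
    · exact (map_eq_zero σ).1 h
  subst hp0
  refine ⟨g, g.2, v, ?_, e'.symm⟩
  rintro rfl
  rw [S.e_zero] at e'
  exact hi1 (conj_eq_one_iff.1 e'.symm)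

/-- every involution inverts a conjugate of `x` -/
theorem inverts (hF : ∃ d : Fˣ, d ≠ 1) (hR : S.R.p = 2) (h2 : 2 ∣ Nat.card F) {i x : G} (hi : i ∈ L4 S) (hi1 : i ≠ 1)
    (hii : i * i = 1) (hx : x ∈ L4 S) (hix : i * x * i⁻¹ = x⁻¹) {d : G} (hd : d * d = 1) (hd1 : d ≠ 1) :
    ∃ g : G, d * (g * x * g⁻¹) * d⁻¹ = (g * x * g⁻¹)⁻¹ := by
  obtain ⟨l, hl, v, hv, e⟩ := conj_L4 S hF hR h2 hi hi1 hii
  have hx' : l * x * l⁻¹ ∈ L4 S := mul_mem (mul_mem hl hx) (inv_mem hl)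
  have h1 : S.e 4 0 v * (l * x * l⁻¹) * (S.e 4 0 v)⁻¹ = (l * x * l⁻¹)⁻¹ := by
    rw [← e]
    calc l * i * l⁻¹ * (l * x * l⁻¹) * (l * i * l⁻¹)⁻¹ = l * (i * x * i⁻¹) * l⁻¹ := by group
      _ = _ := by rw [hix]; group
  have h3 : ∀ u, S.e 4 0 v * S.e 2 0 u * (l * x * l⁻¹) * (S.e 4 0 v * S.e 2 0 u)⁻¹ = (l * x * l⁻¹)⁻¹ := fun u => by
    have h4 := S.comm_PL (L4_le_PL S hx') (z := S.e 2 0 u) ⟨u, rfl⟩
    rw [← h1, mul_assoc (S.e 4 0 v), ← h4]
    group
  have key : ∀ a : G, a * (l * x * l⁻¹) * a⁻¹ = (l * x * l⁻¹)⁻¹ → Cj a d →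
      ∃ g : G, d * (g * x * g⁻¹) * d⁻¹ = (g * x * g⁻¹)⁻¹ := by
    rintro a ha ⟨k, rfl⟩
    refine ⟨k * l, ?_⟩
    calc k * a * k⁻¹ * (k * l * x * (k * l)⁻¹) * (k * a * k⁻¹)⁻¹ = k * (a * (l * x * l⁻¹) * a⁻¹) * k⁻¹ := by group
      _ = _ := by rw [ha]; group
  have te : ∀ {w : F}, w ≠ 0 → Cj (S.e 0 0 1) (S.e 0 0 w) := fun {w} hw => by
    obtain ⟨χ, hχ⟩ := s1_surj S (Units.mk0 w hw)
    refine ⟨S.h χ 1, ?_⟩
    rw [S.h_e, chE_zero, mul_zero, mul_one]
    congr 1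
    exact congrArg Units.val hχ
  have to' : ∀ {w : F}, w ≠ 0 → Cj (S.o 0 1) (S.o 0 w) := fun {w} hw =>
    ⟨S.h (Units.mk0 w hw) 1, by rw [S.h_o, chO, chE_zero, zero_add, chE_one, mul_one, mul_one, Units.val_mk0]⟩
  rcases SylU.classes S hF hR hd hd1 with ⟨u, hu, h⟩ | ⟨t, ht, h⟩
  · refine key _ h1 ?_
    have h5 : Cj (S.e 4 0 v) (S.e 0 0 v) := ⟨S.n2, by rw [S.n2_e, sub_self]⟩
    exact ((h5.trans (te hv).symm).trans (te hu)).trans h.symm
  · refine key _ (h3 (1 * 1 * σ 1 * v)) ?_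
    have h5 : Cj (S.o 3 (1 * v)) (S.o 0 (1 * v)) := ⟨S.n2, by rw [S.n2_o, sub_self]⟩
    exact ((((zz_conj S one_ne_zero hv).symm.trans h5).trans (to' (by rwa [one_mul])).symm).trans (to' ht)).trans h.symm

end abs

variable {K : Type*} [Field K] [Fintype K] {m : ℕ}

/-- **the commutator space of an involution** -/
theorem ten_le {V : Type*} [AddCommGroup V] [Module (ZMod 2) V] [Finite V] (hm : 1 ≤ m)
    (hK : Fintype.card K = 2 ^ (2 * m + 1)) (ρ : Representation (ZMod 2) ↥(twistedF4 K (2 ^ m)) V)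
    (hρ : Function.Injective ρ) {d : ↥(twistedF4 K (2 ^ m))} (hd : d * d = 1) (hd1 : d ≠ 1) :
    10 * (2 * m + 1) ≤ cod ρ (zpowers d) := by
  have := Cfsg.Agent.ChevalleyStructure.TwF4.Twisted.charP_two hK
  obtain ⟨r, hr, hprim, -, hr2⟩ := Cfsg.Agent.Lib.Zsigmondy.exists_primitive (a := 2) (n := 4 * (2 * m + 1)) le_rfl
    (by omega) (fun h => by omega) (by omega)
  have hfr : Fact r.Prime := ⟨hr⟩
  have hrne : r ≠ 2 := fun h => hr2 (h ▸ dvd_rfl)
  have hK' : Nat.card K = 2 ^ (2 * m + 1) := by rw [Nat.card_eq_fintype_card, hK]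
  have hdvd : r ∣ Nat.card K * Nat.card K + 1 := by
    have h1 : r ∣ 2 ^ (4 * (2 * m + 1)) - 1 := (hprim _).2 dvd_rfl
    have h2 : ¬ r ∣ 2 ^ (2 * (2 * m + 1)) - 1 := fun h3 => by
      have := Nat.le_of_dvd (by omega) ((hprim _).1 h3)
      omega
    rw [show 4 * (2 * m + 1) = 2 * (2 * m + 1) * 2 by ring, pow_mul, ← one_pow 2, Nat.sq_sub_sq] at h1
    rw [hK', ← pow_add, ← two_mul]
    exact (hr.dvd_mul.1 h1).resolve_right h2
  have hord : orderOf ((2 : ℕ) : ZMod r) = 4 * (2 * m + 1) := by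
    have key : ∀ n, ((2 : ℕ) : ZMod r) ^ n = 1 ↔ 4 * (2 * m + 1) ∣ n := fun n => by
      rw [← hprim, ← ZMod.natCast_eq_zero_iff, Nat.cast_sub Nat.one_le_two_pow, Nat.cast_pow, Nat.cast_one,
        sub_eq_zero]
    exact Nat.dvd_antisymm (orderOf_dvd_of_pow_eq_one ((key _).2 dvd_rfl)) ((key _).1 (pow_orderOf_eq_one _))
  obtain ⟨φ, hφ⟩ := exists_rln hK
  obtain ⟨A, B, ga, gb, c, h, hA1, hA, hga, hB, hgb⟩ := exists_rels_mem hK hφ
  obtain ⟨S, hS⟩ : ∃ S : Full φ ↥(twistedF4 K (2 ^ m)), S = full hK hφ := ⟨_, rfl⟩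
  have hR : S.R.p = 2 := by rw [hS]; rfl
  rw [← hS] at hA hga hB hgb
  have hI : Lie.IsoSuzuki ↥(L4 S) := by
    have h1 := Cfsg.Agent.H84.GaussTwF4.LL_iso S (k := 2 * m + 1) (by omega) hK'
    rw [Cfsg.Agent.H84.GaussTwF4.LJ_eq] at h1
    have h2 : H84.GaussTwF4.LL S = L4 S := sup_comm _ _
    rwa [h2] at h1
  have e : ↥(L4 S) ≃* ↥(M4 S) := ((L4 S).equivMapOfInjective (S.ck 2).toMonoidHom (S.ck 2).injective).trans
    (MulEquiv.subgroupCongr (map_L4 S))
  have hI' : Lie.IsoSuzuki ↥(M4 S) := by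
    obtain ⟨F, i1, i2, n, hn, hF, ⟨f⟩⟩ := hI
    exact ⟨F, i1, i2, n, hn, hF, ⟨e.symm.trans f⟩⟩
  have hFu : ∃ d : Kˣ, d ≠ 1 := by
    have h1 : 1 < Nat.card Kˣ := by
      rw [Nat.card_units, hK']
      have : 2 ^ 3 ≤ 2 ^ (2 * m + 1) := Nat.pow_le_pow_right (by norm_num) (by omega)
      omega
    have h2 : Nontrivial Kˣ := Finite.one_lt_card_iff_nontrivial.1 h1
    exact exists_ne 1
  have hdL : r ∣ Nat.card (L4 S) := by
    rw [Levi.card_L4 S hFu]
    exact Dvd.dvd.mul_left hdvd _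
  obtain ⟨x₁, hx₁⟩ := exists_prime_orderOf_dvd_card' r hdL
  have hdM : r ∣ Nat.card (M4 S) := by rw [← Nat.card_congr e.toEquiv]; exact hdL
  obtain ⟨x₂, hx₂⟩ := exists_prime_orderOf_dvd_card' r hdM
  have hodd : Odd r := hr.odd_of_ne_two hrne
  have key : ∀ {H : Subgroup ↥(twistedF4 K (2 ^ m))} (x : H), orderOf x = r → x ≠ 1 ∧ x ^ r = 1 := by
    intro H x hx
    refine ⟨?_, by rw [← hx]; exact pow_orderOf_eq_one x⟩
    rintro rfl
    rw [orderOf_one] at hx
    exact hr.one_lt.ne hx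
  obtain ⟨hx₁1, hx₁r⟩ := key x₁ hx₁
  obtain ⟨hx₂1, hx₂r⟩ := key x₂ hx₂
  have hB1 : B ≠ 1 := by
    intro hB1
    have h1 := h.cB
    rw [hB1, mul_one, mul_one, mul_one] at h1
    exact hA1 (mul_eq_right.1 h1.symm)
  have cube : ∀ X : ↥(twistedF4 K (2 ^ m)), X * X * X = X ^ 3 := fun X => by
    simp only [pow_succ, pow_zero, one_mul]
  let L := AlgebraicClosure (ZMod 2)
  have hodd' : ∀ a : ℕ, ¬ 2 ∣ a → (a : L) ≠ 0 := fun a ha h0 => ha ((CharP.cast_eq_zero_iff L 2 a).1 h0)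
  have h5 : (5 : L) ≠ 0 := by exact_mod_cast hodd' 5 (by norm_num)
  obtain ⟨g₁, D₁⟩ := exists_side (bc L ρ) hI hA hA1 hga (A5 h) (by rw [← cube]; exact h.gaA) x₁.2
    (fun h => hx₁1 (Subtype.ext h)) hodd (congrArg Subtype.val hx₁r)
  obtain ⟨g₂, D₂⟩ := exists_side (bc L ρ) hI' hB hB1 hgb (B5 h) (by rw [← cube]; exact h.gbB) x₂.2
    (fun h => hx₂1 (Subtype.ext h)) hodd (congrArg Subtype.val hx₂r)
  obtain ⟨e11, -, e10⟩ := chars (ρ := bc L ρ) h h5 fun h1 => hA1 (bc_injective L hρ (h1.trans (map_one _).symm))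
  obtain ⟨s, hs⟩ := semi_bc L ρ
  rw [ZMod.card] at hs
  have h1 := five_mul_le (t := orderOf ((2 : ℕ) : ZMod r))
    (hodd' r fun h => hrne ((Nat.prime_dvd_prime_iff_eq Nat.prime_two hr).1 h).symm) D₁ D₂
    (fun y hy z hz => L4_comm_M4 S hy hz) hs (fun α hα => by
      rcases sq_eq_one_iff.1 hα with h | h
      · exact h
      · rw [h, CharTwo.neg_eq]) (fun α h1 h2 => card_Or hr h1 h2) e11 e10
  rw [cod_bc, hord] at h1
  obtain ⟨i, hi1, hii, hix⟩ := suz_inv hI hodd hx₁r hx₁1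
  obtain ⟨g, hg⟩ := inverts S hFu hR (by rw [hK']; exact dvd_pow_self 2 (by omega)) i.2
    (fun h => hi1 (Subtype.ext h)) (congrArg Subtype.val hii) x₁.2 (congrArg Subtype.val hix) hd hd1
  have h2 := cod_le_of_inverts (ρ := ρ) (by
    rw [← MulAut.conj_apply, MulEquiv.orderOf_eq, Subgroup.orderOf_coe, hx₁]; exact hodd) hg
  rw [cod_zpowers_conj] at h2
  omega

end Cfsg.Agent.TwoF.DC.TF.F2
end

-- part: TwoF/DC/TFG/F2/Main
section
/-!
# TwoF, `²F₄(q)` in characteristic two: the row (helper88)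
-/

set_option autoImplicit false

namespace Cfsg.Agent.TwoF.DC.TF

open Cfsg Cfsg.Lie Cfsg.Agent.TwoF.Gen Subgroup

theorem F2.row {K : Type} [Field K] [Fintype K] {m : ℕ} (hm : 1 ≤ m) (hK : Fintype.card K = 2 ^ (2 * m + 1)) :
    Row 2 ↥(twistedF4 K (2 ^ m)) := by
  have hout : ¬ 2 ∣ Nat.card (Out ↥(twistedF4 K (2 ^ m))) := by
    rw [S2128.result hm hK]; omega
  refine ⟨row88_of_sit fun Y _ _ V _ _ _ L ρ π φ H A hA => ⟨A, hA, by_contra fun hn => ?_⟩, row89_of_not_dvd hout⟩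
  have hL := H.toFrm.le_of_not_dvd (elemAb_isPGroup hA.1) hout
  have hZ := Nat.dvd_one.1 (H.toFrm.card_center_dvd' H.toStp.perfect (S2114.result hm hK))
  have hπ : Function.Injective π := by
    rw [← MonoidHom.ker_eq_bot_iff, H.toFrm.ker_π]
    exact card_eq_one.1 hZ
  let e := MulEquiv.ofBijective π ⟨hπ, H.toFrm.surj⟩
  let j : ↥(twistedF4 K (2 ^ m)) →* Y := L.subtype.comp e.symm.toMonoidHom
  have hj : Function.Injective j := L.subtype_injective.comp e.symm.injective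
  have hA' : (A.comap j).map j = A := map_comap_eq_self fun a ha => ⟨e ⟨a, hL ha⟩, by simp only [j, _root_.MulEquiv.toMonoidHom_eq_coe, _root_.MonoidHom.coe_comp, _root_.Subgroup.coe_subtype, _root_.MonoidHom.coe_coe, _root_.Function.comp_apply, _root_.MulEquiv.symm_apply_apply]⟩
  have := Cfsg.Agent.ChevalleyStructure.TwF4.Twisted.charP_two hK
  obtain ⟨ψ, hψ⟩ := Cfsg.Agent.ChevalleyStructure.TwF4.TwistedFix.exists_rln hK
  have hK' : Nat.card K = 2 ^ (2 * m + 1) := by rw [Nat.card_eq_fintype_card, hK]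
  have hF : ∃ c : Kˣ, c ≠ 1 := by
    have h1 : 1 < Nat.card Kˣ := by
      rw [Nat.card_units, hK']
      have : 2 ^ 3 ≤ 2 ^ (2 * m + 1) := Nat.pow_le_pow_right (by norm_num) (by omega)
      omega
    have : Nontrivial Kˣ := Finite.one_lt_card_iff_nontrivial.1 h1
    exact exists_ne 1
  have h2 : ∀ a ∈ A.comap j, a * a = 1 := fun a ha => hj (by
    rw [map_mul, map_one, ← pow_two]; exact hA.1.2 _ ha)
  have h1 := F2.card_le_five (KFacts.TwF4.Inst.full hK hψ) hF rfl (A := A.comap j)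
    (fun a ha b hb => hj (by rw [map_mul, map_mul]; exact elemAb_comm hA.1 ha hb)) h2
  rw [← card_map_of_injective hj, hA', hK', ← pow_mul] at h1
  obtain ⟨⟨d, hd⟩, hd1⟩ := ne_bot_iff_exists_ne_one.1 hA.2.1
  obtain ⟨d', hd', rfl⟩ := hA'.ge hd
  have h3 := F2.ten_le hm hK (ρ.comp j) (H.toStp.faithful.comp hj) (h2 d' hd') fun h =>
    hd1 (Subtype.ext (by show j d' = 1; rw [h, map_one]))
  rw [cod_comp, MonoidHom.map_zpowers] at h3
  have h4 := cod_add_three_le_of_not_cub hA.1 hn hd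
  have h5 := hA.2.2.trans (Nat.pow_le_pow_left h1 2)
  rw [← pow_mul, Nat.pow_le_pow_iff_right (by norm_num)] at h5
  omega

/-- **the large Ree groups in characteristic two** -/
theorem tf4 : TBox fun p S _ => p = 2 ∧ Lie.Iso2F4 S := by
  rintro p _ S _ _ _ ⟨rfl, K, _, _, m, hm, hK, ⟨e⟩⟩
  exact (F2.row hm hK).of_equiv e

end Cfsg.Agent.TwoF.DC.TF
end

-- part: TwoF/Alt/Big
section
/-!
# Characteristic two, degree at least ten
-/

set_option autoImplicit false

namespace Cfsg.Agent.TwoF.Alt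

open Module Equiv Equiv.Perm Gen H189 H189.Cyc H189.Emb

variable {Y : Type} [Group Y] [Finite Y] {V : Type} [AddCommGroup V] [Module (ZMod 2) V] [Finite V]
  {K : Subgroup Y} {ρ : Representation (ZMod 2) Y V} {n : ℕ} {ψ : Y →* Perm (Fin n)}

theorem T2.yall (T : T2 K ρ ψ) (hn : 10 ≤ n) :
    ∃ N, YL ρ ψ N ∧ 16 ≤ N ∧ (12 ≤ n → 24 ≤ N) ∧ (14 ≤ n → 8 * (n / 2) ≤ N + 24) := by
  by_cases h1 : 14 ≤ n
  · refine ⟨_, T.ybig h1, ?_⟩
    split_ifs <;> omega
  by_cases h2 : 12 ≤ n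
  · exact ⟨_, T.y24 h2, by omega⟩
  · exact ⟨_, T.y16 hn, by omega⟩

theorem T2.big (T : T2 K ρ ψ) (hn : 10 ≤ n) {A : Subgroup Y} (hA : Off 2 ρ A) : False := by
  obtain ⟨r, hr, hc, hcod⟩ := hA.exists_card
  have E := T.ea hA.1 hc
  have h1 := E.rk
  rw [Fintype.card_fin] at h1
  have hX := T.x12 hn
  obtain ⟨N, hY, n1, n2, n3⟩ := T.yall hn
  have le : ∀ a ∈ A, cod ρ (Subgroup.zpowers a) ≤ cod ρ A := fun a ha => cod_mono (Subgroup.zpowers_le.2 ha)
  rcases E.cases hr (by rw [Fintype.card_fin]; omega) with ⟨a, ha, h2, w, hw⟩ | ⟨h2, a, ha, u, w, hu, hw⟩ |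
    ⟨h2, a, ha, h3⟩
  · have h3 := T.good hY (E.sq ha) h2 hw
    have h4 := le a ha
    obtain ⟨j, j1, j2⟩ : ∃ j, ¬ 2 ^ (j + 1) ∣ Fintype.card (Fin n) ∧
        (n = 10 ∧ j = 1 ∨ n = 11 ∧ j = 0 ∨ n = 12 ∧ j = 2 ∨ n = 13 ∧ j = 0) := by
      rw [Fintype.card_fin]
      obtain rfl | rfl | rfl | rfl : n = 10 ∨ n = 11 ∨ n = 12 ∨ n = 13 := by omega
      exacts [⟨1, by decide⟩, ⟨0, by decide⟩, ⟨2, by decide⟩, ⟨0, by decide⟩]
    obtain ⟨w, -, h5⟩ := exists_small_orb (ψ := ψ) Nat.prime_two hc j1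
    obtain ⟨i, -, e, E'⟩ := E.stab w
    have h6 : i ≤ j := (Nat.pow_le_pow_iff_right (by norm_num)).1 (e ▸ h5)
    rcases E'.pair (by (clear * - hcod n1 n2 h3 h4 j2 h6; omega)) with ⟨b, hb, u, hu, c, hc, hcu, h7⟩ | h7
    · have h8 := T.k1 hX hc.1 hb.1 (E.sq hc.1) (E.sq hb.1) (E.comm c hc.1 b hb.1) hu hb.2 hcu hc.2
      have h9 := T.good hY (E.sq hc.1) h7 hc.2
      (clear * - hcod h1 n1 n2 j2 h8 h9; omega)
    obtain ⟨c, hc, u, hu⟩ := E'.exists_ne (by (clear * - hcod n1 h3 h4 j2 h6; omega))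
    have h8 := h7 u (two_le_orb hc hu)
    have lt : ∀ (S : Finset (Fin n)) (l : ℕ), S.card = 2 ^ l → l < 4 := fun S l e =>
      (Nat.pow_lt_pow_iff_right (a := 2) (by norm_num)).1 (by
        have := Finset.card_le_univ S
        rw [Fintype.card_fin] at this
        omega)
    have h9 := lt _ _ h8
    obtain ⟨l, -, e', E''⟩ := E.stab u
    have h10 := lt _ _ e'
    obtain ⟨b, hb, y, hy⟩ := E''.exists_ne (by omega)
    have h11 := T.k2 hX hY hc.1 hb.1 (E.sq hc.1) (E.sq hb.1) (O := orb ψ (stb ψ A w) u)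
      (by rw [h8, show r - i = 3 by (clear * - hcod n1 n2 h3 h4 j2 h6 h9; omega)]; decide) (fun x hx => ⟨move_orb E'.comm hx hc hu, orb_maps hx hc,
        fix_orb E.comm (orb_mono (stb_le A w) u hx) hb.1 hb.2⟩) hy
    (clear * - hcod n1 n2 j2 h6 h9 h11; omega)
  · have h3 := T.xfix hX (E.sq ha) hu hw
    have h4 := le a ha
    omega
  · have h4 := T.big4 hY (E.sq ha) h3
    have h5 := le a ha
    rw [Fintype.card_fin] at h2
    by_cases h6 : 14 ≤ n
    · have h7 := Nat.le_of_dvd (by omega) h2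
      have h8 := Nat.pow_le_pow_right (n := 2) (by norm_num) (show n / 2 - 7 + 4 ≤ r by (clear * - hcod n3 h4 h5 h6; omega))
      have h9 := Nat.lt_two_pow_self (n := n / 2 - 7)
      rw [pow_add] at h8
      omega
    · have h7 := (pow_dvd_pow 2 (show 2 ≤ r by omega)).trans h2
      have h8 := (pow_dvd_pow 2 (show 3 ≤ r by (clear * - hn hcod n2 h4 h5 h7; omega))).trans h2
      omega

theorem row_big (hn : 10 ≤ n) : Row 2 (alternatingGroup (Fin n)) :=
  ⟨row88_of_fr (by omega) fun _ _ _ _ _ _ _ _ _ _ F _ hA =>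
      (F.nat_or (F.inj_two rfl (by omega)) (Or.inl (by omega))).elim (fun ⟨B, _, h⟩ => ⟨B, h⟩)
        fun T => (T.big hn hA).elim,
    row89_of_fr (by omega) fun _ _ _ _ _ _ _ _ _ _ F _ hA _ _ _ _ =>
      (F.nat_or (F.inj_two rfl (by omega)) (Or.inl (by omega))).elim (fun ⟨B, h, h', _⟩ => ⟨B, h, h'⟩)
        fun T => (T.big hn hA).elim⟩

end Cfsg.Agent.TwoF.Alt
end

-- part: TwoF/Alt/Nine
section
/-!
# Characteristic two, degree nine
-/

set_option autoImplicit false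

namespace Cfsg.Agent.TwoF.Alt

open Module Equiv Equiv.Perm Gen H189 H189.Cyc H189.Emb

variable {Y : Type} [Group Y] [Finite Y] {V : Type} [AddCommGroup V] [Module (ZMod 2) V] [Finite V]
  {K : Subgroup Y} {ρ : Representation (ZMod 2) Y V} {ψ : Y →* Perm (Fin 9)} {A : Subgroup Y}

theorem T2.nine_odd (T : T2 K ρ ψ) (hA : Off 2 ρ A) (hK : ¬ A ≤ K) : False := by
  obtain ⟨r, hr, hc, hcod⟩ := hA.exists_card
  have E := T.ea hA.1 hc
  obtain ⟨a₀, h0, h0'⟩ := SetLike.not_le_iff_exists.1 hK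
  obtain ⟨hX, h12⟩ := T.x8 le_rfl ⟨a₀, h0'⟩
  obtain ⟨w, hw⟩ := E.exists_fix (by decide)
  have six : ∀ a ∈ A, ∀ u, ψ a u ≠ u → 6 ≤ cod ρ (Subgroup.zpowers a) := fun a ha u hu => by
    rcases h12 with h | h
    · have := T.xfix h (E.sq ha) hu (mem_fix.1 hw a ha)
      omega
    rcases big_or_swap (E.sq ha) hu with h1 | h1
    · have := T.good h (E.sq ha) h1 (mem_fix.1 hw a ha)
      omega
    · exact T.t6 le_rfl ⟨a₀, h0'⟩ a _ _ hu.symm h1
  have eight : ∀ B ≤ A, ∀ b ∈ B, ∀ u, ψ b u ≠ u → ∀ s, 0 < s → EA ψ (stb ψ B u) s → 8 ≤ cod ρ B :=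
    fun B hB b hb u hu s hs E' => by
      obtain ⟨a, ha, y, hy⟩ := E'.exists_ne hs
      have h1 := T.k1 hX ha.1 hb (E.sq (hB ha.1)) (E.sq (hB hb)) (E.comm a (hB ha.1) b (hB hb)) hu
        (mem_fix.1 hw b (hB hb)) ha.2 (mem_fix.1 hw a (hB ha.1))
      have h2 := six a (hB ha.1) y hy
      omega
  obtain ⟨u, h2⟩ := E.orb_odd h0 fun e => h0' ((T.mem a₀).2 e)
  obtain ⟨b, hb, hu⟩ := exists_of_two_le h2.ge
  obtain ⟨-, E'⟩ := E.of_two h2
  have h1 := E.rk
  have h3 := (six b hb u hu).trans (cod_mono (Subgroup.zpowers_le.2 hb))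
  have h4 := eight A le_rfl b hb u hu _ (by omega) E'
  have h5 := T.step1 E'.el (stb_le A u) hb (E.sq hb) (fun y hy => E.comm y hy.1 b hb) hu (mem_fix.1 hw b hb)
    (fun y hy => hy.2) fun y hy => mem_fix.1 hw y hy.1
  obtain ⟨c, hc, x, hx⟩ := E'.exists_ne (by omega)
  obtain ⟨j, -, e, E''⟩ := E'.stab x
  have h6 := E.fix_stb h2.ge
  have h7 := E'.fix_stb (two_le_orb hc hx)
  have h8 := Finset.card_le_univ (fix ψ (stb ψ (stb ψ A u) x))
  have h9 : 0 < (fix ψ A).card := Finset.card_pos.2 ⟨w, hw⟩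
  rw [Fintype.card_fin] at h1 h8
  have h10 : j < 3 := (Nat.pow_lt_pow_iff_right (a := 2) (by norm_num)).1 (by omega)
  have h11 := eight _ (stb_le A u) c hc x hx _ (by omega) E''
  omega

omit [Finite Y] [Finite V] in
/-- a four-group on four points is normalised by everything that normalises the four points -/
theorem T2.four (T : T2 K ρ ψ) {B : Subgroup Y} (E : EA ψ B 2) (hK : B ≤ K) {O : Finset (Fin 9)} (hO : O.card = 4)
    (h : ∀ b ∈ B, Sup (ψ b) O) {x : Y} (h1 : x ∈ K) (h2 : x * x = 1) (h3 : Sup (ψ x) O) : x ∈ B := by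
  let e : Fin 4 ↪ Fin 9 := (O.orderEmbOfFin hO).toEmbedding
  have he : ∀ x, (∀ i, e i ≠ x) → x ∉ O := fun x h hx => by
    rw [← Finset.mem_coe, ← O.range_orderEmbOfFin hO] at hx
    exact h _ hx.choose_spec
  have ex : ∀ y ∈ K, y * y = 1 → Sup (ψ y) O → ∃ σ : {σ : alternatingGroup (Fin 4) // σ * σ = 1},
      embP e σ.1 = ψ y := fun y h1 h2 h3 => by
    obtain ⟨σ, hσ⟩ := exists_emb e ⟨ψ y, mem_alternatingGroup.2 ((T.mem y).1 h1)⟩ fun x hx => h3 x (he x hx)
    refine ⟨⟨σ, emb_injective e ?_⟩, congrArg Subtype.val hσ⟩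
    rw [map_mul, hσ, map_one]
    exact Subtype.ext ((map_mul ψ y y).symm.trans (h2 ▸ map_one ψ))
  choose F hF using fun b : B => ex b (hK b.2) (E.sq b.2) (h b b.2)
  have hb : Function.Bijective F := (Nat.bijective_iff_injective_and_card F).2
    ⟨fun a b e' => Subtype.ext (T.inj (by rw [← hF, e', hF])), by
      rw [E.card, Nat.card_eq_fintype_card]; decide +kernel⟩
  obtain ⟨σ, hσ⟩ := ex x h1 h2 h3
  obtain ⟨b, rfl⟩ := hb.2 σ
  exact T.inj ((hF b).symm.trans hσ) ▸ b.2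

theorem T2.nine_even (T : T2 K ρ ψ) (hA : Off 2 ρ A) (hK : A ≤ K) : Cub ρ A := by
  by_contra hn
  obtain ⟨r, hr, hc, hcod⟩ := hA.exists_card
  have E := T.ea hA.1 hc
  have h1 := E.rk
  rw [Fintype.card_fin] at h1
  obtain rfl : r = 4 := by
    have := (Nat.pow_dvd_pow_iff_le_right (by norm_num)).1 (hc ▸ hA.pow_dvd_of_not_cub hn)
    rw [small_two] at this
    omega
  obtain ⟨w, hw⟩ := E.exists_fix (by decide)
  have h9 : 0 < (fix ψ A).card := Finset.card_pos.2 ⟨w, hw⟩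
  have orb4 : ∀ u, 2 ≤ (orb ψ A u).card → (orb ψ A u).card = 4 ∧ EA ψ (stb ψ A u) 2 := fun u hu => by
    obtain ⟨j, hj, e, E'⟩ := E.stab u
    have h2 := E.fix_stb hu
    have h3 := E'.rk
    have h4 : (orb ψ A u).card ≠ 2 := fun h => by
      have := E.rk_even (fun a ha => (T.mem a).1 (hK ha)) h
      rw [Fintype.card_fin] at this
      omega
    rw [Fintype.card_fin] at h3
    obtain rfl : j = 2 := by interval_cases j <;> omega
    exact ⟨e, E'⟩
  obtain ⟨d, hd, d1, -, hN, -⟩ := rank_four hA.1 hc hcod hn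
  obtain ⟨u, hu⟩ := exists_moved fun e => d1 (E.inj d hd e)
  obtain ⟨o1, E1⟩ := orb4 u (two_le_orb hd hu)
  obtain ⟨c, hc, v, hv⟩ := E1.exists_ne (by omega)
  obtain ⟨o2, E2⟩ := orb4 v (two_le_orb hc.1 hv)
  have dj : _root_.Disjoint (orb ψ A u) (orb ψ A v) := Finset.disjoint_left.2 fun x h2 h3 =>
    move_orb E.comm h3 hc.1 hv (fix_orb E.comm h2 hc.1 hc.2)
  have un : orb ψ A v ∪ fix ψ A = (orb ψ A u)ᶜ := by
    refine Finset.eq_of_subset_of_card_le (Finset.union_subset (fun x hx => ?_) fun x hx => ?_) ?_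
    · exact Finset.mem_compl.2 (Finset.disjoint_right.1 dj hx)
    · exact Finset.mem_compl.2 fun h => not_mem_fix (by omega) h hx
    · rw [Finset.card_union_of_disjoint (Finset.disjoint_left.2 fun x hx => not_mem_fix (by omega) hx),
        Finset.card_compl, Fintype.card_fin]
      omega
  have sp : ∀ b ∈ stb ψ A v, Sup (ψ b) (orb ψ A u) := fun b hb x hx => by
    rcases Finset.mem_union.1 (un ▸ Finset.mem_compl.2 hx) with h | h
    · exact fix_orb E.comm h hb.1 hb.2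
    · exact mem_fix.1 h b hb.1
  have tr : orb ψ (stb ψ A v) u = orb ψ A u := by
    obtain ⟨j, hj, e, E'⟩ := E2.stab u
    refine Finset.eq_of_subset_of_card_le (orb_mono (stb_le A v) u) ?_
    rcases hj.eq_or_lt with rfl | hj
    · rw [e, o1]; rfl
    obtain ⟨a, ha, y, hy⟩ := E'.exists_ne (by omega)
    exact (hy (by_cases (fun h : y ∈ orb ψ A u => fix_orb E.comm h ha.1.1 ha.2) (sp a ha.1 y))).elim
  obtain ⟨y, hy, h2⟩ := Finset.exists_mem_notMem_of_card_lt_card (s := {u, ψ d u}) (t := orb ψ A u)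
    (Finset.card_le_two.trans_lt (by omega))
  simp only [Finset.mem_insert, Finset.mem_singleton, not_or] at h2
  obtain ⟨g, gK, hg⟩ := T.lift _ (sign_c3 hu.symm (Ne.symm h2.2))
  have sg : Sup (ψ g) (orb ψ A u) := hg ▸ sup_c3 (self_mem_orb A u) (mem_orb.2 ⟨d, hd, rfl⟩) hy
  have h3 := hN g (Subgroup.mem_normalizer_fintype fun x hx => by
    obtain ⟨b, hb, e⟩ := mem_orb.1 (tr ▸ mem_orb.2 ⟨x, hx, rfl⟩ : ψ x u ∈ orb ψ (stb ψ A v) u)
    have m : b⁻¹ * x ∈ A := mul_mem (inv_mem hb.1) hx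
    have h4 : g * (b⁻¹ * x) = b⁻¹ * x * g := T.comm (sg.comm fun z hz => fix_orb E.comm hz m (by
      rw [map_mul, Perm.mul_apply, ← e, map_inv, inv_apply_self]))
    have h5 := T.four E2 ((stb_le A v).trans hK) o1 sp (T.normal.conj_mem b (hK hb.1) g)
      (by rw [conj_mul, E.sq hb.1, mul_one, mul_inv_cancel])
      (by rw [map_mul, map_mul, map_inv]; exact (sp b hb).conj fun z hz => sg.mem hz)
    have h6 := mul_mem h5.1 m
    rwa [show g * b * g⁻¹ * (b⁻¹ * x) = g * b * (g⁻¹ * (b⁻¹ * x * g)) * g⁻¹ by group, ← h4,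
      show g * b * (g⁻¹ * (g * (b⁻¹ * x))) * g⁻¹ = g * x * g⁻¹ by group] at h6)
  have h4 := app_comm (ψ := ψ) h3 (ψ d u)
  rw [app_app (E.sq hd), hg, c3_fst hu.symm (Ne.symm h2.1), c3_snd (Ne.symm h2.1) (Ne.symm h2.2)] at h4
  exact h2.1 ((ψ d).injective h4).symm

theorem row_nine : Row 2 (alternatingGroup (Fin 9)) :=
  ⟨row88_of_fr (by omega) fun _ _ _ _ _ _ _ K _ _ F A hA =>
      (F.nat_or (F.inj_two rfl (by omega)) (Or.inl (by omega))).elim (fun ⟨B, _, h⟩ => ⟨B, h⟩)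
        fun T => ⟨A, hA, T.nine_even hA (not_not.1 (T.nine_odd hA))⟩,
    row89_of_fr (by omega) fun _ _ _ _ _ _ _ _ _ _ F _ hA _ _ _ hK =>
      (F.nat_or (F.inj_two rfl (by omega)) (Or.inl (by omega))).elim (fun ⟨B, h, h', _⟩ => ⟨B, h, h'⟩)
        fun T => (T.nine_odd hA hK).elim⟩

end Cfsg.Agent.TwoF.Alt
end

-- part: TwoF/Alt/Seven
section
/-!
# Characteristic two, degree seven
-/

set_option autoImplicit false

namespace Cfsg.Agent.TwoF.Alt

open Module Equiv Equiv.Perm Gen H189 H189.Cyc H189.Emb H47.Kill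
open scoped commutatorElement

variable {Y : Type} [Group Y] [Finite Y] {V : Type} [AddCommGroup V] [Module (ZMod 2) V] [Finite V]
  {K : Subgroup Y} {ρ : Representation (ZMod 2) Y V} {ψ : Y →* Perm (Fin 7)} {A : Subgroup Y}

omit [Finite V] in
/-- a transposition inverts the centre of the triple cover -/
theorem Fr.inj_seven (F : Fr 2 K ρ ψ) (hz : ψ.ker ≤ Subgroup.center Y) {y : Y} (hy : y ∉ K) :
    Function.Injective ψ := by
  have : Fact (Nat.Prime 3) := ⟨by norm_num⟩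
  let x : alternatingGroup (Fin 7) := cc 0 1 2 (by decide) (by decide)
  let x' : alternatingGroup (Fin 7) := cc 3 4 5 (by decide) (by decide)
  obtain ⟨a, ha⟩ := F.pr_surj x
  obtain ⟨b, hb⟩ := F.pr_surj x'
  have ha' : ψ a = c3 0 1 2 := congrArg Subtype.val ha
  have hb' : ψ b = c3 3 4 5 := congrArg Subtype.val hb
  obtain ⟨s, hs⟩ := F.lift_all hy (swap 3 4)
  have hxy : ψ a * ψ b = ψ b * ψ a := by rw [ha', hb']; decide +kernel
  have h8 : ⁅(a : Y), (b : Y)⁆ = 1 := by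
    generalize (a : Y) = a at ha' hxy
    generalize (b : Y) = b at hb' hxy
    have hc : ψ ⁅a, b⁆ = 1 := by
      rw [map_commutatorElement, commutatorElement_eq_one_iff_mul_comm]; exact hxy
    obtain ⟨u, hu, h1⟩ : ∃ u, ψ u = 1 ∧ s * a * s⁻¹ = a * u := by
      apply exists_eq_mul
      rw [map_mul, map_mul, map_inv, hs, ha']; decide +kernel
    obtain ⟨w, hw, h2⟩ : ∃ w, ψ w = 1 ∧ s * b * s⁻¹ = b⁻¹ * w := by
      apply exists_eq_mul
      rw [map_mul, map_mul, map_inv, map_inv, hs, hb']; decide +kernel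
    have h3 : s * ⁅a, b⁆ * s⁻¹ = ⁅a, b⁆ := by
      rw [H47.Kill.ker_comm hz hc s, mul_inv_cancel_right]
    have h4 : s * ⁅a, b⁆ * s⁻¹ = ⁅a * u, b⁻¹ * w⁆ := by
      rw [← h1, ← h2]; simp only [commutatorElement_def]; group
    have h5 : ⁅a * u, b⁻¹ * w⁆ = ⁅a, b⁻¹⁆ := by
      have hu' := H47.Kill.ker_comm hz hu
      have hw' := H47.Kill.ker_comm hz hw
      simp only [commutatorElement_def]
      calc a * u * (b⁻¹ * w) * (a * u)⁻¹ * (b⁻¹ * w)⁻¹
          = a * (u * (b⁻¹ * w)) * u⁻¹ * a⁻¹ * w⁻¹ * b := by group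
        _ = a * (b⁻¹ * w) * a⁻¹ * w⁻¹ * b := by rw [← hu' (b⁻¹ * w)]; group
        _ = a * b⁻¹ * (w * a⁻¹) * w⁻¹ * b := by group
        _ = a * b⁻¹ * a⁻¹ * b⁻¹⁻¹ := by rw [← hw' a⁻¹]; group
    have h6 : ⁅a, b⁻¹⁆ = ⁅a, b⁆⁻¹ := by
      have h7 := H47.Kill.ker_comm hz (by rw [map_inv, hc, inv_one] : ψ (⁅a, b⁆⁻¹) = 1) b⁻¹
      calc ⁅a, b⁻¹⁆ = b⁻¹ * ⁅a, b⁆⁻¹ * b := by simp only [commutatorElement_def]; group
        _ = ⁅a, b⁆⁻¹ := by rw [h7]; group
    have h7 : ⁅a, b⁆ * ⁅a, b⁆ = 1 := by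
      have : ⁅a, b⁆ = ⁅a, b⁆⁻¹ := by rw [← h6, ← h5, ← h4, h3]
      nth_rw 2 [this]
      exact mul_inv_cancel _
    exact eq_one_of_sq_of_odd (n := 3) (by decide) h7 (comm_pow hz hxy (by rw [ha']; decide +kernel))
  have hi : ¬ 3 ∣ (Subgroup.closure {x, x'}).index :=
    not_dvd_index (k := 2) (m := 280) (by rw [nat_card_alternatingGroup, Nat.card_eq_fintype_card]; decide)
      (by decide) (sq_dvd_card (by decide +kernel) (by decide +kernel) (by decide +kernel) (by decide +kernel)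
        fun h => absurd (zp_fix (ψ := (alternatingGroup (Fin 7)).subtype) (u := 3) (by decide +kernel) x' h)
          (by decide +kernel))
  have h3 : ¬ 3 ∣ Nat.card ψ.ker := not_dvd_of_pow hi fun z hz1 => by
    have h9 := exists_comm F.pr_surj (fun g hg => Subgroup.mem_center_iff.2 fun h => Subtype.ext
      (F.ker_comm (congrArg Subtype.val hg) h.2)) F.perfect.commutator_eq_top (by decide +kernel) ha hb
      (z := ⟨z, F.ker_mem hz1⟩) (Subtype.ext hz1)
    rw [show ⁅a, b⁆ = 1 from Subtype.ext h8, Subgroup.zpowers_one_eq_bot, Subgroup.mem_bot] at h9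
    exact congrArg Subtype.val h9
  have h4 := F.not_dvd
  have h5 := F.six
  have h6 := Nat.le_of_dvd (by norm_num) h5
  refine Fr.inj_of_card ?_
  interval_cases Nat.card ψ.ker <;> omega

theorem T2.seven (T : T2 K ρ ψ) (hA : Off 2 ρ A) (hK : ¬ A ≤ K) : ∃ B ≤ K, Off 2 ρ B := by
  by_contra hno
  obtain ⟨r, hr, hc, hcod⟩ := hA.exists_card
  have E := T.ea hA.1 hc
  obtain ⟨hT, hY, h8⟩ := T.small ((SetLike.not_le_iff_exists.1 hK).imp fun _ h => h.2)
  obtain ⟨w, hw⟩ := E.exists_fix (by decide)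
  have four : ∀ a ∈ A, ∀ u, ψ a u ≠ u → 4 ≤ cod ρ (Subgroup.zpowers a) := fun a ha u hu => by
    rcases big_or_swap (E.sq ha) hu with h1 | h1
    · have := T.good hY (E.sq ha) h1 (mem_fix.1 hw a ha)
      omega
    · exact hT a _ _ hu.symm h1
  have two : ∀ B ≤ A, ¬ B ≤ K → ∀ s, EA ψ B s → ∃ b ∈ B, ∃ u, ψ b u ≠ u ∧ EA ψ (stb ψ B u) (s - 1) ∧
      cod ρ (stb ψ B u) + 1 ≤ cod ρ B := fun B hB hK s E' => by
    obtain ⟨a, h0, h0'⟩ := SetLike.not_le_iff_exists.1 hK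
    obtain ⟨u, h2⟩ := E'.orb_odd h0 fun e => h0' ((T.mem a).2 e)
    obtain ⟨b, hb, hu⟩ := exists_of_two_le h2.ge
    exact ⟨b, hb, u, hu, (E'.of_two h2).2, T.step1 (E'.of_two h2).2.el (stb_le B u) hb (E'.sq hb)
      (fun y hy => E'.comm y hy.1 b hb) hu (mem_fix.1 hw b (hB hb)) (fun y hy => hy.2)
      fun y hy => mem_fix.1 hw y (hB hy.1)⟩
  have five : ∀ B ≤ A, EA ψ B 2 → 5 ≤ cod ρ B := fun B hB E' => by
    by_cases h : B ≤ K
    · exact le_of_not_gt fun h1 => hno ⟨B, h, off_of_card E'.el (by norm_num) E'.card (by omega)⟩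
    obtain ⟨b, hb, u, hu, E'', h1⟩ := two B hB h 2 E'
    obtain ⟨a, ha, x, hx⟩ := E''.exists_ne (by omega)
    have := (four a (hB ha.1) x hx).trans (cod_mono (Subgroup.zpowers_le.2 ha))
    omega
  obtain ⟨b, hb, u, hu, E', h1⟩ := two A le_rfl hK r E
  have h2 := (four b hb u hu).trans (cod_mono (Subgroup.zpowers_le.2 hb))
  have h3 := E.rk
  rw [Fintype.card_fin] at h3
  obtain rfl | rfl : r = 2 ∨ r = 3 := by omega
  · have := five A le_rfl E
    omega
  rcases h8 with h | h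
  · have h4 := T.stepX h (stb_le A u) hb (E.sq hb) (fun y hy => E.comm y hy.1 b hb) hu (mem_fix.1 hw b hb)
      (fun y hy => hy.2) fun y hy => mem_fix.1 hw y hy.1
    have := five _ (stb_le A u) E'
    omega
  · obtain ⟨a, ha, h4⟩ := E'.exists_big le_rfl
    have h5 := T.good h (E.sq ha.1) h4 ha.2
    have := cod_mono (ρ := ρ) (Subgroup.zpowers_le.2 ha)
    omega

theorem row_seven : Row 2 (alternatingGroup (Fin 7)) := by
  refine ⟨row88_of_fr le_rfl fun _ _ _ _ _ _ _ _ _ ψ F A hA => ⟨A, hA, hA.cub ?_⟩,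
    row89_of_fr le_rfl fun _ _ _ _ _ _ _ K ρ ψ F A hA _ h1 h2 hK => ?_⟩
  · obtain ⟨r, -, hc, -⟩ := hA.exists_card
    have := EA.rk (ψ := ψ) ⟨hA.1, fun a ha => F.eq_one' (hA.1.2 a ha), hc⟩
    rw [Fintype.card_fin] at this
    rw [hc, small_two]
    exact Nat.pow_le_pow_right (by norm_num) (by omega)
  obtain ⟨y, -, hy⟩ := SetLike.not_le_iff_exists.1 hK
  have hz : ψ.ker ≤ Subgroup.center _ := fun z hz => Subgroup.mem_center_iff.2 fun g => by
    have h3 : K ⊔ A ≤ Subgroup.centralizer {z} := sup_le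
      (fun x hx => Subgroup.mem_centralizer_singleton_iff.2 (F.ker_comm hz hx)) fun a ha =>
        Subgroup.mem_centralizer_singleton_iff.2 (F.faithful (by
          rw [map_mul, map_mul]
          exact (h2 (ρ z) (fun x hx => by rw [← map_mul, ← map_mul, F.ker_comm hz hx]) a ha).symm))
    exact Subgroup.mem_centralizer_singleton_iff.1 (h3 (h1 ▸ Subgroup.mem_top g))
  exact (F.nat_or (F.inj_seven hz hy) (Or.inr ⟨y, hy⟩)).elim (fun ⟨B, h, h', _⟩ => ⟨B, h, h'⟩) fun T => T.seven hA hK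

end Cfsg.Agent.TwoF.Alt
end

-- part: TwoF/Alt/SixB
section
/-!
# TwoF, `A₆`: irreducible `𝔽₂ S₆`-modules

`S₆ = Sp₄(2)`: either `(0 2)(1 3)` has codimension at most two, or every non-trivial 2-subgroup has codimension at
least eight (`six`).  The proof is the trichotomy of the 0-Hecke algebra on the fixed vectors of a Sylow 2-subgroup.
-/

set_option autoImplicit false

namespace Cfsg.Agent.TwoF.Alt.Six

open Module Gen Equiv

abbrev G := Perm (Fin 6)

/-- a product of transpositions -/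
def W (l : List (Fin 6 × Fin 6)) : G := l.foldr (fun x g => swap x.1 x.2 * g) 1

def t : G := W [(4, 5)]
def s : G := W [(0, 1), (2, 3), (4, 5)]
def c : G := W [(0, 1), (1, 2)]
def d : G := W [(0, 2), (2, 4), (1, 3), (3, 5)]
def z : G := W [(0, 2), (1, 3)]

def code (g : G) : ℕ :=
  (g 0).val + 6 * ((g 1).val + 6 * ((g 2).val + 6 * ((g 3).val + 6 * ((g 4).val + 6 * (g 5).val))))

theorem code_lt (g : G) : code g < 46656 := by
  unfold code; omega

theorem code_inj {g h : G} (e : code g = code h) : g = h := by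
  unfold code at e
  ext i
  fin_cases i <;> simp only [Fin.zero_eta, Fin.mk_one, Fin.reduceFinMk] <;> (clear * - e; solve | lia | omega)

def key (x g : G) : ℕ := code (g * x * g⁻¹)

def keyB (g : G) : ℕ := key t g + 46656 * key s g

theorem comm_of_key {x g h : G} (e : key x g = key x h) : h⁻¹ * g * x = x * (h⁻¹ * g) := by
  have h1 := code_inj e
  calc h⁻¹ * g * x = h⁻¹ * (g * x * g⁻¹) * g := by group
    _ = x * (h⁻¹ * g) := by rw [h1]; group

/-- insert or delete -/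
def tog (a : ℕ) (l : List ℕ) : List ℕ :=
  List.rec (motive := fun _ => List ℕ) [a] (fun b l r => cond (Nat.beq a b) l (b :: r)) l

/-- every entry occurs an even number of times -/
def ev (l : List ℕ) : Bool := (l.foldr tog []).isEmpty

theorem sum_tog {V : Type*} [AddCommGroup V] (h2 : ∀ x : V, x + x = 0) (F : ℕ → V) (a : ℕ) (l : List ℕ) :
    ((tog a l).map F).sum = F a + (l.map F).sum := by
  induction l with
  | nil => rfl
  | cons b l ih =>
    change ((cond (Nat.beq a b) l (b :: tog a l)).map F).sum = _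
    cases h : Nat.beq a b with
    | true => rw [cond_true, Nat.eq_of_beq_eq_true h, List.map_cons, List.sum_cons, ← add_assoc, h2, zero_add]
    | false => rw [cond_false, List.map_cons, List.sum_cons, ih, List.map_cons, List.sum_cons, add_left_comm]

theorem sum_ev {V α : Type*} [AddCommGroup V] (h2 : ∀ x : V, x + x = 0) (f : α → V) (k : α → ℕ)
    (hk : ∀ g h, k g = k h → f g = f h) (L : List α) (h : ev (L.map k) = true) : (L.map f).sum = 0 := by
  classical
  let F : ℕ → V := fun n => if h : ∃ g, k g = n then f h.choose else 0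
  have hF : ∀ g, F (k g) = f g := fun g => by
    have h1 : ∃ g', k g' = k g := ⟨g, rfl⟩
    simp only [F, dif_pos h1]
    exact hk _ _ h1.choose_spec
  have h1 : ∀ l : List ℕ, ((l.foldr tog []).map F).sum = (l.map F).sum := fun l => by
    induction l with
    | nil => rfl
    | cons a l ih => rw [List.foldr_cons, sum_tog h2, ih, List.map_cons, List.sum_cons]
  have h3 := h1 (L.map k)
  rw [List.isEmpty_iff.1 h, List.map_map] at h3
  rw [show f = F ∘ k from funext fun g => (hF g).symm, ← h3]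
  rfl

/-- all products -/
def pl (A B : List G) : List G := A.flatMap fun a => B.map (a * ·)

def BL : List G :=
  List.map W [[], [(4, 5)], [(2, 3)], [(2, 3), (4, 5)], [(0, 1)], [(0, 1), (4, 5)], [(0, 1), (2, 3)],
    [(0, 1), (2, 3), (4, 5)], [(0, 2), (1, 3)], [(0, 2), (1, 3), (4, 5)], [(0, 2), (1, 3), (2, 3)],
    [(0, 2), (1, 3), (2, 3), (4, 5)], [(0, 3), (1, 2), (2, 3)], [(0, 3), (1, 2), (2, 3), (4, 5)],
    [(0, 3), (1, 2)], [(0, 3), (1, 2), (4, 5)]]

def E1 : List G := [1, c, c * c]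
def E2 : List G := [1, d, d * d]
def T1 : List G := [c, c * c]
def T2 : List G := [d, d * d]

/-- the Sylow 2-subgroup -/
def B : Subgroup G := Subgroup.centralizer {t} ⊓ Subgroup.centralizer {s}

theorem mem_B {g : G} : g ∈ B ↔ g * t = t * g ∧ g * s = s * g := by
  simp only [B, Subgroup.mem_inf, Subgroup.mem_centralizer_singleton_iff]

theorem BL_all : ∀ g : G, (g * t = t * g ∧ g * s = s * g) ↔ g ∈ BL := by (simp only [↓Cfsg.Agent.PermCode.M, Cfsg.Agent.PermCode.P6.R, Cfsg.Agent.PermCode.B]; decide +kernel)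
theorem BL_nodup : BL.Nodup := by decide +kernel
theorem P1_all : ∀ g : G, g * t = t * g → ev ((pl [g] E1 ++ E1).map keyB) = true := by (delta code key keyB; simp only [↓Cfsg.Agent.PermCode.M, Cfsg.Agent.PermCode.P6.R, Cfsg.Agent.PermCode.B]; decide +kernel)
theorem P2_all : ∀ g : G, g * s = s * g → ev ((pl [g] E2 ++ E2).map keyB) = true := by (delta code key keyB; simp only [↓Cfsg.Agent.PermCode.M, Cfsg.Agent.PermCode.P6.R, Cfsg.Agent.PermCode.B]; decide +kernel)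
private noncomputable def kc (x : ℕ) : ℕ :=
  PermCode.ap x (0 : Fin 6) + 6 * (PermCode.ap x (1 : Fin 6) + 6 * (PermCode.ap x (2 : Fin 6) + 6 * (PermCode.ap x (3 : Fin 6) +
    6 * (PermCode.ap x (4 : Fin 6) + 6 * PermCode.ap x (5 : Fin 6)))))

private noncomputable def kB (x : ℕ) : ℕ :=
  kc (PermCode.P6.mc (PermCode.P6.mc x (PermCode.P6.cd t)) (PermCode.P6.ic x)) +
    46656 * kc (PermCode.P6.mc (PermCode.P6.mc x (PermCode.P6.cd s)) (PermCode.P6.ic x))

private theorem kB_eq : keyB = kB ∘ PermCode.P6.cd := funext fun g => by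
  delta keyB key code
  simp only [PermCode.P6.R]
  rfl

private theorem pl_cd (A B : List G) : (pl A B).map PermCode.P6.cd =
    (A.map PermCode.P6.cd).flatMap fun a => (B.map PermCode.P6.cd).map (PermCode.P6.mc a) := by
  simp only [pl, List.map_flatMap, List.flatMap_map, List.map_map, Function.comp_def, PermCode.P6.cd_mul]

theorem braid : ev ((pl E1 (pl E2 (pl E1 E2)) ++ pl E2 (pl E1 (pl E2 E1))).map keyB) = true := by
  rw [kB_eq, ← List.map_map, List.map_append]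
  simp only [pl_cd]
  decide +kernel
theorem cell : ev ((pl T1 (pl T2 (pl T1 T2)) ++ pl BL [c * d * c * d]).map keyB) = true := by
  rw [kB_eq, ← List.map_map, List.map_append]
  simp only [pl_cd]
  decide +kernel
theorem d_s : d * s = s * d ∧ d * d * s = s * (d * d) := by decide +kernel

theorem gen_all : ∀ i : Fin 5, swap i.castSucc i.succ * t = t * swap i.castSucc i.succ ∨
    swap i.castSucc i.succ = d * swap 1 2 * d⁻¹ := by decide +kernel

theorem s12 : swap 1 2 * t = t * swap 1 2 := by decide +kernel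

theorem mem_BL {g : G} : g ∈ BL.toFinset ↔ g ∈ B := by rw [List.mem_toFinset, mem_B, BL_all]

theorem card_B : Nat.card B = 2 ^ 4 := by
  rw [Nat.subtype_card BL.toFinset fun _ => mem_BL, List.toFinset_card_of_nodup BL_nodup]
  rfl

theorem B_two : IsPGroup 2 B := IsPGroup.of_card card_B

theorem exists_conj_le {A : Subgroup G} (hA : IsPGroup 2 A) : ∃ g : G, A.map (MulAut.conj g).toMonoidHom ≤ B := by
  have h1 : ¬ 2 ∣ B.index := by
    have h2 := B.card_mul_index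
    rw [card_B, Nat.card_perm, Nat.card_eq_fintype_card, Fintype.card_fin] at h2
    norm_num [Nat.factorial] at h2
    omega
  obtain ⟨Q, hQ⟩ := hA.exists_le_sylow
  obtain ⟨g, hg⟩ := MulAction.exists_smul_eq G Q (B_two.toSylow h1)
  refine ⟨g, (Subgroup.map_mono hQ).trans (le_of_eq ?_)⟩
  exact congrArg (fun P : Sylow 2 G => (P : Subgroup G)) hg

/-- certificate that `z g v - g v` lies in the span of two vectors -/
def crt (x : G) (R : List G) (y₁ y₂ : G) (e : List (Fin 6 × Fin 6) × Bool × Bool × List (List (Fin 6 × Fin 6))) :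
    Bool :=
  ev (([z * W e.1, W e.1] ++ (cond e.2.1 [z * y₁, y₁] [] ++ (cond e.2.2.1 [z * y₂, y₂] [] ++
    pl (e.2.2.2.map W) R))).map (key x))

def C1 : List (List (Fin 6 × Fin 6) × Bool × Bool × List (List (Fin 6 × Fin 6))) :=
  [([], false, false, []),
   ([(3, 4)], true, false, []),
   ([(3, 5)], true, false, [[(1, 2), (3, 4)], [(1, 2), (3, 5)]]),
   ([(2, 4)], false, true, []),
   ([(2, 5)], false, true, [[(3, 4)], [(3, 5)], [(1, 4)], [(1, 5)], [(1, 2), (3, 4)], [(1, 2), (3, 5)]]),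
   ([(1, 4)], true, false, []),
   ([(1, 5)], true, false, [[(1, 2), (3, 4)], [(1, 2), (3, 5)]]),
   ([(0, 4)], false, true, []),
   ([(0, 5)], false, true, [[(3, 4)], [(3, 5)], [(1, 4)], [(1, 5)], [(1, 2), (3, 4)], [(1, 2), (3, 5)]]),
   ([(2, 4), (3, 5)], true, true, [[(3, 5)], [(1, 5)], [(1, 2), (3, 4)], [(1, 2), (3, 5)]]),
   ([(1, 4), (3, 5)], false, false, []),
   ([(1, 4), (2, 5)], true, true, [[], [(3, 5)], [(1, 3)], [(1, 5)], [(1, 2), (3, 4)], [(1, 2), (3, 5)]]),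
   ([(0, 4), (3, 5)], true, true, [[], [(3, 5)], [(1, 3)], [(1, 5)], [(1, 2), (3, 4)], [(1, 2), (3, 5)]]),
   ([(0, 4), (2, 5)], false, false, []),
   ([(0, 4), (1, 5)], true, true, [[(3, 5)], [(1, 5)], [(1, 2), (3, 4)], [(1, 2), (3, 5)]])]

def C2 : List (List (Fin 6 × Fin 6) × Bool × Bool × List (List (Fin 6 × Fin 6))) :=
  [([], false, false, []),
   ([(3, 4)], true, false, []),
   ([(3, 5)], true, false, [[(3, 5)], [(2, 5)], [(1, 4)], [(0, 4)]]),
   ([(1, 2)], false, false, []),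
   ([(1, 3)], false, false, []),
   ([(1, 4)], true, false, []),
   ([(1, 5)], true, false, [[(3, 5)], [(2, 5)], [(1, 4)], [(0, 4)]]),
   ([(1, 2), (3, 4)], false, true, []),
   ([(1, 2), (3, 5)], false, true, []),
   ([(1, 3), (3, 4)], true, true, [[(3, 4)], [(1, 4)]]),
   ([(1, 3), (3, 5)], true, true, [[(2, 5)], [(1, 4)], [(1, 5)], [(0, 4)]]),
   ([(1, 4), (2, 4)], false, true, [[(3, 5)], [(2, 4)], [(1, 5)], [(0, 4)]]),
   ([(1, 4), (3, 4)], true, true, [[(3, 4)], [(1, 4)]]),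
   ([(1, 5), (2, 5)], false, true, [[(3, 5)], [(2, 4)], [(1, 5)], [(0, 4)]]),
   ([(1, 5), (3, 5)], true, true, [[(2, 5)], [(1, 4)], [(1, 5)], [(0, 4)]])]

theorem C1_ok : ∀ e ∈ C1, crt t E2 (W [(3, 4)]) (W [(2, 4)]) e = true := by decide +kernel
theorem C2_ok : ∀ e ∈ C2, crt s E1 (W [(3, 4)]) (W [(1, 2), (3, 4)]) e = true := by decide +kernel
theorem C1_all : ∀ g : G, ∃ e ∈ C1, key t g = key t (W e.1) := by (delta code key; simp only [↓Cfsg.Agent.PermCode.M, Cfsg.Agent.PermCode.P6.R, Cfsg.Agent.PermCode.B]; decide +kernel)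
theorem C2_all : ∀ g : G, ∃ e ∈ C2, key s g = key s (W e.1) := by (delta code key; simp only [↓Cfsg.Agent.PermCode.M, Cfsg.Agent.PermCode.P6.R, Cfsg.Agent.PermCode.B]; decide +kernel)

variable {V : Type} [AddCommGroup V] [Module (ZMod 2) V] {ρ : Representation (ZMod 2) G V}

theorem add_self (x : V) : x + x = 0 := by
  rw [← two_smul (ZMod 2) x, show (2 : ZMod 2) = 0 from rfl, zero_smul]

theorem eq_of_add {x y : V} (h : x + y = 0) : x = y := by
  rw [← add_zero x, ← add_self y, ← add_assoc, h, zero_add]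

/-- the sum of the operators in a list -/
def S (ρ : Representation (ZMod 2) G V) (L : List G) : Module.End (ZMod 2) V := (L.map ρ).sum

theorem S_append (L M : List G) : S ρ (L ++ M) = S ρ L + S ρ M := by
  unfold S; rw [List.map_append, List.sum_append]

theorem S_cons (g : G) (L : List G) : S ρ (g :: L) = ρ g + S ρ L := by
  unfold S; rw [List.map_cons, List.sum_cons]

theorem S_nil : S ρ [] = 0 := rfl

theorem S_pl (L M : List G) : S ρ (pl L M) = S ρ L * S ρ M := by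
  induction L with
  | nil => rw [S_nil, zero_mul]; rfl
  | cons a L ih =>
    rw [show pl (a :: L) M = M.map (a * ·) ++ pl L M from rfl, S_append, ih, S_cons, add_mul]
    congr 1
    unfold S
    rw [← List.sum_map_mul_left, List.map_map]
    congr 1
    exact List.map_congr_left fun g _ => map_mul ρ a g

theorem S_apply (L : List G) (v : V) : S ρ L v = (L.map fun g => ρ g v).sum := by
  induction L with
  | nil => rfl
  | cons a L ih => rw [S_cons, LinearMap.add_apply, ih, List.map_cons, List.sum_cons]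

theorem rho_eq {g h : G} {v : V} (e : ρ (h⁻¹ * g) v = v) : ρ g v = ρ h v := by
  conv_rhs => rw [← e, ← rho_mul, mul_inv_cancel_left]

theorem S_evB {v : V} (hv : v ∈ fx ρ B) {L : List G} (h : ev (L.map keyB) = true) : S ρ L v = 0 := by
  rw [S_apply]
  refine sum_ev add_self _ _ (fun g h e => rho_eq (hv _ (mem_B.2 ?_))) L h
  have h1 : key t g < 46656 := code_lt _
  have h2 : key t h < 46656 := code_lt _
  unfold keyB at e
  exact ⟨comm_of_key (by omega), comm_of_key (by omega)⟩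

theorem S_ev {x : G} {v : V} (hv : ∀ g, g * x = x * g → ρ g v = v) {L : List G} (h : ev (L.map (key x)) = true) :
    S ρ L v = 0 := by
  rw [S_apply]
  exact sum_ev add_self _ _ (fun g h e => rho_eq (hv _ (comm_of_key e))) L h

theorem fix_E {v : V} (hv : v ∈ fx ρ B) {g : G} {E : List G} (h : ev ((pl [g] E ++ E).map keyB) = true) :
    ρ g (S ρ E v) = S ρ E v := by
  have h1 := S_evB hv h
  rw [S_append, S_pl, S_cons, S_nil, add_zero] at h1
  exact eq_of_add h1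

theorem eq_zero_of_fix (hf : Function.Injective ρ) (hi : Irr ρ ⊤) {v : V} (h1 : ∀ g, g * t = t * g → ρ g v = v)
    (h2 : ∀ g, g * s = s * g → ρ g v = v) : v = 0 := by
  have h3 : fx ρ ⊤ = ⊥ := hi.fx_eq_bot hf (by rw [Subgroup.normalizer_eq_top]) top_ne_bot
  have h4 : v ∈ fx ρ ⊤ := by
    intro g _
    have h5 : (stab ρ v).toSubmonoid = ⊤ := by
      rw [eq_top_iff, ← Perm.mclosure_swap_castSucc_succ 5, Submonoid.closure_le]
      rintro _ ⟨i, rfl⟩
      rcases gen_all i with h | h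
      · exact h1 _ h
      · have h6 : d ∈ stab ρ v := h2 _ d_s.1
        change swap i.castSucc i.succ ∈ stab ρ v
        rw [h]
        exact mul_mem (mul_mem h6 (h1 _ s12)) (inv_mem h6)
    exact (h5 ▸ Submonoid.mem_top g : g ∈ (stab ρ v).toSubmonoid)
  rw [h3] at h4
  exact h4

variable [Finite V]

theorem nat_type (hi : Irr ρ ⊤) {x y₁ y₂ : G} {R : List G} {v : V} (h0 : v ≠ 0)
    (hv : ∀ g, g * x = x * g → ρ g v = v) (hR : S ρ R v = 0)
    {C : List (List (Fin 6 × Fin 6) × Bool × Bool × List (List (Fin 6 × Fin 6)))}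
    (h1 : ∀ e ∈ C, crt x R y₁ y₂ e = true) (h2 : ∀ g : G, ∃ e ∈ C, key x g = key x (W e.1)) :
    cod ρ (Subgroup.zpowers z) ≤ 2 := by
  classical
  let U : Submodule (ZMod 2) V := Submodule.span _ (({S ρ [z * y₁, y₁] v, S ρ [z * y₂, y₂] v} : Finset V) : Set V)
  have hU1 : S ρ [z * y₁, y₁] v ∈ U := Submodule.subset_span (by simp)
  have hU2 : S ρ [z * y₂, y₂] v ∈ U := Submodule.subset_span (by simp)
  have h3 : ∀ g, (ρ z - 1) (ρ g v) ∈ U := fun g => by
    obtain ⟨e, he, h4⟩ := h2 g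
    have h5 := S_ev hv (h1 e he)
    rw [S_append, S_append, S_append, S_pl] at h5
    simp only [LinearMap.add_apply, Module.End.mul_apply, hR, map_zero, add_zero] at h5
    have h6 : (ρ z - 1) (ρ g v) = S ρ [z * W e.1, W e.1] v := by
      rw [rho_eq (hv _ (comm_of_key h4)), S_cons, S_cons, S_nil, add_zero, LinearMap.add_apply, rho_mul,
        LinearMap.sub_apply, Module.End.one_apply, sub_eq_iff_eq_add, add_assoc, add_self, add_zero]
    rw [h6, eq_of_add h5]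
    refine add_mem ?_ ?_
    · cases e.2.1
      · exact zero_mem _
      · exact hU1
    · cases e.2.2.1
      · exact zero_mem _
      · exact hU2
  have h4 : Submodule.span (ZMod 2) (Set.range fun g => ρ g v) = ⊤ := by
    refine (hi _ fun b _ w hw => ?_).resolve_left fun e => h0 ?_
    · refine Submodule.mem_comap.1 (Submodule.span_le.2 ?_ hw)
      rintro _ ⟨g, rfl⟩
      exact Submodule.subset_span ⟨b * g, rho_mul ρ b g v⟩
    · rw [← Submodule.mem_bot (ZMod 2), ← e]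
      exact Submodule.subset_span ⟨1, rho_one ρ v⟩
  have h5 : LinearMap.range (ρ z - 1) ≤ U := by
    rw [LinearMap.range_eq_map, ← h4, Submodule.map_span_le]
    rintro _ ⟨g, rfl⟩
    exact h3 g
  rw [cod_zpowers]
  exact (Submodule.finrank_mono h5).trans ((finrank_span_finset_le_card _).trans Finset.card_le_two)

omit [Finite V] in
theorem indep {w : V} (h : S ρ BL w ≠ 0) : LinearIndependent (ZMod 2) fun u : B => ρ u w := by
  classical
  rw [Fintype.linearIndependent_iff]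
  by_contra hn
  let τ : Representation (ZMod 2) B (B → ZMod 2) :=
    { toFun := fun b => LinearMap.funLeft _ _ fun u => b⁻¹ * u
      map_one' := by ext f u; simp only [_root_.inv_one, _root_.one_mul, _root_.LinearMap.coe_comp, _root_.LinearMap.coe_single, _root_.Function.comp_apply, _root_.LinearMap.funLeft_apply, _root_.Module.End.one_apply]
      map_mul' := fun a b => by ext f u; simp only [mul_assoc, _root_.mul_inv_rev, _root_.LinearMap.coe_comp, _root_.LinearMap.coe_single, _root_.Function.comp_apply, _root_.LinearMap.funLeft_apply, _root_.Module.End.mul_apply] }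
  let L : (B → ZMod 2) →ₗ[ZMod 2] V := Fintype.linearCombination (ZMod 2) fun u : B => ρ u w
  have hL : ∀ f, L f = ∑ u : B, f u • ρ u w := fun f => Fintype.linearCombination_apply _ _ f
  obtain ⟨f, hf, h0, h1⟩ := Lib.PGroupFixedVector.exists_mem_ne_zero_fixed_rep B_two τ (LinearMap.ker L)
    (fun b f hf => by
      rw [LinearMap.mem_ker, hL] at hf ⊢
      have h2 := congrArg (ρ b) hf
      rw [map_sum, map_zero] at h2
      rw [← h2, ← Equiv.sum_comp (Equiv.mulLeft b)]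
      refine Finset.sum_congr rfl fun u _ => ?_
      rw [map_smul, ← rho_mul]
      simp only [τ, _root_.MonoidHom.coe_mk, _root_.OneHom.coe_mk, _root_.Equiv.coe_mulLeft, _root_.LinearMap.funLeft_apply, _root_.inv_mul_cancel_left, _root_.Subgroup.coe_mul, _root_.map_mul, _root_.Module.End.mul_apply])
    (fun e => hn fun f hf => congrFun ((Submodule.mem_bot _).1 (e ▸ (LinearMap.mem_ker.2 ((hL f).trans hf)))))
  have h2 : ∀ u, f u = f 1 := fun u => by
    have := congrFun (h1 u) u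
    simpa only [τ, _root_.MonoidHom.coe_mk, _root_.OneHom.coe_mk, _root_.LinearMap.funLeft_apply, _root_.inv_mul_cancel] using this.symm
  rw [LinearMap.mem_ker, hL] at hf
  simp only [h2, ← Finset.smul_sum] at hf
  refine h ?_
  rw [S_apply, ← List.sum_toFinset _ BL_nodup, Finset.sum_subtype _ fun _ => mem_BL]
  exact (smul_eq_zero.1 hf).resolve_left fun e => h0 (funext fun u => (h2 u).trans e)

theorem eight {w : V} (h : S ρ BL w ≠ 0) {A : Subgroup G} (hA : IsPGroup 2 A) (h1 : A ≠ ⊥) : 8 ≤ cod ρ A := by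
  classical
  obtain ⟨g, hg⟩ := exists_conj_le hA
  rw [← cod_conj g]
  have h2 : A.map (MulAut.conj g).toMonoidHom ≠ ⊥ := fun e =>
    h1 ((Subgroup.map_eq_bot_iff_of_injective _ (MulAut.conj g).injective).1 e)
  have h3 := hA.map (MulAut.conj g).toMonoidHom
  generalize A.map (MulAut.conj g).toMonoidHom = A' at hg h2 h3
  have hi := indep h
  have h4 := orbit_bound (ρ := ρ) hi.iSupIndep_span_singleton
    ((MulAction.toPermHom B B).comp (Subgroup.inclusion hg)) (fun a u v hv => by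
      obtain ⟨r, rfl⟩ := Submodule.mem_span_singleton.1 hv
      rw [map_smul, ← rho_mul]
      exact Submodule.smul_mem _ _ (Submodule.mem_span_singleton_self _))
    Finset.univ (fun _ _ _ => Finset.mem_univ _) 2 (fun u _ => le_card_range_of_isPGroup h3 _ (by
      obtain ⟨⟨a, ha⟩, h5⟩ := (Subgroup.ne_bot_iff_exists_ne_one).1 h2
      exact ⟨⟨a, ha⟩, fun e => h5 (Subtype.ext (mul_eq_right.1 (congrArg Subtype.val e : a * u = u)))⟩))
    (U := ⊤) fun _ _ => le_top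
  rw [codOn_top, Finset.sum_congr rfl fun u _ => finrank_span_singleton (hi.ne_zero u), Finset.sum_const,
    Finset.card_univ, ← Nat.card_eq_fintype_card, card_B] at h4
  simp only [smul_eq_mul] at h4
  omega

/-- the trichotomy -/
theorem six (hf : Function.Injective ρ) (hi : Irr ρ ⊤) :
    cod ρ (Subgroup.zpowers z) ≤ 2 ∨ ∀ A : Subgroup G, IsPGroup 2 A → A ≠ ⊥ → 8 ≤ cod ρ A := by
  have ht : (⊤ : Submodule (ZMod 2) V) ≠ ⊥ := fun e =>
    (top_ne_bot : (⊤ : Subgroup G) ≠ ⊥) (eq_bot_of_fx_eq_top hf (eq_top_iff.2 (e ▸ bot_le)))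
  obtain ⟨v, ⟨-, hv⟩, h0⟩ := (Submodule.ne_bot_iff _).1 (inf_fx_ne_bot B_two (inv_top B) ht)
  have f1 : ∀ v ∈ fx ρ B, ∀ g, g * t = t * g → ρ g (S ρ E1 v) = S ρ E1 v := fun v hv g h => fix_E hv (P1_all g h)
  have f2 : ∀ v ∈ fx ρ B, ∀ g, g * s = s * g → ρ g (S ρ E2 v) = S ρ E2 v := fun v hv g h => fix_E hv (P2_all g h)
  have m1 : ∀ v ∈ fx ρ B, S ρ E1 v ∈ fx ρ B := fun v hv g h => f1 v hv g (mem_B.1 h).1
  have m2 : ∀ v ∈ fx ρ B, S ρ E2 v ∈ fx ρ B := fun v hv g h => f2 v hv g (mem_B.1 h).2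
  have n1 : ∀ v ∈ fx ρ B, S ρ E1 v ≠ 0 → S ρ E2 (S ρ E1 v) = 0 → cod ρ (Subgroup.zpowers z) ≤ 2 :=
    fun v hv h1 h2 => nat_type hi h1 (f1 v hv) h2 C1_ok C1_all
  have n2 : ∀ v ∈ fx ρ B, S ρ E2 v ≠ 0 → S ρ E1 (S ρ E2 v) = 0 → cod ρ (Subgroup.zpowers z) ≤ 2 :=
    fun v hv h1 h2 => nat_type hi h1 (f2 v hv) h2 C2_ok C2_all
  have hb : S ρ E1 (S ρ E2 (S ρ E1 (S ρ E2 v))) = S ρ E2 (S ρ E1 (S ρ E2 (S ρ E1 v))) := by
    have h1 := S_evB hv braid
    rw [S_append, S_pl, S_pl, S_pl, S_pl, S_pl, S_pl] at h1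
    exact (eq_of_add h1 :)
  have hz : S ρ E1 (S ρ E2 (S ρ E1 (S ρ E2 v))) = 0 :=
    eq_zero_of_fix hf hi (f1 _ (m2 _ (m1 _ (m2 _ hv)))) (hb ▸ f2 _ (m1 _ (m2 _ (m1 _ hv))))
  by_contra hn
  rw [not_or] at hn
  have k1 : ∀ v ∈ fx ρ B, S ρ E2 (S ρ E1 v) = 0 → S ρ E1 v = 0 := fun v hv h => by
    by_contra h1; exact hn.1 (n1 v hv h1 h)
  have k2 : ∀ v ∈ fx ρ B, S ρ E1 (S ρ E2 v) = 0 → S ρ E2 v = 0 := fun v hv h => by
    by_contra h1; exact hn.1 (n2 v hv h1 h)
  have e2 : S ρ E2 v = 0 := k2 v hv (k1 _ (m2 _ hv) (k2 _ (m1 _ (m2 _ hv)) hz))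
  have e1 : S ρ E1 v = 0 := k1 v hv (k2 _ (m1 _ hv) (k1 _ (m2 _ (m1 _ hv)) (hb ▸ hz)))
  have t1 : S ρ T1 v = v := by
    rw [show E1 = 1 :: T1 from rfl, S_cons, LinearMap.add_apply, rho_one] at e1
    exact (eq_of_add e1).symm
  have t2 : S ρ T2 v = v := by
    rw [show E2 = 1 :: T2 from rfl, S_cons, LinearMap.add_apply, rho_one] at e2
    exact (eq_of_add e2).symm
  have h1 := S_evB hv cell
  rw [S_append, S_pl, S_pl, S_pl, S_pl] at h1
  simp only [LinearMap.add_apply, Module.End.mul_apply, t1, t2] at h1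
  exact hn.2 fun A hA h2 => eight (fun e => h0 ((eq_of_add h1).trans e)) hA h2

end Cfsg.Agent.TwoF.Alt.Six
end

-- part: TwoF/Alt/SixA
section
/-!
# TwoF, `A₆`: elementary abelian 2-subgroups of `Aut A₆`
-/

set_option autoImplicit false

namespace Cfsg.Agent.TwoF.Alt.Six

open Gen Equiv Cfsg.Agent.StdAlt.Six

/-- conjugation by a permutation -/
def θ : Perm (Fin 6) →* MulAut A6 := MulAut.conjNormal

theorem θ_val (σ : Perm (Fin 6)) (x : A6) : (θ σ x : Perm (Fin 6)) = σ * x * σ⁻¹ := rfl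

theorem ns_iff {α : MulAut A6} : NS α ↔ α ∈ θ.range :=
  ⟨fun ⟨σ, h⟩ => ⟨σ, MulEquiv.ext fun x => Subtype.ext (h x).symm⟩, fun ⟨σ, h⟩ => ⟨σ, fun x => h ▸ θ_val σ x⟩⟩

theorem cent_aux : ∀ σ : Perm (Fin 6), σ * c0 * σ⁻¹ = c0 → σ * f0 * σ⁻¹ = f0 → σ * d0 * σ⁻¹ = d0 → σ = 1 := by
  simp only [↓Cfsg.Agent.PermCode.M, Cfsg.Agent.PermCode.P6.R, Cfsg.Agent.PermCode.B]
  decide +kernel

theorem θ_inj : Function.Injective θ := (injective_iff_map_eq_one θ).2 fun σ h =>
  cent_aux σ (by rw [← show (C0 : Perm (Fin 6)) = c0 from rfl, ← θ_val, h]; rfl)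
    (by rw [← show (F0 : Perm (Fin 6)) = f0 from rfl, ← θ_val, h]; rfl)
    (by rw [← show (D0 : Perm (Fin 6)) = d0 from rfl, ← θ_val, h]; rfl)

theorem θ_coe (x : A6) : θ x = MulAut.conj x := MulEquiv.ext fun _ => Subtype.ext rfl

theorem conj_inj : Function.Injective (MulAut.conj : A6 →* MulAut A6) := fun x y h =>
  Subtype.ext (θ_inj (by rw [θ_coe, θ_coe, h]))

theorem fix_of_comm {α : MulAut A6} {x : A6} (h : α * MulAut.conj x = MulAut.conj x * α) : α x = x :=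
  conj_inj (MulEquiv.ext fun y => by
    have h1 := congrArg (fun β : MulAut A6 => β (α⁻¹ y)) h
    simpa only [_root_.MulAut.conj_apply, _root_.MulAut.inv_apply, _root_.MulAut.mul_apply, _root_.map_mul, _root_.MulEquiv.apply_symm_apply, _root_.map_inv] using h1)

/-- an involution induced by a permutation that commutes with an automorphism of the other kind is inner -/
theorem inner_of_comm {α β : MulAut A6} (hα : ¬ NS α) (hβ : NS β) (h2 : β * β = 1) (h : α * β = β * α) :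
    ∃ x : A6, β = MulAut.conj x := by
  obtain ⟨σ, rfl⟩ := ns_iff.1 hβ
  rcases Int.units_eq_one_or (Perm.sign σ) with h1 | h1
  · exact ⟨⟨σ, Perm.mem_alternatingGroup.2 h1⟩, θ_coe ⟨σ, Perm.mem_alternatingGroup.2 h1⟩⟩
  · refine (hα (ns_of_odd h1 (θ_inj (by rw [map_mul, h2, map_one])) fun x hx => ?_)).elim
    have h3 : θ σ x = x := Subtype.ext (by rw [θ_val, ← hx, mul_inv_cancel_right])
    have h4 : θ σ (α x) = α x := by
      have := congrArg (fun β : MulAut A6 => β x) h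
      simp only [MulAut.mul_apply, h3] at this
      exact this.symm
    have h5 := congrArg Subtype.val h4
    rw [θ_val, mul_inv_eq_iff_eq_mul] at h5
    exact h5.symm

theorem not_ns_conj {α : MulAut A6} (hα : ¬ NS α) (w : A6) : ¬ NS (MulAut.conj w * α * (MulAut.conj w)⁻¹) :=
  not_ns_mul_right (not_ns_mul_left (NS.conj w) hα) (NS.conj w).inv

theorem conj_apply' (α : MulAut A6) (w x : A6) :
    (MulAut.conj w * α * (MulAut.conj w)⁻¹) (w * x * w⁻¹) = w * α x * w⁻¹ := by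
  simp only [mul_assoc, _root_.MulAut.mul_apply, _root_.MulAut.inv_apply, _root_.MulAut.conj_symm_apply, _root_.inv_mul_cancel_left, _root_.inv_mul_cancel, _root_.mul_one, _root_.MulAut.conj_apply]

/-- an automorphism of the other kind fixes no four-group pointwise -/
theorem eq_of_fix {α : MulAut A6} (hα : ¬ NS α) {x y : A6} (hx : x * x = 1) (hx1 : x ≠ 1) (hy : y * y = 1)
    (hy1 : y ≠ 1) (hxy : y * x = x * y) (h1 : α x = x) (h2 : α y = y) : y = x := by
  by_contra hne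
  obtain ⟨w, hw⟩ := exists_conj_Z0 hx hx1
  have h3 := conj_apply' α w x
  have h4 := conj_apply' α w y
  rw [h1, hw] at h3
  rw [h2] at h4
  have h5 := not_ns_conj hα w
  generalize MulAut.conj w * α * (MulAut.conj w)⁻¹ = β at h3 h4 h5
  have h6 : ∀ a : A6, β (a * Z0) = a * Z0 → β a = a := fun a h => by rwa [map_mul, h3, mul_left_inj] at h
  rcases cases_inv (w := w * y * w⁻¹) (by rw [← hw, conj_mul, conj_mul, hxy]) (by rw [conj_mul, hy]; simp)
    (fun e => hy1 (conj_eq_one_iff.1 e)) (fun e => hne (by rwa [← hw, mul_left_inj, mul_right_inj] at e)) with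
    h | h | h | h <;> rw [h] at h4
  · exact h5 (ns_of_a0 h3 (Or.inl h4))
  · exact h5 (ns_of_a0 h3 (Or.inl (h6 _ h4)))
  · exact h5 (ns_of_b0 h3 (Or.inl h4))
  · exact h5 (ns_of_b0 h3 (Or.inl (h6 _ h4)))

theorem exists_t {α : MulAut A6} (hα : ¬ NS α) (h2 : α * α = 1) {x : A6} (hx : x * x = 1) (hx1 : x ≠ 1)
    (h1 : α x = x) : ∃ t : A6, t * t = 1 ∧ t * x = x * t ∧ α t * t⁻¹ * (α t * t⁻¹) = x := by
  obtain ⟨w, hw⟩ := exists_conj_Z0 hx hx1
  have h3 := conj_apply' α w x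
  rw [h1, hw] at h3
  obtain ⟨f, h4, h5, -, -⟩ := exists_f h3 (not_ns_conj hα w) fun y => by
    rw [← MulAut.mul_apply, conj_mul, h2]; simp
  have h6 := conj_apply' α w (w⁻¹ * A0 * w)
  rw [show w * (w⁻¹ * A0 * w) * w⁻¹ = A0 by group] at h6
  rw [h6] at h4
  have h7 : x = w⁻¹ * Z0 * w := by rw [← hw]; group
  refine ⟨w⁻¹ * A0 * w, ?_, ?_, ?_⟩
  · calc w⁻¹ * A0 * w * (w⁻¹ * A0 * w) = w⁻¹ * (A0 * A0) * w := by group
      _ = 1 := by rw [A0_sq]; group
  · rw [h7]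
    calc w⁻¹ * A0 * w * (w⁻¹ * Z0 * w) = w⁻¹ * (A0 * Z0) * w := by group
      _ = _ := by rw [A0_Z0]; group
  · have h8 : α (w⁻¹ * A0 * w) * (w⁻¹ * A0 * w)⁻¹ = w⁻¹ * f⁻¹ * w := by rw [h4]; group
    rw [h8, h7]
    calc w⁻¹ * f⁻¹ * w * (w⁻¹ * f⁻¹ * w) = w⁻¹ * (f * f)⁻¹ * w := by group
      _ = _ := by rw [h5, inv_eq_of_mul_eq_one_right Z0_sq]

theorem card_inv : Fintype.card {x : A6 // x * x = 1 ∧ x ≠ 1} = 45 := by (simp only [↓Cfsg.Agent.PermCode.M, Cfsg.Agent.PermCode.P6.R, Cfsg.Agent.PermCode.B]; decide +kernel)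

theorem exists_fix {α : MulAut A6} (h2 : α * α = 1) : ∃ x : A6, x * x = 1 ∧ x ≠ 1 ∧ α x = x := by
  have := Fact.mk Nat.prime_two
  obtain ⟨x, hx⟩ := Perm.exists_fixed_point_of_prime (p := 2) (n := 1) (by rw [card_inv]; norm_num)
    (σ := Perm.subtypePerm (p := fun x : A6 => x * x = 1 ∧ x ≠ 1) α.toEquiv fun x => by
      change α x * α x = 1 ∧ α x ≠ 1 ↔ _
      rw [← map_mul, map_eq_one_iff _ α.injective, map_ne_one_iff _ α.injective])
    (by
      ext x
      exact congrArg (fun β : MulAut A6 => ((β x : A6) : Perm (Fin 6)) _ : MulAut A6 → ℕ) h2)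
  exact ⟨x, x.2.1, x.2.2, congrArg Subtype.val hx⟩

theorem sq_of {Y : Type*} [Group Y] {E : Subgroup Y} (hE : IsElementaryAbelian 2 E) {a : Y} (ha : a ∈ E) :
    a * a = 1 := by rw [← sq]; exact hE.2 a ha

theorem card_le_four {E : Subgroup (MulAut A6)} (hE : IsElementaryAbelian 2 E) {α : MulAut A6} (ha : α ∈ E)
    (hα : ¬ NS α) : Nat.card E ≤ 4 := by
  classical
  have h1 : ∀ β ∈ E, NS β → ∃ x : A6, β = MulAut.conj x ∧ x * x = 1 ∧ α x = x := fun β hb hβ => by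
    obtain ⟨x, rfl⟩ := inner_of_comm hα hβ (sq_of hE hb) (elemAb_comm hE ha hb)
    exact ⟨x, rfl, conj_inj (by rw [map_mul, sq_of hE hb, map_one]), fix_of_comm (elemAb_comm hE ha hb)⟩
  obtain ⟨γ, hγ⟩ : ∃ γ : MulAut A6, ∀ β ∈ E, NS β → β = 1 ∨ β = γ := by
    by_cases h : ∃ γ ∈ E, NS γ ∧ γ ≠ 1
    · obtain ⟨γ, h2, h3, h4⟩ := h
      obtain ⟨x, rfl, h5, h6⟩ := h1 γ h2 h3
      refine ⟨MulAut.conj x, fun β hb hβ => or_iff_not_imp_left.2 fun h7 => ?_⟩
      obtain ⟨y, rfl, h8, h9⟩ := h1 β hb hβ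
      rw [eq_of_fix hα h5 (fun e => h4 (by rw [e, map_one])) h8 (fun e => h7 (by rw [e, map_one]))
        (conj_inj (by rw [map_mul, map_mul, elemAb_comm hE hb h2])) h6 h9]
    · exact ⟨1, fun β hb hβ => Or.inl (by by_contra h2; exact h ⟨β, hb, hβ, h2⟩)⟩
  have h2 : (E : Set (MulAut A6)) ⊆ ({1, γ, α⁻¹, γ * α⁻¹} : Finset (MulAut A6)) := fun β hb => by
    simp only [Finset.coe_insert, Finset.coe_singleton, Set.mem_insert_iff, Set.mem_singleton_iff]
    by_cases h : NS β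
    · rcases hγ β hb h with h3 | h3
      · exact Or.inl h3
      · exact Or.inr (Or.inl h3)
    · rcases hγ _ (mul_mem hb ha) (NS.mul_of_not h hα) with h3 | h3
      · exact Or.inr (Or.inr (Or.inl (eq_inv_of_mul_eq_one_left h3)))
      · exact Or.inr (Or.inr (Or.inr (eq_mul_inv_of_mul_eq h3)))
  refine (Nat.card_mono (Finset.finite_toSet _) h2).trans ?_
  rw [Nat.card_coe_set_eq, Set.ncard_coe_finset]
  exact Finset.card_le_four

theorem card_le_eight (E : Subgroup (MulAut A6)) (hE : IsElementaryAbelian 2 E) : Nat.card E ≤ 8 := by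
  by_cases h : ∃ α ∈ E, ¬ NS α
  · obtain ⟨α, ha, hα⟩ := h
    exact (card_le_four hE ha hα).trans (by norm_num)
  · have h1 : E ≤ θ.range := fun α ha => ns_iff.1 (by by_contra h1; exact h ⟨α, ha, h1⟩)
    rw [← Subgroup.map_comap_eq_self h1, Subgroup.card_map_of_injective θ_inj]
    exact Omega.TwoF.AltRk.card_le _ fun x hx => θ_inj (by rw [map_mul, sq_of hE hx, map_one])

theorem row88 : Row88 2 A6 := row88_of_rank card_le_eight

end Cfsg.Agent.TwoF.Alt.Six
end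

-- part: TwoF/Alt/SixC
section
/-!
# TwoF, `A₆`: an offender with an element outside `S₆` (the case `PGL₂(9)`)
-/

set_option autoImplicit false

namespace Cfsg.Agent.TwoF.Alt.Six

open Module Gen Equiv Cfsg.Agent.StdAlt.Six

theorem rank_sq {k V : Type*} [Field k] [AddCommGroup V] [Module k V] [FiniteDimensional k V] (N : Module.End k V)
    (h : N * N * (N * N) = 0) : 3 * finrank k (LinearMap.range (N * N)) ≤ 2 * finrank k (LinearMap.range N) := by
  have key : ∀ P : Submodule k V, finrank k (P.map N) + finrank k ↥(P ⊓ LinearMap.ker N) = finrank k P := fun P => by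
    have h1 := LinearMap.finrank_range_add_finrank_ker (N.domRestrict P)
    rw [LinearMap.range_domRestrict, LinearMap.ker_domRestrict, ← Submodule.finrank_map_subtype_eq P,
      Submodule.map_comap_subtype] at h1
    exact h1
  have h1 := key (LinearMap.range N)
  have h2 := key (LinearMap.range (N * N))
  have e1 : (LinearMap.range N).map N = LinearMap.range (N * N) := (LinearMap.range_comp N N).symm
  rw [e1] at h1
  have h3 : (LinearMap.range (N * N)).map N ≤ LinearMap.range (N * N) ⊓ LinearMap.ker N := by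
    rintro _ ⟨_, ⟨v, rfl⟩, rfl⟩
    exact ⟨⟨N v, rfl⟩, LinearMap.congr_fun h v⟩
  have h4 : LinearMap.range (N * N) ⊓ LinearMap.ker N ≤ LinearMap.range N ⊓ LinearMap.ker N :=
    inf_le_inf_right _ (by rintro _ ⟨v, rfl⟩; exact ⟨N v, rfl⟩)
  have h5 := Submodule.finrank_mono h3
  have h6 := Submodule.finrank_mono h4
  omega

theorem mem_zpowers_two {Y : Type*} [Group Y] {j a : Y} (hj : j * j = 1) (ha : a ∈ Subgroup.zpowers j) :
    a = 1 ∨ a = j := by
  obtain ⟨n, rfl⟩ := Subgroup.mem_zpowers_iff.1 ha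
  have h2 : j ^ (2 : ℤ) = 1 := by rw [zpow_two, hj]
  obtain ⟨m, rfl | rfl⟩ := Int.even_or_odd' n
  · exact Or.inl (by rw [zpow_mul, h2, one_zpow])
  · exact Or.inr (by rw [zpow_add, zpow_mul, h2, one_zpow, one_mul, zpow_one])

theorem order_two {Y : Type*} [Group Y] {j : Y} (hj : j * j = 1) (h1 : j ≠ 1) : orderOf j = 2 :=
  orderOf_eq_prime (by rw [sq, hj]) h1

theorem four_of_sq {G : Type*} [Group G] {x : G} (h : x * x = 1) : x ^ 4 = 1 := by
  rw [show x ^ 4 = x * x * (x * x) by simp only [pow_succ, pow_zero, one_mul, mul_assoc], h, one_mul]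

/-- `(3 4 5)` -/
def C1' : A6 := ⟨swap 3 4 * swap 4 5, Perm.mem_alternatingGroup.2 (by decide)⟩
/-- `(0 1)(3 4)` -/
def J0 : A6 := ⟨swap 0 1 * swap 3 4, Perm.mem_alternatingGroup.2 (by decide)⟩

theorem C_facts : C1' * C0 = C0 * C1' ∧ C1' * C1' * C1' = 1 ∧ J0 * J0 = 1 ∧ J0 ≠ 1 ∧ J0 * C0 * J0⁻¹ = C0⁻¹ ∧
    J0 * C1' * J0⁻¹ = C1'⁻¹ ∧ C1' ≠ 1 ∧ C1' * C0 ≠ 1 ∧ C1' * (C0 * C0) ≠ 1 := by decide +kernel

variable {Y : Type} [Group Y] [Finite Y] {V : Type} [AddCommGroup V] [Module (ZMod 2) V] [Finite V]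
  {K : Subgroup Y} {ρ : Representation (ZMod 2) Y V} {π : K →* A6} {φ : Y →* MulAut A6}

omit [Finite Y] in
theorem cod_sq {u : Y} (h : u * u * (u * u) = 1) :
    3 * cod ρ (Subgroup.zpowers (u * u)) ≤ 2 * cod ρ (Subgroup.zpowers u) := by
  have h2 : ∀ g : Y, (ρ g - 1) * (ρ g - 1) = ρ (g * g) - 1 := fun g => by
    have h3 : (2 : Module.End (ZMod 2) V) = 0 := by
      have h4 := two_smul (ZMod 2) (1 : Module.End (ZMod 2) V)
      rw [show (2 : ZMod 2) = 0 from rfl, zero_smul, one_add_one_eq_two] at h4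
      exact h4.symm
    rw [map_mul]
    calc (ρ g - 1) * (ρ g - 1) = ρ g * ρ g - 1 + 2 * (1 - ρ g) := by noncomm_ring
      _ = _ := by rw [h3, zero_mul, add_zero]
  rw [cod_zpowers, cod_zpowers, ← h2]
  exact rank_sq _ (by rw [h2, h2, h, map_one, sub_self])

variable (H : Sit 2 K ρ π φ)
include H

omit [Finite V] in
theorem cube {z : Y} (hz : z ∈ Subgroup.centralizer (K : Set Y)) : z ^ 3 = 1 := by
  have h1 := H.toFrm.card_center_dvd' H.toStp.perfect (S2116.result 6 (Or.inl rfl))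
  have h2 : Nat.card (Subgroup.center K) ∣ 3 :=
    ((Nat.Prime.coprime_iff_not_dvd Nat.prime_two).2 H.cop).symm.dvd_of_dvd_mul_left h1
  rw [← H.toStp.card_centralizer] at h2
  exact orderOf_dvd_iff_pow_eq_one.1 ((Subgroup.orderOf_dvd_natCard _ hz).trans h2)

omit [Finite V] in
theorem lift2 {s : A6} (hs : s * s = 1) : ∃ x : K, π x = s ∧ x * x = 1 := by
  obtain ⟨x, rfl⟩ := H.surj s
  refine ⟨x * x * x, by rw [map_mul, map_mul, hs, one_mul], Subtype.ext ?_⟩
  have h1 := cube H (H.toFrm.π_eq_one_iff.1 (show π (x * x) = 1 by rw [map_mul, hs]))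
  rw [← show (x * x) ^ 3 = x * x * x * (x * x * x) by simp only [pow_succ, pow_zero, one_mul, mul_assoc]]
  exact h1

omit [Finite V] in
theorem uniq {x y : K} (h : π x = π y) (hx : x ^ 4 = 1) (hy : y ^ 4 = 1) : x = y := by
  have h1 := H.toFrm.π_eq_one_iff.1 (show π (y⁻¹ * x) = 1 by rw [map_mul, map_inv, h, inv_mul_cancel])
  have h2 : (y⁻¹ * x) ^ 3 = 1 := Subtype.ext (cube H h1)
  have h3 : Commute y (y⁻¹ * x) := Subtype.ext (h1 y y.2)
  have h4 : (y⁻¹ * x) ^ 4 = 1 := by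
    have := h3.mul_pow 4
    rw [mul_inv_cancel_left, hx, hy, one_mul] at this
    exact this.symm
  rw [pow_succ, h2, one_mul] at h4
  exact (inv_mul_eq_one.1 h4).symm

omit [Finite V] in
theorem π_ne {i : K} (h2 : i * i = 1) (h1 : i ≠ 1) : π i ≠ 1 := fun e =>
  h1 (uniq H (e.trans (map_one π).symm) (four_of_sq h2) (one_pow 4))

omit [Finite V] in
theorem cod_inv {i j : K} (hi : i * i = 1) (hi1 : i ≠ 1) (hj : j * j = 1) (hj1 : j ≠ 1) :
    cod ρ (Subgroup.zpowers (i : Y)) = cod ρ (Subgroup.zpowers (j : Y)) := by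
  obtain ⟨v, hv⟩ := exists_conj_Z0 (x := π i) (by rw [← map_mul, hi, map_one]) (π_ne H hi hi1)
  obtain ⟨w, hw⟩ := exists_conj_Z0 (x := π j) (by rw [← map_mul, hj, map_one]) (π_ne H hj hj1)
  obtain ⟨v, rfl⟩ := H.surj v
  obtain ⟨w, rfl⟩ := H.surj w
  have h1 : v * i * v⁻¹ = w * j * w⁻¹ := uniq H (by simp only [map_mul, map_inv, hv, hw])
    (by rw [conj_pow, four_of_sq hi]; simp) (by rw [conj_pow, four_of_sq hj]; simp)
  have h2 : (v : Y) * i * (v : Y)⁻¹ = w * j * (w : Y)⁻¹ := congrArg Subtype.val h1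
  rw [← cod_zpowers_conj (v : Y), h2, cod_zpowers_conj]

theorem four_le (hirr : Irr ρ K) {a : Y} (ha : ¬ NS (φ a)) {i : K} (hi : i * i = 1) (hi1 : i ≠ 1)
    (h3 : 3 ≤ cod ρ (Subgroup.zpowers (i : Y))) : 4 ≤ cod ρ (Subgroup.zpowers (i : Y)) := by
  have := Fact.mk Nat.prime_three
  have := H.normal
  have three : ∀ z : Y, z ^ 3 = 1 → IsPGroup 3 (Subgroup.zpowers z) := fun z hz => elemAb_isPGroup (elemAb_zpowers hz)
  have hk : ¬ 3 ∣ Nat.card (ZMod 2) := by rw [Nat.card_zmod]; norm_num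
  by_cases hZ : ∃ z ∈ Subgroup.centralizer (K : Set Y), z ≠ 1
  · obtain ⟨z, hz, hz1⟩ := hZ
    have h1 : fx ρ (Subgroup.zpowers z) = ⊥ := hirr.fx_eq_bot H.faithful
      (fun x hx => Subgroup.centralizer_le_normalizer _ fun y hy =>
        ((Subgroup.zpowers_le.2 hz hy : y ∈ Subgroup.centralizer (K : Set Y)) x hx).symm)
      fun e => hz1 (Subgroup.zpowers_eq_bot.1 e)
    have h2 : Inv ρ (Subgroup.zpowers z) (LinearMap.range (ρ i - 1)) := by
      rintro y hy _ ⟨v, rfl⟩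
      refine ⟨ρ y v, ?_⟩
      have h4 := (Subgroup.zpowers_le.2 hz hy : y ∈ Subgroup.centralizer (K : Set Y)) i i.2
      simp only [LinearMap.sub_apply, Module.End.one_apply, map_sub, ← rho_mul, h4]
    have h4 := pow_cod_modEq (ρ := resOn ρ h2) hk (X := (Subgroup.zpowers z).subgroupOf _)
      ((three z (cube H hz)).comap_of_injective _ (Subgroup.subtype_injective _))
    rw [cod_resOn_subgroupOf h2 le_rfl, codOn_of_inf_eq_bot (by rw [h1, inf_bot_eq]), ← cod_zpowers,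
      Nat.card_zmod] at h4
    by_contra h5
    rw [show cod ρ (Subgroup.zpowers (i : Y)) = 3 by omega] at h4
    exact absurd h4 (by decide)
  · have hπ : Function.Injective π := (injective_iff_map_eq_one π).2 fun x hx => Subtype.ext (by
      by_contra h1; exact hZ ⟨x, H.toFrm.π_eq_one_iff.1 hx, h1⟩)
    obtain ⟨f1, f2, f3, f4, f5, f6, f7, f8, f9⟩ := C_facts
    obtain ⟨x, hx⟩ := H.surj C0
    obtain ⟨y, hy⟩ := H.surj C1'
    obtain ⟨j, hj⟩ := H.surj J0
    have cj : ∀ u v : K, (∃ w, w * π u * w⁻¹ = π v) →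
        cod ρ (Subgroup.zpowers (v : Y)) = cod ρ (Subgroup.zpowers (u : Y)) := by
      rintro u v ⟨w, hw⟩
      obtain ⟨w, rfl⟩ := H.surj w
      rw [← hπ (show π (w * u * w⁻¹) = π v by rw [map_mul, map_mul, map_inv, hw])]
      exact cod_zpowers_conj (w : Y) (u : Y)
    have c3 : ∀ u : K, π u * π u * π u = 1 → π u ≠ 1 →
        cod ρ (Subgroup.zpowers (u : Y)) = cod ρ (Subgroup.zpowers (x : Y)) := fun u h1 h2 => by
      by_cases h4 : mv (π u) = 3
      · exact cj x u (isConj_iff.1 (alternatingGroup.isThreeCycle_isConj (by simp)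
          ((three_iff _).1 (by rw [hx]; exact mv_c0)) ((three_iff _).1 h4)))
      · have h5 := H.conj a x ⟨_, H.normal.conj_mem _ x.2 a⟩ rfl
        rw [← cod_zpowers_conj a (x : Y)]
        refine cj ⟨_, H.normal.conj_mem _ x.2 a⟩ u (conj_of_six ?_ ?_ ?_ h1 h2 h4) <;> rw [← h5, hx]
        · exact cube_map C0_cube
        · exact ne_map C0_ne
        · exact fun e => ha (ns_of_mv_three (by exact mv_c0) e)
    have hxy : y * x = x * y := hπ (by rw [map_mul, map_mul, hx, hy, f1])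
    have hx3 : x ^ 3 = 1 := hπ (by rw [map_pow, hx, map_one, pow_three', C0_cube])
    have hy3 : y ^ 3 = 1 := hπ (by rw [map_pow, hy, map_one, pow_three', f2])
    have hxy' : (y : Y) * x = x * y := congrArg Subtype.val hxy
    have hx3' : (x : Y) ^ 3 = 1 := congrArg Subtype.val hx3
    have hy3' : (y : Y) ^ 3 = 1 := congrArg Subtype.val hy3
    have h3k : ((3 : ℕ) : ZMod 2) ≠ 0 := by decide
    have h4 := sum_cod_rank_two (ρ := ρ) hxy' Nat.prime_three h3k hy3' hx3'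
    have cc : ∀ n : ℕ, C1' * C0 ^ n ≠ 1 →
        cod ρ (Subgroup.zpowers ((y : Y) * (x : Y) ^ n)) = cod ρ (Subgroup.zpowers (x : Y)) := fun n h =>
      c3 (y * x ^ n) (by
        rw [← map_mul, ← map_mul, ← pow_three', (Commute.pow_right hxy n).mul_pow, hy3, ← pow_mul, mul_comm n,
          pow_mul, hx3, one_pow, mul_one, map_one]) (by rwa [map_mul, map_pow, hx, hy])
    rw [Finset.sum_range_succ, Finset.sum_range_succ, Finset.sum_range_one, cc 0 (by rwa [pow_zero, mul_one]),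
      cc 1 (by rwa [pow_one]), cc 2 (by rwa [sq])] at h4
    have h5 : 0 < cod ρ (Subgroup.zpowers (x : Y)) := cod_pos H.faithful fun e =>
      C0_ne (by rw [← hx, show x = 1 from Subtype.ext (Subgroup.zpowers_eq_bot.1 e), map_one])
    have h6 := pow_cod_modEq (ρ := ρ) hk (three _ hx3')
    rw [Nat.card_zmod] at h6
    have h7 : cod ρ (Subgroup.zpowers (x : Y)) ≠ 3 := fun e => by
      rw [e] at h6; exact absurd h6 (by decide)
    have hc := comm_sup_zpowers hxy'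
    have he := exp_sup_zpowers hxy' hy3' hx3'
    have hj2 : j * j = 1 := hπ (by rw [map_mul, hj, f3, map_one])
    have hj1 : j ≠ 1 := fun e => f4 (by rw [← hj, e, map_one])
    have hj2' : (j : Y) * j = 1 := congrArg Subtype.val hj2
    have hinv : ∀ r ∈ Subgroup.zpowers (x : Y) ⊔ Subgroup.zpowers (y : Y), (j : Y) * r * (j : Y)⁻¹ = r⁻¹ := by
      intro r hr
      rw [Subgroup.zpowers_eq_closure, Subgroup.zpowers_eq_closure, ← Subgroup.closure_union] at hr hc
      refine Subgroup.closure_induction ?_ (by simp) (fun u v hu hv h8 h9 => ?_) (fun u _ h8 => ?_) hr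
      · rintro _ (rfl | rfl)
        · exact congrArg Subtype.val (hπ (show π (j * x * j⁻¹) = π x⁻¹ by simp only [map_mul, map_inv, hx, hj, f5]))
        · exact congrArg Subtype.val (hπ (show π (j * y * j⁻¹) = π y⁻¹ by simp only [map_mul, map_inv, hy, hj, f6]))
      · rw [← conj_mul, h8, h9, ← mul_inv_rev, hc u hu v hv]
      · rw [← conj_inv, h8]
    have h8 := frobenius_bound (ρ := ρ) hc (card_ne_zero_of_exp Nat.prime_three h3k he)
      (A := Subgroup.zpowers (j : Y))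
      (Subgroup.zpowers_le.2 (Subgroup.mem_normalizer_fintype fun r hr => by rw [hinv r hr]; exact inv_mem hr))
      fun b hb hb1 r hr h9 => by
        rw [(mem_zpowers_two hj2' hb).resolve_left hb1] at h9
        have h10 := hinv r hr
        rw [h9, mul_inv_cancel_right, eq_inv_iff_mul_eq_one] at h10
        have h11 := he r hr
        rwa [pow_three', h10, one_mul] at h11
    rw [Nat.card_zpowers, order_two hj2' fun e => hj1 (Subtype.ext e)] at h8
    rw [cod_inv H hi hi1 hj2 hj1]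
    omega

omit [Finite V] in
theorem exists_u {a : Y} (ha2 : a * a = 1) (ha : ¬ NS (φ a)) {i : K} (hi : i * i = 1) (hi1 : i ≠ 1)
    (h : φ a (π i) = π i) :
    ∃ b : Y, b * i = i * b ∧ a * b * a⁻¹ * b⁻¹ * (a * b * a⁻¹ * b⁻¹) = i := by
  obtain ⟨t, h1, h2, h3⟩ := exists_t ha (by rw [← map_mul, ha2, map_one]) (x := π i)
    (by rw [← map_mul, hi, map_one]) (π_ne H hi hi1) h
  obtain ⟨b, rfl, hb⟩ := lift2 H h1
  have h4 : b * i * b⁻¹ = i := uniq H (by rw [map_mul, map_mul, map_inv, h2, mul_inv_cancel_right])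
    (by rw [conj_pow, four_of_sq hi]; simp) (four_of_sq hi)
  refine ⟨b, congrArg Subtype.val (mul_inv_eq_iff_eq_mul.1 h4), ?_⟩
  let b' : K := ⟨_, H.normal.conj_mem _ b.2 a⟩
  have h5 : φ a (π b) = π b' := H.conj a b b' rfl
  have h6 : b' * b' = 1 := Subtype.ext (by
    change a * b * a⁻¹ * (a * b * a⁻¹) = 1
    rw [conj_mul, show (b : Y) * b = 1 from congrArg Subtype.val hb]; simp)
  rw [h5, ← map_inv, ← map_mul, ← map_mul] at h3
  have h7 : b * (b' * b⁻¹) * b⁻¹ = (b' * b⁻¹)⁻¹ := by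
    rw [mul_inv_rev, inv_inv, inv_eq_of_mul_eq_one_right h6, inv_eq_of_mul_eq_one_right hb, mul_assoc, mul_assoc,
      hb, mul_one]
  generalize hu : b' * b⁻¹ = u at h3 h7
  have h8 : ((u ^ 4 : K) : Y) ∈ Subgroup.centralizer (K : Set Y) := H.toFrm.π_eq_one_iff.1 (by
    rw [show u ^ 4 = u * u * (u * u) by simp only [pow_succ, pow_zero, one_mul, mul_assoc], map_mul, h3,
      ← map_mul, hi, map_one])
  have h9 : b * u ^ 4 = u ^ 4 * b := Subtype.ext (h8 b b.2)
  have h10 : u ^ 4 * u ^ 4 = 1 := by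
    rw [← eq_inv_iff_mul_eq_one, ← inv_pow, ← h7, conj_pow, h9, mul_inv_cancel_right]
  have h11 : u * u = i := uniq H h3 (by rw [← sq, ← pow_mul, ← h10, ← pow_add]) (four_of_sq hi)
  rw [← hu] at h11
  exact congrArg Subtype.val h11

theorem pgl (hirr : Irr ρ K) (h3 : ∀ i : K, i * i = 1 → i ≠ 1 → 3 ≤ cod ρ (Subgroup.zpowers (i : Y)))
    {A : Subgroup Y} (hA : Off 2 ρ A) {a : Y} (haA : a ∈ A) (ha : ¬ NS (φ a)) : False := by
  classical
  have ha2 := sq_of hA.1 haA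
  have key : ∀ i : K, i * i = 1 → i ≠ 1 → φ a (π i) = π i → ∃ b : Y, b * i = i * b ∧
      4 ≤ cod ρ (Subgroup.zpowers (i : Y)) ∧ 6 ≤ cod ρ (Subgroup.zpowers (a * b * a⁻¹ * b⁻¹)) := fun i hi hi1 h => by
    obtain ⟨b, h1, h2⟩ := exists_u H ha2 ha hi hi1 h
    have h4 := four_le H hirr ha hi hi1 (h3 i hi hi1)
    have h5 := cod_sq (ρ := ρ) (u := a * b * a⁻¹ * b⁻¹) (by rw [h2]; exact congrArg Subtype.val hi)
    rw [h2] at h5
    exact ⟨b, h1, h4, by omega⟩
  by_cases h : ∃ y ∈ A, y ≠ 1 ∧ NS (φ y)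
  · obtain ⟨y, hy, hy1, h1⟩ := h
    obtain ⟨s, hs⟩ := inner_of_comm ha h1 (by rw [← map_mul, sq_of hA.1 hy, map_one])
      (by rw [← map_mul, ← map_mul, elemAb_comm hA.1 haA hy])
    have hK : y ∈ K := H.toFrm.mem_inn_iff.1 ⟨s, hs.symm⟩
    obtain ⟨b, h4, h5, h6⟩ := key ⟨y, hK⟩ (Subtype.ext (sq_of hA.1 hy)) (fun e => hy1 (congrArg Subtype.val e))
      (H.conj a _ _ (by rw [eq_mul_inv_iff_mul_eq]; exact elemAb_comm hA.1 hy haA))
    have h7 : Nat.card A ≤ 4 := H.toStp.card_map H.toFrm (elemAb_isPGroup hA.1) ▸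
      card_le_four (elemAb_map hA.1 φ) ⟨a, haA, rfl⟩ ha
    have h8 : cod ρ A ≤ 4 := (Nat.pow_le_pow_iff_right (a := 2) (by norm_num)).1
      (hA.2.2.trans (Nat.pow_le_pow_left h7 2))
    have h9 := cod_sup_add_inf (ρ := ρ) A (A.map (MulAut.conj b).toMonoidHom)
    have h10 : Subgroup.zpowers (a * b * a⁻¹ * b⁻¹) ≤ A ⊔ A.map (MulAut.conj b).toMonoidHom := by
      rw [Subgroup.zpowers_le, mul_assoc, mul_assoc, ← mul_assoc b]
      exact Subgroup.mul_mem_sup haA ⟨a⁻¹, inv_mem haA, rfl⟩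
    have h11 : Subgroup.zpowers y ≤ A ⊓ A.map (MulAut.conj b).toMonoidHom :=
      Subgroup.zpowers_le.2 ⟨hy, y, hy, mul_inv_eq_iff_eq_mul.2 h4⟩
    have h12 := cod_mono (ρ := ρ) h10
    have h13 := cod_mono (ρ := ρ) h11
    rw [cod_conj] at h9
    change 4 ≤ cod ρ (Subgroup.zpowers y) at h5
    omega
  · obtain ⟨s, h1, h2, h4⟩ := exists_fix (α := φ a) (by rw [← map_mul, ha2, map_one])
    obtain ⟨i, rfl, hi⟩ := lift2 H h1
    obtain ⟨b, -, -, h6⟩ := key i hi (fun e => h2 (by rw [e, map_one])) h4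
    have h5 : (A : Set Y) ⊆ ({1, a⁻¹} : Finset Y) := fun y hy => by
      simp only [Finset.coe_insert, Finset.coe_singleton, Set.mem_insert_iff, Set.mem_singleton_iff]
      by_cases h7 : NS (φ y)
      · exact Or.inl (by by_contra h8; exact h ⟨y, hy, h8, h7⟩)
      · refine Or.inr (eq_inv_of_mul_eq_one_left ?_)
        by_contra h8
        exact h ⟨_, mul_mem hy haA, h8, by rw [map_mul]; exact NS.mul_of_not h7 ha⟩
    have h7 : Nat.card A ≤ 2 := (Nat.card_mono (Finset.finite_toSet _) h5).trans (by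
      rw [Nat.card_coe_set_eq, Set.ncard_coe_finset]; exact Finset.card_le_two)
    have h8 : cod ρ A ≤ 2 := (Nat.pow_le_pow_iff_right (a := 2) (by norm_num)).1
      (hA.2.2.trans (Nat.pow_le_pow_left h7 2))
    have h9 := cod_zpowers_commutator_le (ρ := ρ) a b
    have h10 := cod_mono (ρ := ρ) (Subgroup.zpowers_le.2 haA)
    omega

end Cfsg.Agent.TwoF.Alt.Six
end

-- part: TwoF/Alt/Six
section
/-!
# TwoF: the row of `A₆` in characteristic two
-/

set_option autoImplicit false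

namespace Cfsg.Agent.TwoF.Alt.Six

open Module Gen Equiv Cfsg.Agent.StdAlt.Six
open scoped commutatorElement

theorem θ_facts : θ (swap 0 1) C0 = C0⁻¹ ∧ θ (swap 0 1) C1' = C1' ∧
    ({1, C0, C0 * C0, C1'} : Finset A6).card = 4 ∧ Perm.sign z = 1 ∧ z * z = 1 ∧ z ≠ 1 := by decide +kernel

theorem not_dvd_index : ¬ 3 ∣ (Subgroup.closure {C0, C1'} : Subgroup A6).index := by
  have := Fact.mk Nat.prime_three
  have h1 := exp_sup_zpowers (r := 3) C_facts.1 (by rw [pow_three', C_facts.2.1]) (by rw [pow_three', C0_cube])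
  rw [Subgroup.zpowers_eq_closure, Subgroup.zpowers_eq_closure, ← Subgroup.closure_union] at h1
  change ∀ a ∈ Subgroup.closure {C0, C1'}, _ at h1
  have m0 : C0 ∈ Subgroup.closure {C0, C1'} := Subgroup.subset_closure (Or.inl rfl)
  have m1 : C1' ∈ Subgroup.closure {C0, C1'} := Subgroup.subset_closure (Or.inr rfl)
  generalize Subgroup.closure {C0, C1'} = R at h1 m0 m1
  obtain ⟨n, hn⟩ := IsPGroup.exists_card_eq (p := 3) (G := R) fun a => ⟨1, Subtype.ext (by simpa only [_root_.pow_one, _root_.SubmonoidClass.coe_pow, _root_.OneMemClass.coe_one] using h1 a a.2)⟩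
  have h2 : ((({1, C0, C0 * C0, C1'} : Finset A6)) : Set A6) ⊆ R := fun x hx => by
    simp only [Finset.coe_insert, Finset.coe_singleton, Set.mem_insert_iff, Set.mem_singleton_iff] at hx
    rcases hx with rfl | rfl | rfl | rfl
    exacts [one_mem _, m0, mul_mem m0 m0, m1]
  have h3 := Nat.card_mono (Set.toFinite _) h2
  rw [Nat.card_coe_set_eq, Set.ncard_coe_finset, θ_facts.2.2.1] at h3
  change 4 ≤ Nat.card R at h3
  have h4 := R.card_mul_index
  rw [nat_card_alternatingGroup, Nat.card_eq_fintype_card (α := Fin 6), Fintype.card_fin, hn] at h4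
  rw [hn] at h3
  rintro ⟨m, hm⟩
  obtain ⟨n, rfl⟩ : ∃ k, n = k + 2 := ⟨n - 2, by rcases n with _ | _ | n <;> omega⟩
  rw [hm, show 3 ^ (n + 2) * (3 * m) = 27 * (3 ^ n * m) by ring] at h4
  norm_num [Nat.factorial] at h4
  omega

variable {Y : Type} [Group Y] [Finite Y] {V : Type} [AddCommGroup V] [Module (ZMod 2) V] [Finite V]
  {K : Subgroup Y} {ρ : Representation (ZMod 2) Y V} {π : K →* A6} {φ : Y →* MulAut A6} (H : Sit 2 K ρ π φ)
include H

omit [Finite V] in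
theorem kill {y : Y} (hy : φ y = θ (swap 0 1)) (hc : ∀ w ∈ Subgroup.centralizer (K : Set Y), y * w = w * y) :
    Function.Injective φ := by
  obtain ⟨a, ha⟩ := H.surj C0
  obtain ⟨b, hb⟩ := H.surj C1'
  have hZ : ∀ {w : K}, π w = 1 → ∀ x : K, x * w = w * x := fun h x =>
    Subtype.ext (H.toFrm.π_eq_one_iff.1 h x x.2)
  have h1 : π ⁅a, b⁆ = 1 := by
    rw [map_commutatorElement, commutatorElement_eq_one_iff_mul_comm, ha, hb, C_facts.1]
  let a' : K := ⟨_, H.normal.conj_mem _ a.2 y⟩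
  let b' : K := ⟨_, H.normal.conj_mem _ b.2 y⟩
  have h2 : π (a * a') = 1 := by rw [map_mul, ← H.conj y a a' rfl, hy, ha, θ_facts.1, mul_inv_cancel]
  have h3 : π (b⁻¹ * b') = 1 := by rw [map_mul, ← H.conj y b b' rfl, hy, map_inv, hb, θ_facts.2.1, inv_mul_cancel]
  have h4 : ⁅a', b'⁆ = ⁅a, b⁆ := Subtype.ext (by
    have h5 := hc _ (H.toFrm.π_eq_one_iff.1 h1)
    rw [← mul_inv_eq_iff_eq_mul] at h5
    rw [← h5]
    change y * a * y⁻¹ * (y * b * y⁻¹) * (y * a * y⁻¹)⁻¹ * (y * b * y⁻¹)⁻¹ = y * (a * b * (a : Y)⁻¹ * (b : Y)⁻¹) * y⁻¹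
    group)
  have h5 : ⁅a', b'⁆ = ⁅a, b⁆⁻¹ := by
    have e1 := hZ h2
    have e2 := hZ h3
    have e3 := hZ h1 a
    rw [← inv_mul_cancel_left a a', ← mul_inv_cancel_left b b']
    generalize a * a' = u at e1
    generalize b⁻¹ * b' = v at e2
    calc ⁅a⁻¹ * u, b * v⁆ = a⁻¹ * (u * (b * v)) * u⁻¹ * a * v⁻¹ * b⁻¹ := by rw [commutatorElement_def]; group
      _ = a⁻¹ * b * (v * a) * v⁻¹ * b⁻¹ := by rw [← e1]; group
      _ = (⁅a, b⁆ * a)⁻¹ * a := by rw [← e2, commutatorElement_def]; group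
      _ = _ := by rw [← e3]; group
  have h6 : ⁅a, b⁆ = 1 := uniq H (h1.trans (map_one π).symm)
    (four_of_sq (by rw [← eq_inv_iff_mul_eq_one, ← h5, h4])) (one_pow 4)
  refine (injective_iff_map_eq_one φ).2 fun w hw => ?_
  have h7 := H.toFrm.φ_eq_one_iff.1 hw
  have h8 := H47.Kill.exists_comm H.surj H.ker_π.le H.toStp.perfect.commutator_eq_top C_facts.1.symm ha hb
    (z := ⟨w, H.toFrm.cent h7⟩) (H.toFrm.π_eq_one_iff.2 h7)
  rw [h6, Subgroup.zpowers_one_eq_bot, Subgroup.mem_bot] at h8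
  have h9 : w ^ _ = 1 := congrArg Subtype.val h8
  exact orderOf_eq_one_iff.1 (Nat.eq_one_of_dvd_coprimes
    ((Nat.Prime.coprime_iff_not_dvd Nat.prime_three).2 not_dvd_index)
    (orderOf_dvd_of_pow_eq_one (cube H h7)) (orderOf_dvd_of_pow_eq_one h9))

theorem sym (h3 : ∀ i : K, i * i = 1 → i ≠ 1 → 3 ≤ cod ρ (Subgroup.zpowers (i : Y))) {A : Subgroup Y}
    (hA : Off 2 ρ A) (htop : K ⊔ A = ⊤) (hlin : LinOver ρ K A) (hK : ¬ A ≤ K) (hns : ∀ a ∈ A, NS (φ a)) : False := by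
  have h1 : ∀ y, φ y ∈ θ.range := fun y =>
    (sup_le (fun x hx => ns_iff.1 (H.toFrm.φ_coe ⟨x, hx⟩ ▸ NS.conj _)) fun a ha => ns_iff.1 (hns a ha) :
      K ⊔ A ≤ θ.range.comap φ) (htop ▸ Subgroup.mem_top y)
  have h2 : ∀ σ, Perm.sign σ = 1 → ∃ y ∈ K, φ y = θ σ := fun σ h => by
    obtain ⟨x, hx⟩ := H.surj ⟨σ, Perm.mem_alternatingGroup.2 h⟩
    exact ⟨x, x.2, by rw [H.toFrm.φ_coe, hx, ← θ_coe]⟩
  have h4 : ∀ σ, ∃ y, φ y = θ σ := fun σ => by
    rcases Int.units_eq_one_or (Perm.sign σ) with h | h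
    · exact (h2 σ h).imp fun _ h => h.2
    · obtain ⟨a, ha, h5⟩ := SetLike.not_le_iff_exists.1 hK
      obtain ⟨τ, hτ⟩ := h1 a
      have h6 : Perm.sign τ = -1 := (Int.units_eq_one_or _).resolve_left fun e =>
        h5 (H.toFrm.mem_inn_iff.1 ⟨⟨τ, Perm.mem_alternatingGroup.2 e⟩, by rw [← θ_coe, hτ]⟩)
      obtain ⟨y, -, hy⟩ := h2 (σ * τ⁻¹) (by rw [map_mul, map_inv, h, h6]; rfl)
      exact ⟨y * a, by rw [map_mul, hy, ← hτ, ← map_mul, inv_mul_cancel_right]⟩
  obtain ⟨y, hy⟩ := h4 (swap 0 1)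
  have hφ := kill H hy fun w hw => Subgroup.mem_centralizer_singleton_iff.1
    ((sup_le (fun x hx => Subgroup.mem_centralizer_singleton_iff.2 (hw x hx)) fun a ha =>
      Subgroup.mem_centralizer_singleton_iff.2 (H.faithful (by
        rw [map_mul, map_mul]
        exact (hlin _ (fun x hx => by rw [← map_mul, ← map_mul, hw x hx]) a ha).symm)) :
      K ⊔ A ≤ Subgroup.centralizer {w}) (htop ▸ Subgroup.mem_top y))
  choose j hj using h4
  let J : Perm (Fin 6) →* Y := MonoidHom.mk' j fun a b => hφ (by rw [map_mul, hj, hj, hj, map_mul])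
  have hJ : Function.Injective J := fun a b h => θ_inj (by rw [← hj, ← hj]; exact congrArg φ h)
  have hS : Function.Surjective J := fun y => (h1 y).imp fun σ h => hφ ((hj σ).trans h)
  rcases six (ρ := ρ.comp J) (H.faithful.comp hJ) (fun U hU => H.irr U fun b _ v hv => by
    obtain ⟨σ, rfl⟩ := hS b
    exact hU σ trivial v hv) with h | h
  · rw [cod_comp, MonoidHom.map_zpowers] at h
    obtain ⟨x, hx, h5⟩ := h2 z θ_facts.2.2.2.1
    have h6 : J z = x := hφ ((hj z).trans h5.symm)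
    have h7 := h3 ⟨x, hx⟩ (Subtype.ext (by
      change x * x = 1
      rw [← h6, ← map_mul, θ_facts.2.2.2.2.1, map_one])) fun e =>
        θ_facts.2.2.2.2.2 (hJ (by rw [h6, map_one]; exact congrArg Subtype.val e))
    rw [h6] at h
    change 3 ≤ cod ρ (Subgroup.zpowers x) at h7
    omega
  · have h5 := Subgroup.map_comap_eq_self_of_surjective hS A
    have h6 := h (A.comap J) ((elemAb_isPGroup hA.1).comap_of_injective J hJ) fun e =>
      hA.2.1 (by rw [← h5, e, Subgroup.map_bot])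
    rw [cod_comp, h5] at h6
    have h7 : Nat.card A ≤ 8 := H.toStp.card_map H.toFrm (elemAb_isPGroup hA.1) ▸
      card_le_eight _ (elemAb_map hA.1 φ)
    have h8 : cod ρ A ≤ 6 := (Nat.pow_le_pow_iff_right (a := 2) (by norm_num)).1
      (hA.2.2.trans (Nat.pow_le_pow_left h7 2))
    omega

omit H in
theorem row89 : Row89 2 A6 := row89_of_sit fun Y _ _ V _ _ _ K ρ π φ H A hA hirr htop hlin hK => by
  by_contra hn
  have h3 : ∀ i : K, i * i = 1 → i ≠ 1 → 3 ≤ cod ρ (Subgroup.zpowers (i : Y)) := fun i hi hi1 => by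
    by_contra h
    exact hn ⟨_, Subgroup.zpowers_le.2 i.2,
      off_zpowers (order_two (congrArg Subtype.val hi) fun e => hi1 (Subtype.ext e)) (by omega)⟩
  by_cases h : ∀ a ∈ A, NS (φ a)
  · exact sym H h3 hA htop hlin hK h
  · push Not at h
    obtain ⟨a, ha, h1⟩ := h
    exact pgl H hirr h3 hA ha h1

end Cfsg.Agent.TwoF.Alt.Six

namespace Cfsg.Agent.TwoF.Alt

theorem row_six : Row 2 (alternatingGroup (Fin 6)) := ⟨Six.row88, Six.row89⟩

end Cfsg.Agent.TwoF.Alt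
end

-- part: TwoF/Alt/Box
section
/-!
# The box of the alternating groups
-/

set_option autoImplicit false

namespace Cfsg.Agent.TwoF.Alt

theorem lie_five : IsLieTypeChar 2 (alternatingGroup (Fin 5)) := by
  have : Fintype (GaloisField 2 2) := Fintype.ofFinite _
  have hF : Fintype.card (GaloisField 2 2) = 4 := by
    rw [← Nat.card_eq_fintype_card, GaloisField.card _ _ (by norm_num)]; rfl
  obtain ⟨f⟩ := S0252.result hF
  exact Or.inl ⟨GaloisField 2 2, inferInstance, inferInstance, inferInstance, 2, le_rfl, fun _ => hF.ge, ⟨f.symm⟩⟩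

theorem lie_eight : IsLieTypeChar 2 (alternatingGroup (Fin 8)) := by
  obtain ⟨f⟩ := S0256.result (F := ZMod 2) (by decide)
  exact Or.inl ⟨ZMod 2, inferInstance, inferInstance, inferInstance, 4, by norm_num, fun h => by omega, ⟨f.symm⟩⟩

theorem boxAlt : BoxAlt := fun p _ n hn h => by
  by_cases hp : p = 2
  · subst hp
    by_cases h10 : 10 ≤ n
    · exact row_big h10
    obtain rfl | rfl | rfl | rfl | rfl : n = 5 ∨ n = 6 ∨ n = 7 ∨ n = 8 ∨ n = 9 := by omega
    exacts [(h lie_five).elim, row_six, row_seven, (h lie_eight).elim, row_nine]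
  · exact row_odd p hp n hn

end Cfsg.Agent.TwoF.Alt
end

private theorem dce_b1111d797adb : _root_.True := by
  try have : _root_.True := by simp only [_root_.Cfsg.Agent.TwoF.Alt.Six.B.eq_1]
  exact _root_.True.intro
end

-- part: TwoF/SpC/J3/Rank
section
set_option linter.all false
open scoped Cfsg.Agent.FastGrp

/-!
# TwoF SP-C : elementary abelian 2-groups of automorphisms of the third Janko group (helper55)

An automorphism fixing the involution `z` acts on the five involutions `v i` of `Q = O₂(C(z))` by a signed permutation.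
`rank_all` : the rank is at most four.  `rank_out` : the rank is at most three if the group is not inner.
-/

set_option autoImplicit false
set_option maxHeartbeats 400000

namespace Cfsg.Agent.TwoF.SpC.J3

open Subgroup Cfsg Cfsg.Agent.J2Type.Model Cfsg.Agent.J2Type.CStruct Cfsg.Agent.J3Type.OneClass
open Cfsg.Agent.KFacts Cfsg.Agent.KFacts.J3Sheet Cfsg.Agent.TwoF.Gen

/-- a group of automorphisms of order a power of `p` fixes an element of order `p` -/
theorem exists_fix {p : ℕ} [Fact p.Prime] {K : Type*} [Group K] [Finite K] (h : p ∣ Nat.card K)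
    {E : Subgroup (MulAut K)} (hE : IsPGroup p E) : ∃ t : K, orderOf t = p ∧ ∀ α ∈ E, α t = t := by
  have h1 := hE.card_modEq_card_fixedPoints K
  have h2 : p ∣ Nat.card (FixedPoints.subgroup E K) := (h1.dvd_iff dvd_rfl).1 h
  obtain ⟨t, ht⟩ := exists_prime_orderOf_dvd_card' p h2
  exact ⟨t, by rw [orderOf_coe, ht], fun α hα => t.2 ⟨α, hα⟩⟩

set_option synthInstance.maxSize 4000 in
set_option synthInstance.maxHeartbeats 200000 in
theorem fin_sign : ∀ σ : Equiv.Perm (Fin 5), σ * σ = 1 → Equiv.Perm.sign σ ≠ 1 → ∀ τ : Equiv.Perm (Fin 5),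
    τ * τ = 1 → σ * τ = τ * σ → τ ≠ 1 → τ ≠ σ → ∀ e : Fin 5, σ e = e → τ e = e → ∀ s : Fin 5 → ZMod 2, s e = 0 →
      (∀ i, s (σ i) = s i) → (∀ i, σ i = i → s (τ i) = s i) → ∑ i, s i = 0 := by
  (set_option synthInstance.maxSize 9000 in open scoped Cfsg.Agent.Lib.FastPerm in decide +kernel)

theorem card_perm_le {B : Subgroup (Equiv.Perm (Fin 5))} (hB : IsElementaryAbelian 2 B) : Nat.card B ≤ 4 := by
  have h1 : (Equiv.swap (0 : Fin 5) 1 * Equiv.swap (1 : Fin 5) 2 * Equiv.swap (2 : Fin 5) 3 : Equiv.Perm (Fin 5)) ^ 2 ^ 2 = 1 := by decide +kernel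
  have h2 : (Equiv.swap (0 : Fin 5) 1 * Equiv.swap (1 : Fin 5) 2 * Equiv.swap (2 : Fin 5) 3 : Equiv.Perm (Fin 5)) ^ 2 ≠ 1 := by decide +kernel
  refine XE.card_le_of_not_elemAb (r₀ := 2) (Q := zpowers (Equiv.swap (0 : Fin 5) 1 * Equiv.swap (1 : Fin 5) 2 * Equiv.swap (2 : Fin 5) 3)) ?_ ?_
    (fun h => h2 (h.2 _ (mem_zpowers _))) B hB
  · rw [Nat.card_perm, Nat.card_eq_fintype_card, Fintype.card_fin]
    decide
  · rintro ⟨_, k, rfl⟩
    exact ⟨2, Subtype.ext (by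
      rw [SubmonoidClass.coe_pow, coe_one, ← zpow_natCast, ← zpow_mul, mul_comm, zpow_mul, zpow_natCast, h1, one_zpow])⟩

variable {K : Type} [Group K] {z : K} {Q : Subgroup (centralizer ({z} : Set K))}
  {v : Fin 5 → centralizer ({z} : Set K)} {ρ : centralizer ({z} : Set K) →* SP}

/-- `α` acts on the `v i` as the signed permutation `g` -/
def Sg (z : K) (v : Fin 5 → centralizer ({z} : Set K)) (α : MulAut K) (g : SP) : Prop :=
  ∀ i, α (v i : K) = ((zp (zc z) (g.s i) * v (g.σ i) : centralizer ({z} : Set K)) : K)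

theorem map_zp {α : MulAut K} (hα : α z = z) (a : ZMod 2) :
    α ((zp (zc z) a : centralizer ({z} : Set K)) : K) = (zp (zc z) a : centralizer ({z} : Set K)) := by
  rcases zmod2_cases a with rfl | rfl
  · rw [zp_zero, coe_one, map_one]
  · rw [zp_one]
    exact hα

theorem Sg.unique (M : IsModel Q (zc z) v ρ) {α : MulAut K} {g h : SP} (h1 : Sg z v α g) (h2 : Sg z v α h) :
    g = h := by
  have h3 := fun i => M.v_inj _ _ _ _ (Subtype.ext ((h1 i).symm.trans (h2 i)))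
  exact SP.ext (Equiv.ext fun i => (h3 i).2) (funext fun i => (h3 i).1)

theorem Sg.mul (M : IsModel Q (zc z) v ρ) {α β : MulAut K} (hα : α z = z) {g h : SP} (h1 : Sg z v α g)
    (h2 : Sg z v β h) : Sg z v (α * β) (g * h) := fun i => by
  rw [MulAut.mul_apply, h2 i, coe_mul, map_mul, map_zp hα, h1, mul_s, mul_σ, zp_add _ M.z_sq, ← coe_mul, ← mul_assoc]
  rfl

theorem sg_conj (M : IsModel Q (zc z) v ρ) (c : centralizer ({z} : Set K)) :
    Sg z v (MulAut.conj (c : K)) (ρ c) := fun i => congrArg Subtype.val (M.conj c i)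

theorem Sg.permOf (M : IsModel Q (zc z) v ρ) {α : MulAut K} {g : SP} (h : Sg z v α g) : PermOf v α g.σ := fun i => by
  rw [h i]
  exact eqz_zp M _ _

theorem exists_sg [Finite K] (hc : Nat.card (centralizer ({z} : Set K)) = 1920) (M : IsModel Q (zc z) v ρ)
    {α : MulAut K} (hα : α z = z) : ∃ g, Sg z v α g := by
  obtain ⟨σ, hσ⟩ := exists_perm hc M hα
  have h1 : ∀ i, ∃ a, α (v i : K) = ((zp (zc z) a * v (σ i) : centralizer ({z} : Set K)) : K) := fun i => by
    rcases hσ i with h | h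
    · exact ⟨0, by rw [zp_zero, one_mul, h]⟩
    · exact ⟨1, by rw [zp_one, ← M.z_comm, h]; rfl⟩
  choose s hs using h1
  exact ⟨⟨σ, s⟩, hs⟩

theorem Sg.sum (M : IsModel Q (zc z) v ρ) {α : MulAut K} {g : SP} (h : Sg z v α g)
    (hσ : Equiv.Perm.sign g.σ ≠ 1) : ∑ i, g.s i ≠ 0 := by
  intro h0
  have h1 := congrArg (fun x : centralizer ({z} : Set K) => α x) M.v_prod
  simp only [coe_mul, map_mul, coe_one, map_one] at h1
  rw [h 0, h 1, h 2, h 3, h 4, ← coe_mul, ← coe_mul, ← coe_mul, ← coe_mul] at h1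
  have h2 := prod_perm M.z_sq M.z_comm v M.v_anti M.v_prod g.σ
  rw [if_neg hσ, zp_one] at h2
  have h3 : ∀ (a b : ZMod 2) (x y : centralizer ({z} : Set K)),
      zp (zc z) a * x * (zp (zc z) b * y) = zp (zc z) (a + b) * (x * y) := fun a b x y => by
    rw [zp_add _ M.z_sq, mul_assoc, ← mul_assoc x, zp_comm _ M.z_comm b x]
    simp only [mul_assoc]
  rw [h3, h3, h3, h3, h2, ← Fin.sum_univ_five, h0, zp_zero, one_mul] at h1
  exact M.z_ne (Subtype.ext h1)

variable {n : K} {u : centralizer ({z} : Set K)} {E : Subgroup (MulAut K)}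

theorem inner_even [Finite K] (F : J3.Facts z Q v ρ n u) {α : MulAut K} (hα : α z = z) {g : SP} (h : Sg z v α g)
    (hσ : Equiv.Perm.sign g.σ = 1) : ∃ k : centralizer ({z} : Set K), α = MulAut.conj (k : K) ∧ ρ k = g := by
  have M := F.model
  obtain ⟨k, rfl⟩ := inner_of_even F.card_C M (n₀ := n) (by rw [F.nz]; exact ⟨v 0, M.v_mem 0, rfl⟩) (by
    rw [F.nz]
    intro e
    have h1 := zv_ne_z M 0 0
    rw [zp_zero, one_mul] at h1
    exact h1 (Subtype.ext e)) F.gen hα (h.permOf M) hσ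
  have hk : k ∈ centralizer ({z} : Set K) := by
    rw [mem_centralizer_singleton_iff]
    exact mul_inv_eq_iff_eq_mul.1 hα
  exact ⟨⟨k, hk⟩, rfl, (sg_conj M ⟨k, hk⟩).unique M h⟩

/-- the action on the five classes -/
theorem exists_hom [Finite K] (F : J3.Facts z Q v ρ n u) (hz : ∀ α ∈ E, α z = z) :
    ∃ (g : E → SP) (f : E →* Equiv.Perm (Fin 5)), ∀ α : E, Sg z v α (g α) ∧ f α = (g α).σ := by
  choose g hg using fun α : E => exists_sg F.card_C F.model (hz α α.2)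
  refine ⟨g, MonoidHom.mk' (fun α => (g α).σ) fun α β => ?_, fun α => ⟨hg α, rfl⟩⟩
  rw [(hg (α * β)).unique F.model ((hg α).mul F.model (hz α α.2) (hg β)), mul_σ]

theorem ker_elt [Finite K] (F : J3.Facts z Q v ρ n u) (hZ : center K = ⊥) {α : MulAut K} (hα : α z = z)
    (h2 : α ^ 2 = 1) {g : SP} (h : Sg z v α g) (hσ : g.σ = 1) :
    ∃ k ∈ Q, α = MulAut.conj (k : K) ∧ k * k = 1 := by
  obtain ⟨k, rfl, rfl⟩ := inner_even F hα h (by rw [hσ, map_one])
  refine ⟨k, (F.model.mem_Q k).2 hσ, rfl, Subtype.ext ((XE.conj_eq_one_iff hZ).1 ?_)⟩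
  rw [coe_mul, map_mul, ← pow_two, h2]

theorem card_ker_le [Finite K] (F : J3.Facts z Q v ρ n u) (hZ : center K = ⊥) (hE : IsElementaryAbelian 2 E)
    (hz : ∀ α ∈ E, α z = z) {g : E → SP} {f : E →* Equiv.Perm (Fin 5)}
    (hf : ∀ α : E, Sg z v α (g α) ∧ f α = (g α).σ) : Nat.card f.ker ≤ 4 := by
  have h1 : ∀ α ∈ f.ker.map E.subtype, ∃ k ∈ Q, α = MulAut.conj (k : K) ∧ k * k = 1 := by
    rintro _ ⟨α, hα, rfl⟩
    exact ker_elt F hZ (hz α α.2) (hE.2 α α.2) (hf α).1 ((hf α).2.symm.trans hα)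
  have hi : Function.Injective (MulAut.conj : K →* MulAut K) :=
    (injective_iff_map_eq_one _).2 fun x => (XE.conj_eq_one_iff hZ).1
  have h2 := Omega.TwoF.RowJ3.card_le_Q F.model ((f.ker.map E.subtype).comap MulAut.conj) (fun x hx => by
    obtain ⟨k, hk, e, -⟩ := h1 _ hx
    exact ⟨k, hk, (hi e).symm⟩) (fun x hx => by
    obtain ⟨k, -, e, hk⟩ := h1 _ hx
    rw [hi e]
    exact congrArg Subtype.val hk)
  rw [← card_map_of_injective hi, map_comap_eq_self (fun α hα => by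
    obtain ⟨k, -, e, -⟩ := h1 α hα
    exact ⟨k, e.symm⟩), card_map_of_injective E.subtype_injective] at h2
  exact h2

theorem card_eq {G H : Type*} [Group G] [Group H] (f : G →* H) : Nat.card G = Nat.card f.ker * Nat.card f.range := by
  rw [← index_ker, card_mul_index]

theorem range_elemAb (hE : IsElementaryAbelian 2 E) (f : E →* Equiv.Perm (Fin 5)) : IsElementaryAbelian 2 f.range := by
  refine ⟨⟨⟨?_⟩⟩, ?_⟩
  · rintro ⟨_, a, rfl⟩ ⟨_, b, rfl⟩
    refine Subtype.ext ?_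
    rw [coe_mul, coe_mul, ← map_mul, ← map_mul, hE.1.is_comm.comm]
  · rintro _ ⟨a, rfl⟩
    rw [← map_pow, show a ^ 2 = 1 from Subtype.ext (hE.2 a a.2), map_one]

theorem fix_all [Finite K] (F : J3.Facts z Q v ρ n u) (hZ : center K = ⊥) (hE : IsElementaryAbelian 2 E)
    (hz : ∀ α ∈ E, α z = z) : Nat.card E ≤ 16 := by
  obtain ⟨g, f, hf⟩ := exists_hom F hz
  rw [card_eq f]
  exact Nat.mul_le_mul (card_ker_le F hZ hE hz hf) (card_perm_le (range_elemAb hE f))

theorem fix_out [Finite K] (F : J3.Facts z Q v ρ n u) (hZ : center K = ⊥) (hE : IsElementaryAbelian 2 E)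
    (hz : ∀ α ∈ E, α z = z) (hn : ¬ E ≤ Inn K) : Nat.card E ≤ 8 := by
  have M := F.model
  obtain ⟨g, f, hf⟩ := exists_hom F hz
  obtain ⟨α, hα, hα'⟩ := SetLike.not_le_iff_exists.1 hn
  lift α to E using hα
  have hs : Equiv.Perm.sign (g α).σ ≠ 1 := fun e => by
    obtain ⟨k, hk, -⟩ := inner_even F (hz α α.2) (hf α).1 e
    exact hα' ⟨k, hk.symm⟩
  have hm : ∀ a b : E, g (a * b) = g a * g b := fun a b =>
    (hf (a * b)).1.unique M ((hf a).1.mul M (hz a a.2) (hf b).1)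
  have hsq : ∀ a : E, a * a = 1 := fun a => Subtype.ext (by rw [← pow_two]; exact hE.2 a a.2)
  have hg1 : g 1 = 1 := by
    have := hm 1 1
    rwa [mul_one, left_eq_mul] at this
  rw [card_eq f]
  by_cases hb : ∀ β : E, f β = 1 ∨ f β = f α
  · refine Nat.mul_le_mul (card_ker_le F hZ hE hz hf) (?_ : _ ≤ 2)
    have h1 : (f.range : Set (Equiv.Perm (Fin 5))) ⊆ {1, f α} := by
      rintro _ ⟨β, rfl⟩
      exact hb β
    exact (Set.ncard_le_ncard h1).trans (Set.ncard_insert_le _ _ |>.trans (by rw [Set.ncard_singleton]))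
  push Not at hb
  obtain ⟨β, hb1, hb2⟩ := hb
  refine Nat.mul_le_mul (?_ : _ ≤ 2) (card_perm_le (range_elemAb hE f))
  rw [← card_map_of_injective E.subtype_injective]
  have h1 : (f.ker.map E.subtype : Set (MulAut K)) ⊆ {1, MulAut.conj z} := by
    rintro _ ⟨γ, hγ, rfl⟩
    obtain ⟨k, hk, e, hk2⟩ := ker_elt F hZ (hz γ γ.2) (hE.2 γ γ.2) (hf γ).1 ((hf γ).2.symm.trans hγ)
    by_cases k1 : k = 1
    · left
      rw [coe_subtype, e, k1, coe_one, map_one]
    rcases invol_Q M hk hk2 k1 with h | ⟨a, i, h⟩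
    · right
      rw [coe_subtype, e, h]
      rfl
    exfalso
    have hfix : ∀ δ : E, (g δ).s i = 0 ∧ (g δ).σ i = i := fun δ => by
      have h3 : (δ : MulAut K) (k : K) = k := by
        have h4 : (δ : MulAut K) * γ = γ * δ := congrArg Subtype.val (hE.1.is_comm.comm δ γ)
        rw [← mul_inv_eq_iff_eq_mul, e, ← XE.conj_apply, ← mul_inv_eq_one, ← map_inv, ← map_mul,
          XE.conj_eq_one_iff hZ] at h4
        exact mul_inv_eq_one.1 h4
      rw [h, coe_mul, map_mul, map_zp (hz δ δ.2), mul_right_inj, (hf δ).1 i] at h3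
      exact M.v_inj _ 0 _ _ (by rw [zp_zero, one_mul]; exact Subtype.ext h3)
    refine (hf α).1.sum M hs (fin_sign (g α).σ ?_ hs (g β).σ ?_ ?_ ?_ ?_ i (hfix α).2 (hfix β).2 _ (hfix α).1 ?_ ?_)
    · rw [← mul_σ, ← hm, hsq, hg1, one_σ]
    · rw [← mul_σ, ← hm, hsq, hg1, one_σ]
    · rw [← mul_σ, ← hm, hE.1.is_comm.comm, hm, mul_σ]
    · rwa [← (hf β).2]
    · rwa [← (hf β).2, ← (hf α).2]
    · intro j
      have h3 := mul_s (g α) (g α) j
      rw [← hm, hsq, hg1, one_s, eq_comm, add_eq_zero_iff_eq_neg, ZMod.neg_eq_self_mod_two] at h3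
      exact h3.symm
    · intro j hj
      have h3 := mul_s (g α) (g β) j
      rw [← hm, hE.1.is_comm.comm, hm, mul_s, hj, add_comm, add_right_inj] at h3
      exact h3.symm
  exact (Set.ncard_le_ncard h1).trans (Set.ncard_insert_le _ _ |>.trans (by rw [Set.ncard_singleton]))

/-- every 2-group of automorphisms is conjugate to one that fixes `z` -/
theorem exists_conj_fix [Finite K] (F : J3.Facts z Q v ρ n u) (hE : IsPGroup 2 E) :
    ∃ β : MulAut K, ∀ α ∈ E.map (MulAut.conj β).toMonoidHom, α z = z := by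
  obtain ⟨t, ht, h⟩ := exists_fix (p := 2) (by rw [F.card_K]; norm_num) hE
  obtain ⟨g, rfl⟩ := F.one t (fun e => by rw [e, orderOf_one] at ht; omega)
    (by rw [← pow_two, ← ht, pow_orderOf_eq_one])
  refine ⟨(MulAut.conj g)⁻¹, ?_⟩
  rintro _ ⟨α, hα, rfl⟩
  show (MulAut.conj g)⁻¹ (α ((MulAut.conj g)⁻¹⁻¹ z)) = z
  rw [inv_inv, MulAut.conj_apply, h α hα, MulAut.conj_inv_apply]
  group

theorem card_conj (β : MulAut K) : Nat.card (E.map (MulAut.conj β).toMonoidHom) = Nat.card E :=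
  card_map_of_injective (MulAut.conj β).injective

theorem rank_all [Finite K] (F : J3.Facts z Q v ρ n u) (hZ : center K = ⊥) (hE : IsElementaryAbelian 2 E) :
    Nat.card E ≤ 16 := by
  obtain ⟨β, h⟩ := exists_conj_fix F (elemAb_isPGroup hE)
  rw [← card_conj β]
  exact fix_all F hZ (elemAb_map hE _) h

theorem rank_out [Finite K] (F : J3.Facts z Q v ρ n u) (hZ : center K = ⊥) (hE : IsElementaryAbelian 2 E)
    (hn : ¬ E ≤ Inn K) : Nat.card E ≤ 8 := by
  obtain ⟨β, h⟩ := exists_conj_fix F (elemAb_isPGroup hE)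
  rw [← card_conj β]
  exact fix_out F hZ (elemAb_map hE _) h (XE.not_le_inn_conj β hn)

end Cfsg.Agent.TwoF.SpC.J3
end

-- part: TwoF/SpC/J3/Row
section
set_option linter.all false
open scoped Cfsg.Agent.FastGrp

/-!
# TwoF SP-C : the row of the third Janko group (helper55)
-/

set_option autoImplicit false
set_option maxHeartbeats 400000

namespace Cfsg.Agent.TwoF.SpC.J3

open Subgroup Cfsg Cfsg.Spor Cfsg.Agent.J2Type.Model Cfsg.Agent.J2Type.CStruct Cfsg.Agent.J3Type.OneClass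
open Cfsg.Agent.KFacts Cfsg.Agent.TwoF.Gen Cfsg.Agent.TwoF.XE Cfsg.Agent.J3.Core

section gen

variable {p : ℕ} [Fact p.Prime] {S : Type} [Group S]

/-- the codimension for an automorphism of prime order `s` is a multiple of the order of `p` modulo `s` -/
theorem le_up {α : MulAut S} {s n c : ℕ} (hs : s.Prime) (hsp : s ≠ p) (h2 : α ^ s = 1) (h : Le p α n)
    (hn : ∀ d < c, n ≤ d → p ^ d % s ≠ 1 % s) : Le p α c := le_of_elt fun Y _ _ V _ _ _ K ρ π φ H y hy => by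
  have : Fact s.Prime := ⟨hs⟩
  obtain ⟨k, m, hm, e⟩ := Nat.exists_eq_pow_mul_and_not_dvd (orderOf_pos y).ne' s hs.one_lt.ne'
  have h0 : m ≠ 0 := fun e => hm (e ▸ dvd_zero s)
  have h1 : IsPGroup s (zpowers (y ^ m)) := IsPGroup.of_card (n := k) (by
    rw [Nat.card_zpowers, orderOf_pow' y h0, e, Nat.gcd_eq_right (dvd_mul_left _ _),
      Nat.mul_div_cancel _ (Nat.pos_of_ne_zero h0)])
  have h3 : n ≤ cod ρ (zpowers (y ^ m)) := h Y V K ρ π φ H _ (by
    rw [MonoidHom.map_zpowers, map_pow, hy, zpowers_le, mem_zpowers_pow_iff]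
    exact (((Nat.Prime.coprime_iff_not_dvd hs).2 hm).symm.coprime_dvd_right (orderOf_dvd_of_pow_eq_one h2)))
  have h4 := pow_cod_modEq (ρ := ρ) (s := s) (by
    rw [Nat.card_zmod]
    exact fun e => hsp ((Nat.prime_dvd_prime_iff_eq hs Fact.out).1 e)) h1
  rw [Nat.card_zmod] at h4
  exact (le_of_not_gt fun e => hn _ e h3 h4).trans (XL.cod_le_of_mem (pow_mem (mem_zpowers y) m))

theorem li_ord (hZ : center S = ⊥) {x : S} {s n : ℕ} (hs : s.Prime) (hsp : s ≠ p) (hx : orderOf x = s)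
    (hn : ∀ d < n, 0 < d → p ^ d % s ≠ 1 % s) : Li p x n :=
  Li.of_prime hZ hs hsp (fun e => by rw [e, orderOf_one] at hx; exact hs.one_lt.ne hx)
    (by rw [← hx, pow_orderOf_eq_one]) fun d h1 h2 => hn d h2 h1

theorem conj_inj (hZ : center S = ⊥) : Function.Injective (MulAut.conj : S →* MulAut S) :=
  (injective_iff_map_eq_one _).2 fun _ => (conj_eq_one_iff hZ).1

theorem exists_inner_two [Finite S] (hZ : center S = ⊥) (ho : Nat.card (Out S) = 2) {E : Subgroup (MulAut S)}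
    (hE : IsElementaryAbelian 2 E) (h : 2 < Nat.card E) : ∃ t : S, t ≠ 1 ∧ t * t = 1 ∧ MulAut.conj t ∈ E := by
  have : Finite (Out S) := Nat.finite_of_card_ne_zero (by rw [ho]; norm_num)
  have h1 := card_eq ((QuotientGroup.mk' (Inn S)).comp E.subtype)
  have h2 : Nat.card ((QuotientGroup.mk' (Inn S)).comp E.subtype).range ≤ 2 := ho ▸ card_le_card_group _
  have h3 : ((QuotientGroup.mk' (Inn S)).comp E.subtype).ker ≠ ⊥ := fun e => by
    rw [e, card_bot] at h1
    omega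
  obtain ⟨⟨α, hα⟩, h4⟩ := ne_bot_iff_exists_ne_one.1 h3
  obtain ⟨t, ht⟩ : (α : MulAut S) ∈ Inn S := (QuotientGroup.eq_one_iff _).1 hα
  refine ⟨t, fun e => h4 (Subtype.ext (Subtype.ext ?_)), (conj_eq_one_iff hZ).1 ?_, ht ▸ α.2⟩
  · rw [e, map_one] at ht
    exact ht.symm
  · rw [map_mul, ht, ← pow_two, hE.2 α α.2]

end gen

section two

variable {K : Type} [Group K] [Finite K] {z : K} {Q : Subgroup (centralizer ({z} : Set K))}
  {v : Fin 5 → centralizer ({z} : Set K)} {ρ : centralizer ({z} : Set K) →* SP} {n : K}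
  {u : centralizer ({z} : Set K)}

/-- an outer automorphism fixing `z` -/
theorem le_out (F : J3.Facts z Q v ρ n u) (hz : Li 2 z 8) {α : MulAut K} (hα : α z = z) (hn : α ∉ Inn K) :
    Le 2 α 3 := by
  have M := F.model
  obtain ⟨g, hg⟩ := exists_sg F.card_C M hα
  obtain ⟨a, ha⟩ : ∃ a, g.σ a ≠ a := by
    by_contra h
    push Not at h
    obtain ⟨k, hk, -⟩ := inner_even F hα hg (by rw [show g.σ = 1 from Equiv.ext h, map_one])
    exact hn ⟨k, hk.symm⟩
  refine Le.comm (v a : K) (Li.of_pow 2 (n := 8) ?_) (by norm_num)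
  have h1 : (zp (zc z) (g.s a) * v (g.σ a) * (v a)⁻¹) ^ 2 = zc z := by
    rw [inv_eq_of_mul_eq_one_right (M.v_sq a), mul_assoc, (show Commute _ _ from (zp_comm _ M.z_comm _ _).symm).mul_pow,
      pow_two, zp_self _ M.z_sq, one_mul, pow_two]
    nth_rewrite 1 [M.v_anti _ _ ha]
    rw [mul_assoc, mul_assoc, ← mul_assoc (v (g.σ a)), M.v_sq, one_mul, M.v_sq, mul_one]
  rw [hg a, ← coe_inv, ← coe_mul, ← SubmonoidClass.coe_pow, h1]
  exact hz

theorem row_two (F : J3.Facts z Q v ρ n u) (hZ : center K = ⊥) (ho : Nat.card (Out K) = 2) (hz : Li 2 z 8) :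
    Row 2 K := by
  have h1 : ∀ E : Subgroup (MulAut K), IsElementaryAbelian 2 E → 2 < Nat.card E → ∃ d ∈ E, Le 2 d 8 := fun E hE h => by
    obtain ⟨t, t1, t2, ht⟩ := exists_inner_two hZ ho hE h
    obtain ⟨g, rfl⟩ := F.one t t1 t2
    exact ⟨_, ht, hz.conj g⟩
  have h2 : ∀ {r e : ℕ}, 2 ^ r ≤ 2 ^ e → r ≤ e := fun h => (Nat.pow_le_pow_iff_right (by norm_num)).1 h
  refine ⟨row88_two fun E hE r hr hc => Or.inr ?_, row89_of_lo fun E hE hn r hr hc => ?_⟩
  · obtain ⟨d, hd, h⟩ := h1 E hE (hc ▸ lt_of_lt_of_le (by norm_num) (Nat.pow_le_pow_right (by norm_num) hr))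
    have := h2 (e := 4) (hc ▸ rank_all F hZ hE)
    exact ⟨d, hd, h.le (by omega)⟩
  have h3 := h2 (e := 3) (hc ▸ rank_out F hZ hE hn)
  by_cases h4 : r = 1
  · obtain ⟨β, h⟩ := exists_conj_fix F (elemAb_isPGroup hE)
    obtain ⟨α, hα, hα'⟩ := SetLike.not_le_iff_exists.1 (not_le_inn_conj β hn)
    exact Lo.of_conj β (((le_out F hz (h α hα) hα').lo hα).le (by omega))
  · obtain ⟨d, hd, h⟩ := h1 E hE
      (hc ▸ lt_of_lt_of_le (by norm_num) (Nat.pow_le_pow_right (by norm_num) (show 2 ≤ r by omega)))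
    exact (h.lo hd).le (by omega)

end two

section model

variable {F : Type} [Field F] [Fintype F] {ω : F}

theorem row_model (hF : Fintype.card F = 4) (hω : ω ^ 2 + ω + 1 = 0) (p : ℕ) [hp : Fact p.Prime] :
    Row p (J3 F ω) := by
  have H := good_of_card hF hω
  obtain ⟨hs, z, Q, v, ρ, n, u, X⟩ := J3.exists_facts (SP.NJ3.iso hF H)
  have hfin : Finite (J3 F ω) := Nat.finite_of_card_ne_zero (by rw [X.card_K]; norm_num)
  have hZ : center (J3 F ω) = ⊥ := OddHalf.Table.OutBasic.center_eq_bot (by rw [X.card_K]; norm_num)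
  have ho := S2067.result hF ω hω
  by_cases h2 : p = 2
  · subst h2
    obtain ⟨t, g, h, ht, h17, h19⟩ := two_cert hF H
    have l19 := li_ord (p := 2) (n := 18) hZ (by norm_num) (by norm_num) h19 (by decide)
    have l17 : Li 2 (t * (g * t * g⁻¹)) 16 := le_up (s := 17) (by norm_num) (by norm_num)
      (by rw [← map_pow, h17, map_one]) (Li.two (c := 9) h l19 (by norm_num)) (by decide)
    obtain ⟨c, hc⟩ := X.one t (fun e => by rw [e, orderOf_one] at ht; omega)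
      (by rw [← pow_two, ← ht, pow_orderOf_eq_one])
    exact row_two X hZ ho ((Li.two (c := 8) g l17 (by norm_num)).of_isConj (isConj_iff.2 ⟨c, hc⟩).symm)
  have ho' : ¬ p ∣ Nat.card (Out (J3 F ω)) := fun e =>
    h2 ((Nat.prime_dvd_prime_iff_eq hp.out Nat.prime_two).1 (ho ▸ e))
  by_cases h3 : p = 3
  · subst h3
    refine ⟨row88_of_lo fun E hE r hr hc => ?_, row89_of_not_dvd ho'⟩
    have h4 : E ≤ Inn (J3 F ω) := fun α hα => by
      by_cases e : α = 1
      · exact e ▸ one_mem _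
      · obtain ⟨x, hx, -⟩ := exists_inner hZ ho' e (hE.2 α hα)
        exact ⟨x, hx.symm⟩
    have h5 : Nat.card (E.comap (MulAut.conj : J3 F ω →* _)) = 3 ^ r := by
      rw [← card_map_of_injective (conj_inj hZ), map_comap_eq_self h4, hc]
    rw [small_three] at hr
    obtain ⟨h6, e, he, g, h19⟩ := three_cert hF H (E := E.comap MulAut.conj)
      (fun x hx => (conj_eq_one_iff hZ).1 (by rw [map_pow]; exact hE.2 _ hx))
      (h5 ▸ Nat.pow_le_pow_right (n := 3) (i := 3) (by norm_num) hr)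
    have h7 : r = 3 := Nat.pow_right_injective (a := 3) (a₂ := 3) (by norm_num) (h5.symm.trans h6)
    have l19 := li_ord (p := 3) (n := 18) hZ (by norm_num) (by norm_num) h19 (by decide)
    exact ((Li.two (c := 7) g l19 (by norm_num)).lo he).le (by omega)
  refine row_of_not_sq ho' ?_
  rw [X.card_K, show 50232960 = 2 ^ 7 * 3 ^ 5 * 1615 by norm_num]
  exact not_sq_dvd hp.out (Nat.Coprime.mul_right (((Nat.coprime_primes hp.out Nat.prime_two).2 h2).pow_right 7)
    (((Nat.coprime_primes hp.out Nat.prime_three).2 h3).pow_right 5)) (by decide +kernel)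

end model

/-- **the row of `J3`** -/
theorem row (S : Type) [Group S] (h : IsoJ3 S) (p : ℕ) [Fact p.Prime] : Row p S := by
  obtain ⟨F, _, _, ω, hF, hω, ⟨e⟩⟩ := h
  exact (row_model hF hω p).of_equiv e

end Cfsg.Agent.TwoF.SpC.J3
end
end
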